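import Cfsg.Agent.Lib.ONT.Tw0
import Cfsg.Agent.Lib.Core.PCore
import Cfsg.Agent.S0215
import Cfsg.Agent.S3225

/-! Sylow theory, fusion and transfer in `N` (helper84). -/

set_option autoImplicit false
set_option linter.unusedSectionVars false

namespace H97.ONT.Tw

open Subgroup

variable {G : Type*} [Group G] [Finite G] {W : Tw G}

theorem syl_of_odd {S L : Subgroup G} (hp : IsPGroup 2 S) (ho : Odd (S.relIndex L)) :
    ∃ P : Sylow 2 L, (P : Subgroup L) = S.subgroupOf L :=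
  ⟨hp.comap_subtype.toSylow fun h => Nat.not_even_iff_odd.2 ho (even_iff_two_dvd.2 h), rfl⟩

theorem conj_of_odd {S L V : Subgroup G} (hp : IsPGroup 2 S) (ho : Odd (S.relIndex L)) (hV : V ≤ L)
    (pV : IsPGroup 2 V) : ∃ c ∈ L, ∀ v ∈ V, c * v * c⁻¹ ∈ S := by
  obtain ⟨P, hP⟩ := syl_of_odd hp ho
  obtain ⟨Q, hQ⟩ := (pV.comap_subtype (K := L)).exists_le_sylow
  obtain ⟨g, hg⟩ := MulAction.exists_smul_eq L Q P
  refine ⟨g, g.2, fun v hv => ?_⟩
  have a : g * ⟨v, hV hv⟩ * g⁻¹ ∈ (g • Q : Sylow 2 L).1 :=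
    smul_mem_pointwise_smul _ (MulAut.conj g) _ (hQ hv)
  rw [hg] at a
  exact hP.le a

theorem exists_sylow (W : Tw G) :
    ∃ P : Sylow 2 W.N, (P : Subgroup W.N) = W.S.subgroupOf W.N := syl_of_odd W.pS W.oddS

theorem eq_S {V : Subgroup G} (hN : V ≤ W.N) (hp : IsPGroup 2 V) (hS : W.S ≤ V) : V = W.S :=
  le_antisymm (le_of_odd_relIndex hS hN hp W.oddS) hS

theorem exists_conj {V : Subgroup G} (hN : V ≤ W.N) (hp : IsPGroup 2 V) :
    ∃ n ∈ W.N, ∀ v ∈ V, n * v * n⁻¹ ∈ W.S := conj_of_odd W.pS W.oddS hN hp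

theorem card_le_S {V : Subgroup G} (hN : V ≤ W.N) (hp : IsPGroup 2 V) :
    Nat.card V ≤ Nat.card W.S := by
  obtain ⟨n, -, h⟩ := exists_conj hN hp
  exact Nat.card_le_card_of_injective (fun v : V => (⟨_, h v v.2⟩ : W.S)) fun a b e =>
    Subtype.ext (by simpa using e)

theorem odd_of_card {V : Subgroup G} (hN : V ≤ W.N) (hc : Nat.card V = Nat.card W.S) :
    Odd (V.relIndex W.N) := by
  have a := (V.subgroupOf W.N).card_mul_index
  have b := (W.S.subgroupOf W.N).card_mul_index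
  rw [Nat.card_congr (subgroupOfEquivOfLe hN).toEquiv, hc] at a
  rw [Nat.card_congr (subgroupOfEquivOfLe W.S_le).toEquiv, ← a] at b
  exact (show W.S.relIndex W.N = V.relIndex W.N from Nat.eq_of_mul_eq_mul_left Nat.card_pos b) ▸ W.oddS

theorem exists_conj_cent {Z : Set G} (hZ : ∀ s ∈ W.S, ∀ z ∈ Z, s * z = z * s) {V : Subgroup G}
    (hN : V ≤ W.N) (hp : IsPGroup 2 V) (hV : ∀ v ∈ V, ∀ z ∈ Z, v * z = z * v) :
    ∃ c ∈ W.N, (∀ z ∈ Z, c * z = z * c) ∧ ∀ v ∈ V, c * v * c⁻¹ ∈ W.S := by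
  have a : W.S ≤ W.N ⊓ centralizer Z := le_inf W.S_le fun s hs z hz => (hZ s hs z hz).symm
  have o := W.oddS
  rw [← relIndex_mul_relIndex _ _ _ a inf_le_left] at o
  obtain ⟨c, hc, h⟩ := conj_of_odd W.pS (Nat.Odd.of_mul_left o)
    (le_inf hN fun v hv z hz => (hV v hv z hz).symm) hp
  exact ⟨c, hc.1, fun z hz => (hc.2 z hz).symm, h⟩

/-- A `2`-element of `N_N(S)` lies in `S`. -/
theorem mem_S {g : G} (hg : g ∈ W.N) (hn : ∀ s ∈ W.S, g * s * g⁻¹ ∈ W.S) {m : ℕ}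
    (hm : g ^ 2 ^ m = 1) : g ∈ W.S := by
  have a : IsPGroup 2 (zpowers g) := fun ⟨_, k, rfl⟩ => ⟨m, Subtype.ext (by
    show (g ^ k) ^ 2 ^ m = 1
    rw [← zpow_natCast, ← zpow_mul, mul_comm, zpow_mul, zpow_natCast, hm, one_zpow])⟩
  exact (eq_S (sup_le W.S_le (zpowers_le.2 hg))
    (W.pS.to_sup_of_normal_left' a (zpowers_le.2 (mem_normalizer_fintype hn))) le_sup_left).le
    (mem_sup_right (mem_zpowers g))

/-- Extremal conjugation. -/
theorem extremal {i z n : G} (hi : i ∈ W.S) (hc : ∀ s ∈ W.S, s * z = z * s) (hn : n ∈ W.N)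
    (h : n * i * n⁻¹ = z) :
    ∃ m ∈ W.N, m * i * m⁻¹ = z ∧ ∀ s ∈ W.S, s * i = i * s → m * s * m⁻¹ ∈ W.S := by
  have _ := hi
  obtain ⟨c, c1, c2, c3⟩ := exists_conj_cent (W := W) (Z := {z}) (fun s hs _ e => e ▸ hc s hs)
    (V := (W.S ⊓ centralizer {i}).map (MulAut.conj n).toMonoidHom)
    (by rintro _ ⟨s, hs, rfl⟩; exact mul_mem (mul_mem hn (W.S_le hs.1)) (inv_mem hn))
    ((W.pS.to_le inf_le_left).map _) (by
      rintro _ ⟨s, hs, rfl⟩ _ rfl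
      show n * s * n⁻¹ * _ = _ * (n * s * n⁻¹)
      rw [← h, conj_mul, conj_mul, mem_centralizer_singleton_iff.1 hs.2])
  refine ⟨c * n, mul_mem c1 hn, ?_, fun s hs e => ?_⟩
  · rw [show c * n * i * (c * n)⁻¹ = c * (n * i * n⁻¹) * c⁻¹ by group, h, c2 z rfl, mul_inv_cancel_right]
  · rw [show c * n * s * (c * n)⁻¹ = c * (n * s * n⁻¹) * c⁻¹ by group]
    exact c3 _ ⟨s, ⟨hs, mem_centralizer_singleton_iff.2 e⟩, rfl⟩

/-- Burnside's fusion lemma, by an element of odd order. -/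
theorem burnside {i z n : G} (hi : i ∈ W.S) (ci : ∀ s ∈ W.S, s * i = i * s)
    (hc : ∀ s ∈ W.S, s * z = z * s) (hn : n ∈ W.N) (h : n * i * n⁻¹ = z) :
    ∃ m ∈ W.N, Odd (orderOf m) ∧ m * i * m⁻¹ = z ∧ ∀ s ∈ W.S, m * s * m⁻¹ ∈ W.S := by
  obtain ⟨m, m1, m2, m3⟩ := extremal hi hc hn h
  have m4 : m ∈ normalizer (W.S : Set G) := mem_normalizer_fintype fun s hs => m3 s hs (ci s hs)
  obtain ⟨a, b, hb, e⟩ := Nat.exists_eq_two_pow_mul_odd (orderOf_pos m).ne'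
  obtain ⟨u, v, k⟩ := Nat.isCoprime_iff_coprime.2 ((Nat.coprime_two_left.2 hb).pow_left a)
  have s : m ^ b ∈ W.S := mem_S (pow_mem m1 b) (fun s => (mem_normalizer_iff.1 (pow_mem m4 b) s).1)
    (m := a) (by rw [← pow_mul, mul_comm, ← e, pow_orderOf_eq_one])
  have f : m = m ^ (u * (2 ^ a : ℕ)) * (m ^ b) ^ v := by
    rw [← zpow_natCast, ← zpow_mul, ← zpow_add, mul_comm (b : ℤ), k, zpow_one]
  refine ⟨m ^ (u * (2 ^ a : ℕ)), zpow_mem m1 _, hb.of_dvd_nat (orderOf_dvd_of_pow_eq_one ?_), ?_,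
    fun s => (mem_normalizer_iff.1 (zpow_mem m4 _) s).1⟩
  · rw [← zpow_natCast, ← zpow_mul, mul_assoc, ← Nat.cast_mul, ← e, mul_comm, zpow_mul, zpow_natCast,
      pow_orderOf_eq_one, one_zpow]
  · generalize m ^ (u * (2 ^ a : ℕ)) = m' at f
    rw [← m2, f, mul_assoc m' _ i, ci _ (zpow_mem s v)]
    group

theorem two_dvd_N (W : Tw G) : 2 ∣ Nat.card W.N :=
  (two_dvd_card W.pT W.T_ne).trans (card_dvd_of_le W.T_le_N)

theorem not_comm (W : Tw G) : ∃ a ∈ W.N, ∃ b ∈ W.N, a * b ≠ b * a := by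
  by_contra! h
  exact W.T_ne (le_bot_iff.1 (W.T_le_N.trans (W.perf.ge.trans (commutator_le.2 fun a ha b hb =>
    commutatorElement_eq_one_iff_mul_comm.2 (h a ha b hb)))))

theorem central_of_odd {M : Subgroup G} (hM : M ≤ W.N) (hn : ∀ n ∈ W.N, ∀ m ∈ M, n * m * n⁻¹ ∈ M)
    (ho : Odd (Nat.card M)) : ∀ m ∈ M, ∀ n ∈ W.N, m * n = n * m := by
  have h1 := H1.le_map_subtype_pPrimeCore (p := 2) hM (fun n hN => mem_normalizer_fintype (hn n hN))
    (Nat.coprime_two_right.2 ho)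
  rcases W.fmax _ (map_subtype_le (Cfsg.pPrimeCore 2 W.N)) (fun g hg m hm =>
    (mem_normalizer_iff.1 (H1.normalizer_le_normalizer_map_subtype_pPrimeCore _
      (mem_normalizer_fintype hg)) m).1 hm) with e | e
  · have h2 := H1.coprime_card_map_subtype_pPrimeCore (p := 2) W.N
    rw [e] at h2
    exact absurd (Nat.coprime_two_right.1 h2) (Nat.not_odd_iff_even.2 (even_iff_two_dvd.2 W.two_dvd_N))
  · exact fun m hm => e m (h1 hm)

/-- `Z*`: no involution of `S` is isolated. -/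
theorem not_isolated {z : G} (hz : z ∈ W.S) (z1 : z ≠ 1) (z2 : z * z = 1) :
    ∃ n ∈ W.N, n * z * n⁻¹ ∈ W.S ∧ n * z * n⁻¹ ≠ z := by
  by_contra! h
  have zN := W.S_le hz
  obtain ⟨P, hP⟩ := W.exists_sylow
  obtain ⟨M, M1, M2, M3⟩ := Cfsg.Agent.S0215.result P ⟨z, zN⟩
    (orderOf_eq_prime (Subtype.ext ((pow_two z).trans z2)) fun e => z1 (congrArg Subtype.val e))
    (hP.ge hz) fun g hg => Subtype.ext (h g g.2 (hP.le hg))
  have c := central_of_odd (W := W) (map_subtype_le M) (by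
      rintro n hn _ ⟨m, hm, rfl⟩
      exact ⟨_, M1.conj_mem m hm ⟨n, hn⟩, rfl⟩)
    (by rwa [card_map_of_injective W.N.subtype_injective])
  have i : z⁻¹ = z := inv_eq_of_mul_eq_one_right z2
  refine z1 (W.zodd z zN (fun n hn => ?_) z2)
  have m : z * n * z⁻¹ * n⁻¹ ∈ M.map W.N.subtype := ⟨_, M3 ⟨n, hn⟩, rfl⟩
  have := W.zodd _ (map_subtype_le M m) (c _ m) (by
    have k := c _ m z zN
    rw [i] at k ⊢
    calc _ = z * n * z * n⁻¹ * z * (n * z * n⁻¹) := by group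
      _ = z * z * (n * z * n⁻¹ * (n * z * n⁻¹)) := by rw [k]; group
      _ = 1 := by rw [conj_mul, z2, mul_one, mul_inv_cancel, mul_one])
  rwa [mul_inv_eq_one, mul_inv_eq_iff_eq_mul] at this

/-- Thompson transfer (S3225). -/
theorem thompson {M : Subgroup G} (hM : M ≤ W.S) (h2 : M.relIndex W.S = 2) {m : ℕ} (h1 : 1 ≤ m)
    (ho : ∀ s ∈ W.S, s ∉ M → 2 ^ (m - 1) < orderOf s) {g : G} (hg : g ∈ W.S)
    (og : orderOf g = 2 ^ m) : ∃ n ∈ W.N, n * g * n⁻¹ ∈ M := by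
  obtain ⟨P, hP⟩ := W.exists_sylow
  obtain ⟨n, hn⟩ := Cfsg.Agent.S3225.result (even_iff_two_dvd.2 W.two_dvd_N) (fun H e => by
      have a : W.N ≤ H.map W.N.subtype := W.perf.ge.trans (commutator_le.2 fun a ha b hb =>
        ⟨⟨a, ha⟩ * ⟨b, hb⟩ * ⟨a, ha⟩⁻¹ * ⟨b, hb⟩⁻¹, by
          simp only [SetLike.mem_coe, mul_mem_iff_of_index_two e, inv_mem_iff]
          tauto, rfl⟩)
      have : H = ⊤ := eq_top_iff.2 fun x _ => (mem_map_iff_mem W.N.subtype_injective).1 (a x.2)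
      rw [this, index_top] at e
      omega) P (M.subgroupOf W.N) (hP ▸ comap_mono hM) (by rw [hP, relIndex_subgroupOf W.S_le, h2]) m h1
    (fun y hy k => orderOf_coe y ▸ ho y (hP.le hy) k) ⟨g, W.S_le hg⟩ (hP.ge hg)
    ((orderOf_mk _ _).trans og)
  exact ⟨n, n.2, hn⟩

end H97.ONT.Tw
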