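import Cfsg.Agent.Lib.ONT.Tw1
import Cfsg.Agent.Lib.ONT.Tw2
import Cfsg.Agent.Lib.ONT.Orb
import Cfsg.Agent.Lib.Core.CoprimeAbelian

set_option autoImplicit false
set_option linter.unusedSectionVars false

namespace H97.ONT.Tw

open Subgroup

variable {G : Type*} [Group G] [Finite G] {W : Tw G}

namespace B1

/-- If `S` is abelian then `N_N(S)` normalises `T`. -/
theorem norm_T (h : W.El) (h4 : 4 ≤ Nat.card W.T) (ab : ∀ a ∈ W.S, ∀ b ∈ W.S, a * b = b * a) {m : G}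
    (hm : m ∈ W.N) (hS : ∀ s ∈ W.S, m * s * m⁻¹ ∈ W.S) {t : G} (ht : t ∈ W.T) :
    m * t * m⁻¹ ∈ W.T := by
  let B : Subgroup G := W.N ⊓ normalizer (W.S : Set G)
  have hU : W.U ≤ normalizer (W.S : Set G) := U_le_norm W.U_S
  let f : W.U →* MulAut W.S := W.S.normalizerMonoidHom.comp (inclusion hU)
  let g : B →* MulAut W.S := W.S.normalizerMonoidHom.comp (inclusion inf_le_right)
  have ef : ∀ (k : W.U) (s : W.S), (f k s : G) = k * s * (k : G)⁻¹ := fun _ _ => rfl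
  have eg : ∀ (k : B) (s : W.S), (g k s : G) = k * s * (k : G)⁻¹ := fun _ _ => rfl
  have fix : ∀ k : W.U, k ≠ 1 → ∀ s : W.S, f k s = s ↔ (s : G) ∈ W.T := fun k k1 s => by
    rw [Subtype.ext_iff, ef]
    exact ⟨fun e => cenS k.2 (fun e => k1 (Subtype.ext e)) s.2
      (by rw [← mul_inv_eq_iff_eq_mul.1 e]), U_T k.2⟩
  have fi : Function.Injective f := (injective_iff_map_eq_one f).2 fun k e => by
    by_contra k1
    exact W.T_lt (le_antisymm W.T_le fun s hs => (fix k k1 ⟨s, hs⟩).1 (by rw [e]; rfl))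
  let M : Subgroup (MulAut W.S) :=
    { carrier := {φ | ∀ s, (φ s : G) ∈ W.T ↔ (s : G) ∈ W.T}
      one_mem' := fun _ => Iff.rfl
      mul_mem' := fun {a b} ha hb s => (ha (b s)).trans (hb s)
      inv_mem' := fun {a} ha s => by rw [← ha (a⁻¹ s)]; simp }
  have SB : W.S ≤ B := le_inf W.S_le le_normalizer
  have ho : Odd (Nat.card g.range) := by
    refine Odd.of_dvd_nat W.oddS ?_
    rw [← index_ker, ← relIndex_mul_relIndex W.S B W.N SB inf_le_left]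
    refine Dvd.dvd.mul_right (index_dvd_of_le fun s hs => MulEquiv.ext fun x => Subtype.ext ?_) _
    rw [eg, ab s hs _ x.2, mul_inv_cancel_right]; rfl
  have key : g.range ≤ M := by
    refine H2.le_of_forall_centralizer_le (A := f.range) ⟨⟨?_⟩⟩
      (fun hc => h.not_cyclic h4 ((MonoidHom.ofInjective fi).isCyclic.2 hc)) ?_ ?_ ?_
    · rintro ⟨_, a, rfl⟩ ⟨_, b, rfl⟩
      exact Subtype.ext (by
        show f a * f b = f b * f a
        rw [← map_mul, ← map_mul, show a * b = b * a from Subtype.ext (U_comm a.2 b.2)])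
    · rintro _ ⟨k, rfl⟩
      refine mem_normalizer_fintype ?_
      rintro _ ⟨b, rfl⟩
      refine ⟨⟨k * b * (k : G)⁻¹, mem_inf.2 ⟨W.U_N k k.2 b b.2.1,
        mul_mem (mul_mem (hU k.2) (mem_inf.1 b.2).2) (inv_mem (hU k.2))⟩⟩,
        MulEquiv.ext fun x => Subtype.ext ?_⟩
      rw [← map_inv, MulAut.mul_apply, MulAut.mul_apply, ef, eg, eg, ef]
      simp only [coe_inv]
      group
    · obtain ⟨n, hn⟩ := IsPGroup.iff_card.1 W.pU
      rw [← Nat.card_congr (MonoidHom.ofInjective fi).toEquiv, hn]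
      exact Nat.Coprime.pow_left n (Nat.coprime_two_left.2 ho)
    · rintro _ ⟨k, rfl⟩ k1 φ ⟨-, hφ⟩ s
      have k1' : k ≠ 1 := fun e => k1 (by rw [e, map_one])
      have e := congrArg (fun ψ : MulAut W.S => ψ s) (mem_centralizer_singleton_iff.1 hφ)
      simp only [MulAut.mul_apply] at e
      rw [← fix k k1', ← fix k k1', ← e, φ.apply_eq_iff_eq]
  exact (key ⟨⟨m, hm, mem_normalizer_fintype hS⟩, rfl⟩ ⟨t, W.T_le ht⟩).2 ht

variable (h : W.El) (hS : W.S = W.R)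
include h hS

theorem cS {s t : G} (hs : s ∈ W.S) (ht : t ∈ W.T) : s * t = t * s := h.comm (hS ▸ hs) ht

theorem nrm {B : Subgroup G} (h1 : W.T ≤ B) (h2 : B ≤ W.S) {g a : G} (hg : g ∈ W.S ⊔ W.U)
    (ha : a ∈ B) : g * a * g⁻¹ ∈ B := by
  obtain ⟨s, hs, k, hk, rfl⟩ := (mem_sup_U W.U_S).1 hg
  have e1 : k * a * k⁻¹ ∈ B := by
    rw [show k * a * k⁻¹ = a * ph a⁻¹ k by unfold ph; group]
    exact mul_mem ha (h1 (ph_mem (hS ▸ inv_mem (h2 ha)) hk))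
  rw [show s * k * a * (s * k)⁻¹ = s * (k * a * k⁻¹) * s⁻¹ * (k * a * k⁻¹)⁻¹ * (k * a * k⁻¹) by group]
  exact mul_mem (h1 (comm_mem (hS ▸ hs) (hS ▸ h2 e1))) e1

theorem cP {g t : G} (hg : g ∈ W.S ⊔ W.U) (ht : t ∈ W.T) : g * t = t * g := by
  obtain ⟨s, hs, k, hk, rfl⟩ := (mem_sup_U W.U_S).1 hg
  rw [mul_assoc, ← W.comm t ht k hk, ← mul_assoc, cS h hS hs ht, mul_assoc]

theorem trP {a t : G} (ha : a ∈ W.S) (a1 : a ∉ W.T) (ht : t ∈ W.T) :
    ∃ g ∈ W.S ⊔ W.U, g * a * g⁻¹ = a * t := by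
  obtain ⟨k, hk, e⟩ := ph_surj (hS ▸ inv_mem ha) (fun e => a1 (inv_mem_iff.1 e)) ht
  exact ⟨k, mem_sup_right hk, by rw [← e]; unfold ph; group⟩

/-- An element of `N` that maps `T` into `S` in both directions normalises `T`. -/
theorem two_way (h4 : 4 ≤ Nat.card W.T) {m : G} (hm : m ∈ W.N) (h1 : ∀ t ∈ W.T, m * t * m⁻¹ ∈ W.S)
    (h2 : ∀ t ∈ W.T, m⁻¹ * t * m ∈ W.S) {t0 : G} (ht0 : t0 ∈ W.T) : m⁻¹ * t0 * m ∈ W.T := by
  by_contra hn
  set T' := W.T.map (MulAut.conj m).toMonoidHom with hT'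
  have mT : ∀ {x}, x ∈ T' ↔ m⁻¹ * x * m ∈ W.T := H1.mem_map_conj_iff
  have cT : Nat.card T' = Nat.card W.T := card_map_of_injective (MulAut.conj m).injective
  have TS : T' ≤ W.S := by rintro _ ⟨t, ht, rfl⟩; exact h1 t ht
  have nT : T' ≤ normalizer (W.T : Set G) := fun x hx => mem_normalizer_fintype fun t ht => by
    rwa [cS h hS (TS hx) ht, mul_inv_cancel_right]
  have dec : ∀ a ∈ W.T ⊔ T', ∃ t ∈ W.T, ∃ t' ∈ T', a = t * t' := fun a ha => by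
    have : a ∈ ((W.T ⊔ T' : Subgroup G) : Set G) := ha
    rw [coe_mul_of_right_le_normalizer_left _ _ nT] at this
    obtain ⟨t, ht, t', ht', e⟩ := this
    exact ⟨t, ht, t', ht', e.symm⟩
  have AS : W.T ⊔ T' ≤ W.S := sup_le W.T_le TS
  have el : ∀ a ∈ W.T ⊔ T', a * a = 1 := fun a ha => by
    obtain ⟨t, ht, _, ⟨u, hu, rfl⟩, rfl⟩ := dec a ha
    calc _ = t * (m * u * m⁻¹ * t) * (m * u * m⁻¹) := by simp [mul_assoc]
      _ = t * t * (m * (u * u) * m⁻¹) := by rw [cS h hS (h1 u hu) ht]; group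
      _ = 1 := by rw [h t ht, h u hu]; group
  let B : Subgroup G := (W.T ⊔ T').comap (MulAut.conj m).toMonoidHom
  have mB : ∀ {a}, a ∈ W.T ⊔ T' → m⁻¹ * a * m ∈ B := fun {a} ha => by
    show m * (m⁻¹ * a * m) * m⁻¹ ∈ W.T ⊔ T'
    rwa [show m * (m⁻¹ * a * m) * m⁻¹ = a by group]
  have B1 : W.T ≤ B := fun t ht => mem_sup_right ⟨t, ht, rfl⟩
  have B2 : B ≤ W.S := fun b hb => by
    obtain ⟨t, ht, t', ht', e⟩ := dec _ hb
    have e' : m * b * m⁻¹ = t * t' := e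
    rw [show b = m⁻¹ * (m * b * m⁻¹) * m by group, e',
      show m⁻¹ * (t * t') * m = m⁻¹ * t * m * (m⁻¹ * t' * m) by group]
    exact mul_mem (h2 t ht) (W.T_le (mT.1 ht'))
  have n1 : ¬ W.T ≤ T' := fun e => hn (mT.1 (e ht0))
  have n2 : ¬ T' ≤ W.T := fun e => n1 (eq_of_le_of_card_ge e cT.ge).ge
  have mΓ : m ∈ W.N ⊔ W.U := mem_sup_left hm
  have PΓ : W.S ⊔ W.U ≤ W.N ⊔ W.U := sup_le_sup_right W.S_le _
  have bot : W.T ⊓ T' = ⊥ := by
    refine orb (P' := (W.S ⊔ W.U).map (MulAut.conj m).toMonoidHom) PΓ ?_ W.odd_SU el le_sup_left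
      le_sup_right dec n1 n2 (fun g hg a ha => nrm h hS le_sup_left AS hg ha) ?_
      (fun g hg t ht => cP h hS hg ht) ?_ (fun a ha a1 t ht => trP h hS (AS ha) a1 ht) ?_
    · rintro _ ⟨g, hg, rfl⟩
      exact mul_mem (mul_mem mΓ (PΓ hg)) (inv_mem mΓ)
    · rintro _ ⟨g, hg, rfl⟩ a ha
      have : m * (g * (m⁻¹ * a * m) * g⁻¹) * m⁻¹ ∈ W.T ⊔ T' := nrm h hS B1 B2 hg (mB ha)
      simpa [mul_assoc] using this
    · rintro _ ⟨g, hg, rfl⟩ _ ⟨t, ht, rfl⟩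
      rw [← map_mul, ← map_mul, cP h hS hg ht]
    · rintro a ha a1 _ ⟨t, ht, rfl⟩
      obtain ⟨g, hg, e⟩ := trP h hS (B2 (mB ha)) (fun e => a1 (mT.2 e)) ht
      refine ⟨_, ⟨g, hg, rfl⟩, ?_⟩
      show m * g * m⁻¹ * a * (m * g * m⁻¹)⁻¹ = a * (m * t * m⁻¹)
      calc _ = m * (g * (m⁻¹ * a * m) * g⁻¹) * m⁻¹ := by group
        _ = _ := by rw [e]; group
  have c := H1.card_sup_mul_card_inf_of_le_normalizer nT
  rw [sup_comm, inf_comm, bot, card_bot, mul_one, cT] at c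
  have eA : W.T ⊔ T' = W.S := eq_of_le_of_card_ge AS (by rw [c, hS]; exact W.card_R_le)
  have := norm_T h h4 (fun a ha b hb => comm_of_sq el (eA ▸ ha) (eA ▸ hb)) (inv_mem hm)
    (fun s hs => by rw [inv_inv]; exact B2 (mB (eA ▸ hs))) ht0
  rw [inv_inv] at this
  exact hn this

end B1

/-- `T` is strongly closed in `S` with respect to `N`. -/
theorem El.closed (h : W.El) (h4 : 4 ≤ Nat.card W.T) (hS : W.S = W.R) {t n : G} (ht : t ∈ W.T)
    (hn : n ∈ W.N) (hs : n * t * n⁻¹ ∈ W.S) : n * t * n⁻¹ ∈ W.T := by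
  obtain ⟨m, hm, e, h1⟩ := extremal (z := t) (n := n⁻¹) hs (fun s hs => B1.cS h hS hs ht) (inv_mem hn)
    (by group)
  have h1' : ∀ u ∈ W.T, m * u * m⁻¹ ∈ W.S := fun u hu => h1 u (W.T_le hu) (B1.cS h hS hs hu).symm
  obtain ⟨c, hc, c1, c2⟩ := exists_conj_cent (W := W) (Z := W.T) (fun s hs z hz => B1.cS h hS hs hz)
    (V := W.T.map (MulAut.conj m⁻¹).toMonoidHom) (by
      rintro _ ⟨u, hu, rfl⟩
      exact mul_mem (mul_mem (inv_mem hm) (W.T_le_N hu)) (inv_mem (inv_mem hm)))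
    (W.pT.map _) (by
      rintro _ ⟨u, hu, rfl⟩ z hz
      show m⁻¹ * u * m⁻¹⁻¹ * z = z * (m⁻¹ * u * m⁻¹⁻¹)
      calc _ = m⁻¹ * (u * (m * z * m⁻¹)) * m := by group
        _ = _ := by rw [← B1.cS h hS (h1' z hz) hu]; group)
  have c3 : ∀ u ∈ W.T, c⁻¹ * u * c = u := fun u hu => by rw [mul_assoc, ← c1 u hu]; group
  have := B1.two_way h hS h4 (m := m * c⁻¹) (mul_mem hm (inv_mem hc))
    (fun u hu => by
      rw [show m * c⁻¹ * u * (m * c⁻¹)⁻¹ = m * (c⁻¹ * u * c) * m⁻¹ by group, c3 u hu]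
      exact h1' u hu)
    (fun u hu => by simpa [mul_assoc] using c2 _ ⟨u, hu, rfl⟩) ht
  rw [← c3 _ this, ← e] at this
  simpa [mul_assoc] using this

end H97.ONT.Tw
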