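import Cfsg.Agent.Lib.ONT.Tw1
import Cfsg.Agent.Lib.ONT.Tw2
import Cfsg.Agent.Lib.Core.CoprimeAbelian

/-! Odd order elements normalising `S` and `T` normalise `E` (blueprint/ONT, package TwB2). -/

set_option autoImplicit false
set_option linter.unusedSectionVars false

namespace H97.ONT.Tw

open Subgroup

variable {G : Type*} [Group G] [Finite G] {W : Tw G}

namespace B2

theorem conj_inv_mem {A : Subgroup G} {d : G} (h : ∀ a ∈ A, d * a * d⁻¹ ∈ A) :
    ∀ a ∈ A, d⁻¹ * a * d ∈ A := by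
  have := mem_normalizer_fintype (S := (A : Set G)) h
  intro a ha
  have h1 := (mem_normalizer_iff.1 (inv_mem this) a).1 ha
  rwa [inv_inv] at h1

theorem odd_center (W : Tw G) : Odd (center ↥(W.N ⊓ centralizer (W.S : Set G))).index := by
  rw [← Nat.not_even_iff_odd, even_iff_two_dvd]
  intro h2
  have : Fact (Nat.Prime 2) := ⟨Nat.prime_two⟩
  obtain ⟨x, hx⟩ := exists_prime_orderOf_dvd_card' (G := ↥(W.N ⊓ centralizer (W.S : Set G)) ⧸ center _) 2 h2
  obtain ⟨g, rfl⟩ := QuotientGroup.mk_surjective x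
  obtain ⟨a, m, hm, e⟩ := Nat.exists_eq_two_pow_mul_odd (orderOf_pos g).ne'
  have h1 : ((g ^ m : ↥(W.N ⊓ centralizer (W.S : Set G))) : G) ∈ W.S := by
    refine mem_S (g ^ m).2.1 (fun s hs => ?_) (m := a) ?_
    · rw [← mem_centralizer_iff.1 (g ^ m).2.2 s hs, mul_inv_cancel_right]; exact hs
    · rw [← coe_pow, ← pow_mul, mul_comm, ← e, pow_orderOf_eq_one, coe_one]
  have h3 : g ^ m ∈ center ↥(W.N ⊓ centralizer (W.S : Set G)) :=
    mem_center_iff.2 fun y => Subtype.ext (mem_centralizer_iff.1 y.2.2 _ h1).symm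
  rw [← QuotientGroup.eq_one_iff, QuotientGroup.mk_pow, ← orderOf_dvd_iff_pow_eq_one, hx] at h3
  exact (Nat.not_even_iff_odd.2 hm) (even_iff_two_dvd.2 h3)

theorem odd_mul {H : Type*} [Group H] [Finite H] (ho : Odd (center H).index) {x y : H}
    (hx : Odd (orderOf x)) (hy : Odd (orderOf y)) : Odd (orderOf (x * y)) := by
  have h1 := congrArg Subtype.val (map_mul (MonoidHom.transferCenterPow H) x y)
  rw [coe_mul, MonoidHom.transferCenterPow_apply, MonoidHom.transferCenterPow_apply,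
    MonoidHom.transferCenterPow_apply] at h1
  have hc : Commute (x ^ (center H).index) (y ^ (center H).index) :=
    mem_center_iff.1 ((center H).pow_index_mem y) _
  have h2 : (x * y) ^ ((center H).index * (orderOf x * orderOf y)) = 1 := by
    rw [pow_mul, h1, hc.mul_pow, ← pow_mul, ← pow_mul,
      orderOf_dvd_iff_pow_eq_one.1 (Dvd.dvd.mul_left (Dvd.intro _ rfl) _),
      orderOf_dvd_iff_pow_eq_one.1 (Dvd.dvd.mul_left (Dvd.intro_left _ rfl) _), one_mul]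
  exact Odd.of_dvd_nat (ho.mul (hx.mul hy)) (orderOf_dvd_of_pow_eq_one h2)

/-- the elements of odd order of `C_N(S)` -/
def C0 (W : Tw G) : Subgroup G where
  carrier := {x | x ∈ W.N ⊓ centralizer (W.S : Set G) ∧ Odd (orderOf x)}
  one_mem' := ⟨one_mem _, by simp⟩
  inv_mem' := fun hx => ⟨inv_mem hx.1, by rw [orderOf_inv]; exact hx.2⟩
  mul_mem' := fun {x y} hx hy => ⟨mul_mem hx.1 hy.1, by
    have := odd_mul (odd_center W) (x := ⟨x, hx.1⟩) (y := ⟨y, hy.1⟩)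
      (by rw [← orderOf_coe]; exact hx.2) (by rw [← orderOf_coe]; exact hy.2)
    rwa [← orderOf_coe] at this⟩

theorem odd_C0 (W : Tw G) : Odd (Nat.card (C0 W)) := by
  rw [← Nat.not_even_iff_odd, even_iff_two_dvd]
  intro h2
  have : Fact (Nat.Prime 2) := ⟨Nat.prime_two⟩
  obtain ⟨x, hx⟩ := exists_prime_orderOf_dvd_card' 2 h2
  have := x.2.2
  rw [orderOf_coe, hx] at this
  exact absurd this (by decide)

theorem C0_comm (h : W.El) (h4 : 4 ≤ Nat.card W.T) {x k : G} (hx : x ∈ C0 W) (hk : k ∈ W.U) :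
    x * k = k * x := by
  have : Fact (Nat.Prime 2) := ⟨Nat.prime_two⟩
  obtain ⟨n, hn⟩ := W.pU.exists_card_eq
  have := H2.le_of_forall_centralizer_le (A := W.U) (K := C0 W) (M := centralizer {k})
    ⟨⟨fun a b => Subtype.ext (U_comm a.2 b.2)⟩⟩ (h.not_cyclic h4)
    (U_le_norm fun k hk v hv => ⟨⟨W.U_N k hk v hv.1.1, mem_centralizer_iff.2 fun s hs => by
      have h1 := mem_centralizer_iff.1 hv.1.2 _ (W.U_S k⁻¹ (inv_mem hk) s hs)
      calc s * (k * v * k⁻¹) = k * (k⁻¹ * s * k⁻¹⁻¹ * v) * k⁻¹ := by group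
        _ = _ := by rw [h1]; group⟩, by
      rw [show k * v * k⁻¹ = MulAut.conj k v from rfl, MulEquiv.orderOf_eq]; exact hv.2⟩)
    (by rw [hn]; exact Nat.Coprime.pow_left _ (Nat.coprime_two_left.2 (odd_C0 W)))
    fun a ha a1 y hy => mem_centralizer_singleton_iff.2
      (W.cen a ha a1 k hk y hy.1.1.1 (mem_centralizer_singleton_iff.1 hy.2))
  exact mem_centralizer_singleton_iff.1 (this hx)

theorem pow_conj {c s τ : G} (h : c * s * c⁻¹ = τ * s) (hc : c * τ = τ * c) (n : ℕ) :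
    c ^ n * s * (c ^ n)⁻¹ = τ ^ n * s := by
  induction n with
  | zero => simp
  | succ n ih =>
    have h1 : Commute c (τ ^ n) := Commute.pow_right hc n
    calc c ^ (n + 1) * s * (c ^ (n + 1))⁻¹ = c * (c ^ n * s * (c ^ n)⁻¹) * c⁻¹ := by group
      _ = τ ^ n * (c * s * c⁻¹) := by rw [ih, ← mul_assoc, h1.eq]; group
      _ = _ := by rw [h, pow_succ, mul_assoc]

theorem ph_mem_S (h : W.El) (h4 : 4 ≤ Nat.card W.T) (hS : W.S = W.R) {d : G} (hd : d ∈ W.N)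
    (nS : ∀ s ∈ W.S, d * s * d⁻¹ ∈ W.S) (nT : ∀ t ∈ W.T, d * t * d⁻¹ ∈ W.T) {k : G}
    (hk : k ∈ W.U) : ph d k ∈ W.S := by
  have cN : ph d k ∈ W.N := by
    rw [show ph d k = d * (k * d⁻¹ * k⁻¹) by unfold ph; group]
    exact mul_mem hd (W.U_N k hk _ (inv_mem hd))
  have kS : ∀ k ∈ W.U, ∀ s ∈ W.S, k * s * k⁻¹ * s⁻¹ ∈ W.T := fun k hk s hs => by
    have := inv_mem (ph_mem (hS ▸ hs) hk)
    rwa [show (ph s k)⁻¹ = k * s * k⁻¹ * s⁻¹ by unfold ph; group] at this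
  have cT : ∀ t ∈ W.T, ph d k * t = t * ph d k := fun t ht => by
    have h1 := W.comm _ (conj_inv_mem nT t ht) k hk
    have h2 := W.comm t ht k⁻¹ (inv_mem hk)
    calc ph d k * t = d * k * d⁻¹ * (k⁻¹ * t) := by unfold ph; group
      _ = d * (k * (d⁻¹ * t * d)) * d⁻¹ * k⁻¹ := by rw [← h2]; group
      _ = _ := by rw [← h1]; unfold ph; group
  have cS : ∀ s ∈ W.S, ph d k * s * (ph d k)⁻¹ * s⁻¹ ∈ W.T := fun s hs => by
    have h1 := kS k⁻¹ (inv_mem hk) s hs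
    have s1 := W.U_S k⁻¹ (inv_mem hk) s hs
    have h2 := nT _ (kS k hk _ (conj_inv_mem nS _ s1))
    have := mul_mem h2 h1
    rwa [show d * (k * (d⁻¹ * (k⁻¹ * s * k⁻¹⁻¹) * d) * k⁻¹ * (d⁻¹ * (k⁻¹ * s * k⁻¹⁻¹) * d)⁻¹) * d⁻¹ *
      (k⁻¹ * s * k⁻¹⁻¹ * s⁻¹) = ph d k * s * (ph d k)⁻¹ * s⁻¹ by unfold ph; group] at this
  set c := ph d k with hc
  obtain ⟨a, m, hm, e⟩ := Nat.exists_eq_two_pow_mul_odd (orderOf_pos c).ne'
  have h1 : (c ^ 2 ^ (a + 1)) ^ m = 1 := by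
    rw [← pow_mul, ← orderOf_dvd_iff_pow_eq_one, e]
    exact Nat.mul_dvd_mul_right (pow_dvd_pow 2 (Nat.le_succ a)) m
  have h2 : c ^ 2 ^ (a + 1) ∈ C0 W := by
    refine ⟨⟨pow_mem cN _, mem_centralizer_iff.2 fun s hs => ?_⟩,
      Odd.of_dvd_nat hm (orderOf_dvd_of_pow_eq_one h1)⟩
    have h3 := pow_conj (c := c) (s := s) (τ := c * s * c⁻¹ * s⁻¹) (by group) (cT _ (cS s hs)) (2 ^ (a + 1))
    rw [pow_succ' 2 a, pow_mul (c * s * c⁻¹ * s⁻¹), pow_two, h _ (cS s hs), one_pow, one_mul,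
      mul_inv_eq_iff_eq_mul, ← pow_succ' 2 a] at h3
    exact h3.symm
  have h3 : k * c * k⁻¹ = c⁻¹ := by
    have k2 : k⁻¹ = k := inv_eq_of_mul_eq_one_right (h.U hk)
    calc k * c * k⁻¹ = k * d * k * d⁻¹ * (k * k)⁻¹ := by rw [hc]; unfold ph; group
      _ = k * d * k⁻¹ * d⁻¹ := by rw [h.U hk, k2, inv_one, mul_one]
      _ = _ := by rw [hc]; unfold ph; group
  have h5 : c ^ 2 ^ (a + 1) * c ^ 2 ^ (a + 1) = 1 := by
    have h6 := congrArg (· ^ 2 ^ (a + 1)) h3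
    simp only [conj_pow, inv_pow] at h6
    rw [← C0_comm h h4 h2 hk, mul_inv_cancel_right] at h6
    exact mul_eq_one_iff_eq_inv.2 h6
  refine mem_S cN (fun s hs => ?_) (m := a + 1 + 1) (by rw [pow_succ 2 (a + 1), pow_mul, pow_two, h5])
  have := mul_mem (W.T_le (cS s hs)) hs
  rwa [inv_mul_cancel_right] at this

end B2

open B2 in
theorem El.odd_norm (h : W.El) (h4 : 4 ≤ Nat.card W.T) (hS : W.S = W.R) {d : G} (hd : d ∈ W.N)
    (ho : Odd (orderOf d)) (nS : ∀ s ∈ W.S, d * s * d⁻¹ ∈ W.S)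
    (nT : ∀ t ∈ W.T, d * t * d⁻¹ ∈ W.T) {k : G} (hk : k ∈ W.U) : ph d k ∈ W.T := by
  have nRU : ∀ v ∈ W.R ⊔ W.U, d * v * d⁻¹ ∈ W.R ⊔ W.U := fun v hv => by
    obtain ⟨r, hr, k, hk, rfl⟩ := (mem_sup_U U_R').1 hv
    rw [show d * (r * k) * d⁻¹ = d * r * d⁻¹ * ph d k * k by unfold ph; group]
    exact mul_mem (mem_sup_left (hS ▸ mul_mem (nS r (hS ▸ hr)) (ph_mem_S h h4 hS hd nS nT hk)))
      (mem_sup_right hk)
  let f := (MulAut.conj d).toMonoidHom
  have fi : Function.Injective f := (MulAut.conj d).injective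
  have hle : ∀ A : Subgroup G, A ≤ W.R ⊔ W.U → A.map f ≤ W.R ⊔ W.U := by
    rintro A hA _ ⟨a, ha, rfl⟩; exact nRU a (hA ha)
  have hel : ∀ A : Subgroup G, (∀ a ∈ A, a * a = 1) → ∀ a ∈ A.map f, a * a = 1 := by
    rintro A hA _ ⟨a, ha, rfl⟩; rw [← map_mul, hA a ha, map_one]
  have hE : W.E.map f = W.E := by
    by_contra n1
    by_cases n2 : (W.E.map f).map f = W.E
    · have h2 : d * d ∈ normalizer (W.E : Set G) := mem_normalizer_fintype fun e he => by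
        have : f (f e) ∈ (W.E.map f).map f := mem_map_of_mem _ (mem_map_of_mem _ he)
        rw [n2] at this
        rwa [show d * d * e * (d * d)⁻¹ = d * (d * e * d⁻¹) * d⁻¹ by group]
      obtain ⟨j, hj⟩ := ho
      have h3 : d⁻¹ = (d * d) ^ j := by
        rw [← pow_two, ← pow_mul, inv_eq_iff_mul_eq_one, ← pow_succ', ← hj, pow_orderOf_eq_one]
      have h5 : d ∈ normalizer (W.E : Set G) := by
        rw [← inv_mem_iff, h3]; exact pow_mem h2 j
      refine n1 (eq_of_le_of_card_ge ?_ (card_map_of_injective fi).ge)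
      rintro _ ⟨e, he, rfl⟩
      exact (mem_normalizer_iff.1 h5 e).1 he
    · exact n1 (map_injective fi (h.uniq (hle _ (hle _ W.E_le_RU)) (hle _ W.E_le_RU)
        (hel _ (hel _ fun _ => h.E)) (hel _ fun _ => h.E)
        (by rw [card_map_of_injective fi, card_map_of_injective fi]) (card_map_of_injective fi) n2 n1))
  refine ph_mem' hd (fun e he => ?_) hk
  rw [← hE]
  exact mem_map_of_mem f he

end H97.ONT.Tw
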