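import Cfsg.Agent.Lib.ONT.Tw0
import Cfsg.Agent.Lib.ONT.Tw2
import Cfsg.Agent.Lib.Core.CoprimeAbelian

/-! `N` is simple (blueprint/ONT, package TwS). -/

set_option autoImplicit false
set_option linter.unusedSectionVars false

namespace H97.ONT.Tw

open Subgroup

variable {G : Type*} [Group G] [Finite G] {W : Tw G}

namespace Sx

/-- `g` normalises `A` -/
def Nz (g : G) (A : Subgroup G) : Prop := ∀ a ∈ A, g * a * g⁻¹ ∈ A

theorem Nz.norm {g : G} {A : Subgroup G} (h : Nz g A) : g ∈ normalizer (A : Set G) :=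
  mem_normalizer_fintype h

theorem Nz.inv {g : G} {A : Subgroup G} (h : Nz g A) : Nz g⁻¹ A :=
  fun a ha => (mem_normalizer_iff.1 (inv_mem h.norm) a).1 ha

theorem Nz.mul {g g' : G} {A : Subgroup G} (h : Nz g A) (h' : Nz g' A) : Nz (g * g') A := fun a ha => by
  rw [show g * g' * a * (g * g')⁻¹ = g * (g' * a * g'⁻¹) * g⁻¹ by group]
  exact h _ (h' a ha)

theorem Nz.cent {g : G} {A : Subgroup G} (h : Nz g A) : Nz g (centralizer (A : Set G)) := fun c hc =>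
  mem_centralizer_iff.2 fun a ha => by
    have h1 := mem_centralizer_iff.1 hc _ (h.inv a ha)
    calc a * (g * c * g⁻¹) = g * (g⁻¹ * a * g⁻¹⁻¹ * c) * g⁻¹ := by group
      _ = _ := by rw [h1]; group

theorem Nz.inf {g : G} {A B : Subgroup G} (h : Nz g A) (h' : Nz g B) : Nz g (A ⊓ B) :=
  fun a ha => ⟨h a ha.1, h' a ha.2⟩

theorem nz_of_mem {g : G} {A : Subgroup G} (h : g ∈ A) : Nz g A :=
  fun _ ha => mul_mem (mul_mem h ha) (inv_mem h)

theorem center_eq (h : W.El) (h4 : 4 ≤ Nat.card W.T) {z : G} (hz : z ∈ W.N)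
    (hc : ∀ n ∈ W.N, z * n = n * z) : z = 1 := by
  have : Fact (Nat.Prime 2) := ⟨Nat.prime_two⟩
  by_contra z1
  have ho : Odd (Nat.card (W.N ⊓ centralizer (W.N : Set G) : Subgroup G)) := by
    rw [← Nat.not_even_iff_odd, even_iff_two_dvd]
    intro h2
    obtain ⟨x, hx⟩ := exists_prime_orderOf_dvd_card' 2 h2
    have h3 : (x : G) = 1 := W.zodd x x.2.1 (fun n hn => (mem_centralizer_iff.1 x.2.2 n hn).symm) (by
      rw [← pow_two, ← hx, ← coe_pow, pow_orderOf_eq_one, coe_one])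
    rw [show x = 1 from Subtype.ext h3, orderOf_one] at hx
    exact absurd hx (by decide)
  obtain ⟨n, hn⟩ := W.pU.exists_card_eq
  obtain ⟨a, ha, a1, hne⟩ := H2.exists_inf_centralizer_ne_bot (A := W.U)
    (K := W.N ⊓ centralizer (W.N : Set G)) ⟨⟨fun a b => Subtype.ext (U_comm a.2 b.2)⟩⟩ (h.not_cyclic h4)
    (fun k hk => (Nz.inf (W.U_N k hk) (Nz.cent (W.U_N k hk))).norm)
    (by rw [hn]; exact Nat.Coprime.pow_left _ (Nat.coprime_two_left.2 ho))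
    (fun e => z1 (mem_bot.1 (e ▸ (⟨hz, mem_centralizer_iff.2 fun n hn => (hc n hn).symm⟩ :
      z ∈ W.N ⊓ centralizer (W.N : Set G)))))
  refine hne (eq_bot_iff.2 fun y hy => mem_bot.2 ?_)
  exact W.zfix a ha a1 y hy.1.1 (fun n hn => (mem_centralizer_iff.1 hy.1.2 n hn).symm)
    (mem_centralizer_singleton_iff.1 hy.2)

/-- a non-trivial normal `U`-invariant subgroup of `N` meets `T` -/
theorem meet_T (h : W.El) (h4 : 4 ≤ Nat.card W.T) {A : Subgroup G} (hA : A ≤ W.N) (hne : A ≠ ⊥)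
    (hn : ∀ n ∈ W.N, Nz n A) (hU : ∀ k ∈ W.U, Nz k A) : ∃ t ∈ W.T, t ≠ 1 ∧ t ∈ A := by
  have : Fact (Nat.Prime 2) := ⟨Nat.prime_two⟩
  have h2 : 2 ∣ Nat.card A := by
    by_contra h2
    rw [← even_iff_two_dvd, Nat.not_even_iff_odd] at h2
    exact hne (eq_bot_iff.2 fun a ha => mem_bot.2
      (center_eq h h4 (hA ha) (central_of_odd hA hn h2 a ha)))
  obtain ⟨x, hx⟩ := exists_prime_orderOf_dvd_card' 2 h2
  have hx' : orderOf (x : G) = 2 := by rw [orderOf_coe, hx]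
  obtain ⟨n, hn', e⟩ := exists_conj (W := W) (V := zpowers (x : G)) (zpowers_le.2 (hA x.2))
    (IsPGroup.of_card (n := 1) (by rw [Nat.card_zpowers, hx', pow_one]))
  have h3 : W.S ⊓ A ≠ ⊥ := fun e' => by
    have h5 : n * x * n⁻¹ ∈ W.S ⊓ A := ⟨e _ (mem_zpowers _), hn n hn' _ x.2⟩
    rw [e', mem_bot, mul_inv_eq_one, mul_eq_left] at h5
    rw [h5, orderOf_one] at hx'
    exact absurd hx' (by decide)
  obtain ⟨t, ht, t1, -, hc⟩ := exists_cent_inv W.pS.to_inf_left W.pU h3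
    fun k hk => Nz.inf (W.U_S k hk) (hU k hk)
  obtain ⟨k, hk, k1⟩ : ∃ k ∈ W.U, k ≠ 1 := by
    by_contra hh
    push Not at hh
    have : W.U = ⊥ := eq_bot_iff.2 fun k hk => mem_bot.2 (hh k hk)
    exact h.not_cyclic h4 (by rw [this]; infer_instance)
  exact ⟨t, cenS hk k1 ht.1 (hc k hk).symm, t1, ht.2⟩

/-- a minimal normal subgroup of `N` -/
structure Mn (W : Tw G) (M : Subgroup G) : Prop where
  le : M ≤ W.N
  ne : M ≠ ⊥
  nz : ∀ n ∈ W.N, Nz n M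
  min : ∀ A ≤ M, (∀ n ∈ W.N, Nz n A) → A = ⊥ ∨ A = M

theorem exists_mn {K : Subgroup G} (hK : K ≤ W.N) (hne : K ≠ ⊥) (hn : ∀ n ∈ W.N, Nz n K) :
    ∃ M ≤ K, Mn W M := by
  obtain ⟨M, hM, h⟩ := exists_minimal_le_of_wellFoundedLT
    (fun M : Subgroup G => M ≠ ⊥ ∧ ∀ n ∈ W.N, Nz n M) K ⟨hne, hn⟩
  refine ⟨M, hM, hM.trans hK, h.1.1, h.1.2, fun A hA hn => ?_⟩
  by_cases e : A = ⊥
  · exact Or.inl e
  · exact Or.inr (le_antisymm hA (h.2 ⟨e, hn⟩ hA))

variable {M : Subgroup G}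

theorem Mn.cases (m : Mn W M) {g : G} (hg : Nz g W.N) :
    Nz g M ∨ ∀ a ∈ M, g * a * g⁻¹ ∈ W.N ⊓ centralizer (M : Set G) := by
  let f := (MulAut.conj g).toMonoidHom
  have nf : ∀ n ∈ W.N, Nz n (M.map f) := by
    rintro n hn _ ⟨a, ha, rfl⟩
    refine ⟨_, m.nz _ (hg.inv n hn) a ha, ?_⟩
    show g * _ * g⁻¹ = n * (g * a * g⁻¹) * n⁻¹
    group
  rcases m.min (M ⊓ M.map f) inf_le_left (fun n hn => (m.nz n hn).inf (nf n hn)) with e | e
  · refine Or.inr fun a ha => ⟨hg a (m.le ha), mem_centralizer_iff.2 fun b hb => ?_⟩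
    have h1 : b * (g * a * g⁻¹) * b⁻¹ * (g * a * g⁻¹)⁻¹ ∈ M ⊓ M.map f := by
      refine mem_inf.2 ⟨?_, mul_mem (nf b (m.le hb) _ ⟨a, ha, rfl⟩) ((M.map f).inv_mem ⟨a, ha, rfl⟩)⟩
      rw [show b * (g * a * g⁻¹) * b⁻¹ * (g * a * g⁻¹)⁻¹ = b * (g * a * g⁻¹ * b⁻¹ * (g * a * g⁻¹)⁻¹) by group]
      exact mul_mem hb (m.nz _ (hg a (m.le ha)) _ (inv_mem hb))
    rwa [e, mem_bot, mul_inv_eq_one, mul_inv_eq_iff_eq_mul] at h1
  · have h1 : M = M.map f := eq_of_le_of_card_ge (inf_eq_left.1 e)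
      (card_map_of_injective (MulAut.conj g).injective).le
    exact Or.inl fun a ha => by rw [h1]; exact ⟨a, ha, rfl⟩

theorem Mn.gen (m : Mn W M) (h : W.El) (h4 : 4 ≤ Nat.card W.T) {B : Subgroup G}
    (hB : ∀ g, Nz g W.N → ∀ a ∈ M, g * a * g⁻¹ ∈ B) : W.N ≤ B := by
  let J : Subgroup G := closure {x | ∃ g, Nz g W.N ∧ ∃ a ∈ M, x = g * a * g⁻¹}
  have hJ : J ≤ B := (closure_le _).2 (by rintro _ ⟨g, hg, a, ha, rfl⟩; exact hB g hg a ha)
  rcases W.fmax J ((closure_le _).2 (by rintro _ ⟨g, hg, a, ha, rfl⟩; exact hg a (m.le ha)))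
    (fun g hg x hx => by
      have : J.map (MulAut.conj g).toMonoidHom ≤ J := by
        rw [MonoidHom.map_closure]
        refine closure_mono ?_
        rintro _ ⟨_, ⟨g', hg', a, ha, rfl⟩, rfl⟩
        refine ⟨g * g', Nz.mul hg hg', a, ha, ?_⟩
        show g * _ * g⁻¹ = _
        group
      exact this ⟨x, hx, rfl⟩) with e | e
  · exact e ▸ hJ
  · refine absurd (eq_bot_iff.2 fun a ha => mem_bot.2 (center_eq h h4 (m.le ha) (e a ?_))) m.ne
    exact subset_closure ⟨1, fun a ha => by simpa using ha, a, ha, by simp⟩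

theorem Mn.disj (m : Mn W M) (h : W.El) (h4 : 4 ≤ Nat.card W.T) {a : G} (ha : a ∈ M)
    (hc : a ∈ W.N ⊓ centralizer (M : Set G)) : a = 1 := by
  rcases m.min (M ⊓ centralizer (M : Set G)) inf_le_left
    (fun n hn => (m.nz n hn).inf (m.nz n hn).cent) with e | e
  · exact mem_bot.1 (e ▸ (⟨ha, hc.2⟩ : a ∈ M ⊓ centralizer (M : Set G)))
  · have h1 := m.gen h h4 (B := centralizer (M : Set G)) fun g hg b hb => by
      rcases m.cases hg with e' | e'
      · exact inf_eq_left.1 e (e' b hb)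
      · exact (e' b hb).2
    exact center_eq h h4 (m.le ha) fun n hn => mem_centralizer_iff.1 (h1 hn) a ha

theorem Mn.dec (m : Mn W M) (h : W.El) (h4 : 4 ≤ Nat.card W.T) {n : G} (hn : n ∈ W.N) :
    ∃ a ∈ M, ∃ c ∈ W.N ⊓ centralizer (M : Set G), n = a * c := by
  let B : Subgroup G :=
    { carrier := {n | ∃ a ∈ M, ∃ c ∈ W.N ⊓ centralizer (M : Set G), n = a * c}
      one_mem' := ⟨1, one_mem _, 1, one_mem _, by simp⟩
      mul_mem' := by
        rintro _ _ ⟨a, ha, c, hc, rfl⟩ ⟨a', ha', c', hc', rfl⟩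
        refine ⟨_, mul_mem ha ha', _, mul_mem hc hc', ?_⟩
        rw [mul_assoc, ← mul_assoc c, ← mem_centralizer_iff.1 hc.2 a' ha']; group
      inv_mem' := by
        rintro _ ⟨a, ha, c, hc, rfl⟩
        refine ⟨_, inv_mem ha, _, inv_mem hc, ?_⟩
        rw [mem_centralizer_iff.1 hc.2 a ha, mul_inv_rev] }
  refine m.gen h h4 (B := B) (fun g hg b hb => ?_) hn
  rcases m.cases hg with e' | e'
  · exact ⟨_, e' b hb, 1, one_mem _, (mul_one _).symm⟩
  · exact ⟨1, one_mem _, _, e' b hb, (one_mul _).symm⟩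

theorem Mn.nz_U (m : Mn W M) (h : W.El) (h4 : 4 ≤ Nat.card W.T) {k : G} (hk : k ∈ W.U) : Nz k M := by
  by_contra hn
  have hC := (m.cases (W.U_N k hk)).resolve_left hn
  have k1 : k ≠ 1 := by rintro rfl; exact hn fun a ha => by simpa using ha
  have ki : k⁻¹ = k := inv_eq_of_mul_eq_one_right (h.U hk)
  have key : ∀ k' ∈ W.U, ∀ l ∈ M,
      k' * l * k'⁻¹ * (k' * k * l * (k' * k)⁻¹) = l * (k * l * k⁻¹) := fun k' hk' l hl => by
    have h1 := W.cen k hk k1 k' hk' (l * (k * l * k⁻¹)) (mul_mem (m.le hl) (hC l hl).1) (by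
      rw [mem_centralizer_iff.1 (hC l hl).2 l hl]
      calc k * l * k⁻¹ * l * k = k * (l * (k⁻¹ * l * k)) := by group
        _ = _ := by rw [← mem_centralizer_iff.1 (hC l hl).2 l hl, ki])
    calc _ = k' * (l * (k * l * k⁻¹)) * k'⁻¹ := by group
      _ = _ := by rw [← h1, mul_inv_cancel_right]
  have none : ∀ k' ∈ W.U, k' ≠ 1 → ∀ a ∈ M, k' * a * k'⁻¹ ∈ W.N ⊓ centralizer (M : Set G) := by
    intro k' hk' k1'
    refine (m.cases (W.U_N k' hk')).resolve_left fun hz => hn fun l hl => ?_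
    have h1 : l⁻¹ * (k' * l * k'⁻¹) = 1 := by
      refine m.disj h h4 (mul_mem (inv_mem hl) (hz l hl)) ?_
      have h2 : k' * k * l * (k' * k)⁻¹ ∈ W.N ⊓ centralizer (M : Set G) := by
        rw [U_comm hk' hk, show k * k' * l * (k * k')⁻¹ = k * (k' * l * k'⁻¹) * k⁻¹ by group]
        exact hC _ (hz l hl)
      rw [show l⁻¹ * (k' * l * k'⁻¹) = l⁻¹ * (k' * l * k'⁻¹ * (k' * k * l * (k' * k)⁻¹)) *
        (k' * k * l * (k' * k)⁻¹)⁻¹ by group, key k' hk' l hl, inv_mul_cancel_left]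
      exact mul_mem (hC l hl) (inv_mem h2)
    rw [inv_mul_eq_one, eq_mul_inv_iff_mul_eq] at h1
    rw [← W.cen k' hk' k1' k hk l (m.le hl) h1, mul_inv_cancel_right]
    exact hl
  obtain ⟨k', hk', hz⟩ : ∃ k' ∈ W.U, k' ∉ zpowers k := by
    by_contra hh
    push Not at hh
    refine h.not_cyclic h4 ?_
    rw [le_antisymm (fun x hx => hh x hx) (zpowers_le.2 hk)]
    infer_instance
  have a1 := none k' hk' (by rintro rfl; exact hz (one_mem _))
  have a2 := none (k' * k) (mul_mem hk' hk) (fun e => hz (by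
    rw [eq_inv_of_mul_eq_one_left e]; exact inv_mem (mem_zpowers k)))
  refine m.ne (eq_bot_iff.2 fun l hl => mem_bot.2 (m.disj h h4 hl ?_))
  have := mul_mem (mul_mem (a1 l hl) (a2 l hl)) (inv_mem (hC l hl))
  rwa [key k' hk' l hl, mul_inv_cancel_right] at this

theorem Mn.comp (m : Mn W M) (h : W.El) (h4 : 4 ≤ Nat.card W.T) {a c : G} (ha : a ∈ M)
    (hc : c ∈ W.N ⊓ centralizer (M : Set G)) (hs : a * c ∈ W.S) : a ∈ W.S := by
  have : Fact (Nat.Prime 2) := ⟨Nat.prime_two⟩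
  let B : Subgroup G :=
    { carrier := {a | a ∈ M ∧ ∃ c ∈ W.N ⊓ centralizer (M : Set G), a * c ∈ W.S}
      one_mem' := ⟨one_mem _, 1, one_mem _, by simp⟩
      mul_mem' := by
        rintro a a' ⟨ha, c, hc, e⟩ ⟨ha', c', hc', e'⟩
        refine ⟨mul_mem ha ha', _, mul_mem hc hc', ?_⟩
        have := mul_mem e e'
        rwa [mul_assoc, ← mul_assoc c, ← mem_centralizer_iff.1 hc.2 a' ha', mul_assoc, ← mul_assoc] at this
      inv_mem' := by
        rintro a ⟨ha, c, hc, e⟩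
        refine ⟨inv_mem ha, _, inv_mem hc, ?_⟩
        have := inv_mem e
        rwa [mem_centralizer_iff.1 hc.2 a ha, mul_inv_rev] at this }
  have pB : IsPGroup 2 B := by
    rintro ⟨a, ha, c, hc, e⟩
    obtain ⟨j, hj⟩ := W.pS ⟨_, e⟩
    have h1 : (a * c) ^ 2 ^ j = 1 := congrArg Subtype.val hj
    rw [Commute.mul_pow (mem_centralizer_iff.1 hc.2 a ha), mul_eq_one_iff_eq_inv] at h1
    exact ⟨j, Subtype.ext (m.disj h h4 (pow_mem ha _) (by
      show a ^ 2 ^ j ∈ _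
      rw [h1]; exact inv_mem (pow_mem hc _)))⟩
  have nB : W.S ≤ normalizer (B : Set G) := fun s hs => Nz.norm (by
    rintro a ⟨ha, c, hc, e⟩
    have sN := W.S_le hs
    refine ⟨m.nz s sN a ha, s * c * s⁻¹, (nz_of_mem sN).inf (m.nz s sN).cent c hc, ?_⟩
    rw [show s * a * s⁻¹ * (s * c * s⁻¹) = s * (a * c) * s⁻¹ by group]
    exact nz_of_mem hs _ e)
  have e := eq_S (W := W) (V := B ⊔ W.S) (sup_le (fun a ha => m.le ha.1) W.S_le)
    (IsPGroup.to_sup_of_normal_left' pB W.pS nB) le_sup_right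
  rw [← e]
  exact mem_sup_left ⟨ha, c, hc, hs⟩

theorem T_le_of (hS : W.S = W.R) {A : Subgroup G} (hU : ∀ k ∈ W.U, Nz k A) {s : G} (hs : s ∈ W.S)
    (s1 : s ∉ W.T) (ha : s ∈ A) : W.T ≤ A := fun t ht => by
  obtain ⟨k, hk, rfl⟩ := ph_surj (hS ▸ hs) s1 ht
  rw [show ph s k = s * (k * s⁻¹ * k⁻¹) by unfold ph; group]
  exact mul_mem ha (hU k hk _ (inv_mem ha))

theorem Mn.eq (m : Mn W M) (h : W.El) (h4 : 4 ≤ Nat.card W.T) (hS : W.S = W.R) : W.N ≤ M := by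
  by_cases hC : W.N ⊓ centralizer (M : Set G) = ⊥
  · intro n hn
    obtain ⟨a, ha, c, hc, rfl⟩ := m.dec h h4 hn
    rw [hC, mem_bot] at hc
    rwa [hc, mul_one]
  exfalso
  have uM : ∀ k ∈ W.U, Nz k M := fun k hk => m.nz_U h h4 hk
  have uC : ∀ k ∈ W.U, Nz k (W.N ⊓ centralizer (M : Set G)) := fun k hk =>
    Nz.inf (W.U_N k hk) (uM k hk).cent
  obtain ⟨t, ht, t1, tM⟩ := meet_T h h4 m.le m.ne m.nz uM
  obtain ⟨t', ht', t1', tC⟩ := meet_T h h4 inf_le_left hC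
    (fun n hn => (nz_of_mem hn).inf (m.nz n hn).cent) uC
  obtain ⟨s, hs, s1⟩ := W.exists_R
  rw [← hS] at hs
  obtain ⟨a, ha, c, hc, rfl⟩ := m.dec h h4 (W.S_le hs)
  have aS := m.comp h h4 ha hc hs
  by_cases aT : a ∈ W.T
  · exact t1 (m.disj h h4 tM (T_le_of hS uC ((W.S.mul_mem_cancel_left aS).1 hs)
      (fun e => s1 (mul_mem aT e)) hc ht))
  · exact t1' (m.disj h h4 (T_le_of hS uM aS aT ha ht') tC)

end Sx

open Sx in
theorem El.simple (h : W.El) (h4 : 4 ≤ Nat.card W.T) (hS : W.S = W.R) :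
    IsSimpleGroup W.N := by
  have : Nontrivial W.N := (nontrivial_iff_ne_bot _).2 fun e => W.T_ne (eq_bot_iff.2 (e ▸ W.T_le_N))
  refine ⟨fun K hK => ?_⟩
  by_cases e : K = ⊥
  · exact Or.inl e
  obtain ⟨M, hM, m⟩ := exists_mn (W := W) (K := K.map W.N.subtype) (map_subtype_le K)
    (fun e' => e ((map_eq_bot_iff_of_injective _ W.N.subtype_injective).1 e')) (by
      rintro n hn _ ⟨a, ha, rfl⟩
      exact ⟨_, hK.conj_mem a ha ⟨n, hn⟩, rfl⟩)
  refine Or.inr (eq_top_iff.2 fun x _ => ?_)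
  obtain ⟨y, hy, e'⟩ := hM (m.eq h h4 hS x.2)
  rwa [← Subtype.ext e']

end H97.ONT.Tw
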