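import Cfsg.Agent.Lib.ONT.TwG2
import Cfsg.Agent.Lib.ONT.Orb

set_option autoImplicit false

namespace H97.ONT.Tw

open Subgroup

variable {G : Type*} [Group G] [Finite G] {W : Tw G} {g : G}

theorem Gm.exists_k (h : W.Gm g) (e : W.El) {r : G} (hr : r ∈ W.R) :
    ∃ k ∈ W.U, r * k * (r * k) = 1 := by
  obtain ⟨k, hk, t, ht, rfl⟩ := h.dec e hr
  refine ⟨k, hk, ?_⟩
  have c : Commute t (ph g k * k) :=
    Commute.mul_right (e.comm (h.ph_mem hk) ht).symm (W.comm t ht k hk)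
  have e1 : ph g k * t * k = ph g k * k * t := by rw [mul_assoc, W.comm t ht k hk, mul_assoc]
  have e2 : ph g k * k * t * (ph g k * k * t) = ph g k * k * (t * (ph g k * k)) * t := by group
  rw [e1, e2, c.eq, ← mul_assoc, h.ph_sq e hk, one_mul, e t ht]

theorem Gm.R_comm (h : W.Gm g) (e : W.El) {r r' : G} (hr : r ∈ W.R) (hr' : r' ∈ W.R) :
    r * r' = r' * r := by
  by_cases r1 : r ∈ W.T
  · exact (e.comm hr' r1).symm
  by_cases r1' : r' ∈ W.T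
  · exact e.comm hr r1'
  obtain ⟨k, hk, h2⟩ := h.exists_k e hr
  obtain ⟨k', hk', h2'⟩ := h.exists_k e hr'
  obtain ⟨a1, a2⟩ := h.act e hr hr' hk hk' r1 r1' h2 h2'
  rw [h.cent_T e (Tw.ph_mem hr hk'), mul_inv_cancel_right] at a1
  rw [← a1, e _ (Tw.ph_mem hr hk'), mul_inv_eq_one, mul_inv_eq_iff_eq_mul] at a2
  exact a2

theorem Gm.out (h : W.Gm g) (e : W.El) (h4 : 4 ≤ Nat.card W.T) {s : G} (hs : s ∈ W.S)
    (s1 : s ∉ W.R) : ∃ r ∈ W.R, s = g * r :=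
  ⟨g⁻¹ * s, (h.cases e h4 hs).resolve_left s1, by group⟩

theorem Gm.out2 (h : W.Gm g) (e : W.El) (h4 : 4 ≤ Nat.card W.T) {s s' : G} (hs : s ∈ W.S)
    (s1 : s ∉ W.R) (hs' : s' ∈ W.S) (s1' : s' ∉ W.R) : s⁻¹ * s' ∈ W.R := by
  obtain ⟨r, hr, rfl⟩ := h.out e h4 hs s1
  obtain ⟨r', hr', rfl⟩ := h.out e h4 hs' s1'
  simpa [mul_assoc] using mul_mem (inv_mem hr) hr'

theorem Gm.S_T (h : W.Gm g) (e : W.El) (h4 : 4 ≤ Nat.card W.T) {s t : G} (hs : s ∈ W.S)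
    (ht : t ∈ W.T) : s * t = t * s := by
  by_cases s1 : s ∈ W.R
  · exact e.comm s1 ht
  · obtain ⟨r, hr, rfl⟩ := h.out e h4 hs s1
    rw [mul_assoc, e.comm hr ht, ← mul_assoc, h.cent_T e ht, mul_assoc]

theorem Gm.idx (h : W.Gm g) (e : W.El) (h4 : 4 ≤ Nat.card W.T) : W.R.relIndex W.S = 2 := by
  classical
  have h1 : W.R.relIndex W.S ≤ Nat.card Bool := by
    refine relIndex_le_of_fib (fun v => decide ((v : G) ∈ W.R)) fun a b e1 => ?_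
    have e' : (a : G) ∈ W.R ↔ (b : G) ∈ W.R := by simpa using e1
    by_cases ha : (a : G) ∈ W.R
    · exact mul_mem (inv_mem ha) (e'.1 ha)
    · exact h.out2 e h4 a.2 ha b.2 fun h => ha (e'.2 h)
  have h2 : W.R.relIndex W.S ≠ 1 := fun h2 => h.not (relIndex_eq_one.1 h2 h.mem)
  have h3 : W.R.relIndex W.S ≠ 0 := FiniteIndex.index_ne_zero
  simp only [Nat.card_eq_fintype_card, Fintype.card_bool] at h1
  omega

theorem Gm.sq_surj (h : W.Gm g) (e : W.El) {t : G} (ht : t ∈ W.T) : ∃ r ∈ W.R, r * r = t := by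
  have hi := inj_out (T := W.T) (fun v : W.R => (⟨v * v, sq_mem v.2⟩ : W.T)) fun a b e1 => by
    have e2 : (a : G) * a = b * b := congrArg Subtype.val e1
    refine h.omega e (mul_mem (inv_mem a.2) b.2) ?_
    have e3 : (a : G)⁻¹ * b * ((a : G)⁻¹ * b) = (a : G)⁻¹ * (b * (a : G)⁻¹) * b := by group
    rw [e3, h.R_comm e b.2 (inv_mem a.2), mul_assoc, mul_assoc, ← e2]; group
  have h2 := H1.card_mul_relIndex_of_le W.T_le_R
  rw [h.card_R] at h2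
  have h3 := Nat.eq_of_mul_eq_mul_left (Nat.card_pos (α := W.T)) h2
  obtain ⟨c, hc⟩ := (hi.bijective_of_nat_card_le h3.ge).2 ⟨t, ht⟩
  exact ⟨_, c.out.2, congrArg Subtype.val hc⟩

theorem Gm.sq_T (h : W.Gm g) (e : W.El) (h4 : 4 ≤ Nat.card W.T) : g * g ∈ W.T := by
  by_contra h0
  have h4R : ∀ r ∈ W.R, r ^ 2 ^ 2 = 1 := fun r hr => by
    rw [← e _ (sq_mem hr)]; norm_num [pow_succ, mul_assoc]
  have key : ∀ s ∈ W.S, s ∉ W.R → orderOf s = 2 ^ 3 := by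
    intro s hs s1
    obtain ⟨r, hr, rfl⟩ := h.out e h4 hs s1
    obtain ⟨t, ht, e1⟩ := h.cj_mod e hr
    have e2 : g * r * (g * r) = g * g * (r * t * r) := by
      rw [h.R_comm e h.sq (mul_mem (mul_mem hr (W.T_le_R ht)) hr), mul_assoc (r * t),
        h.R_comm e hr h.sq, ← e1]; group
    have m1 : r * t * r ∈ W.T := by
      rw [e.comm hr ht, mul_assoc]; exact mul_mem ht (sq_mem hr)
    have m2 : g * r * (g * r) ∈ W.R := by rw [e2]; exact mul_mem h.sq (W.T_le_R m1)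
    have m3 : g * r * (g * r) ∉ W.T := by
      rw [e2]; exact fun h => h0 ((Subgroup.mul_mem_cancel_right _ m1).1 h)
    refine orderOf_eq_prime_pow (fun h1 => m3 (h.omega e m2 ?_)) ?_
    · rw [← h1]; norm_num [pow_succ, mul_assoc]
    · rw [← h4R _ m2, ← pow_two, ← pow_mul]; norm_num
  obtain ⟨n, -, hn⟩ := thompson W.R_le (h.idx e h4) (m := 3) (by norm_num)
    (fun s hs s1 => by rw [key s hs s1]; norm_num) h.mem (key g h.mem h.not)
  have h1 := h4R _ hn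
  rw [conj_pow, mul_inv_eq_one, mul_eq_left] at h1
  have := Nat.le_of_dvd (by norm_num) (orderOf_dvd_of_pow_eq_one h1)
  rw [key g h.mem h.not] at this
  norm_num at this

theorem Gm.inv_R (h : W.Gm g) (e : W.El) (h4 : 4 ≤ Nat.card W.T) {s r : G} (hs : s ∈ W.S)
    (s1 : s ∉ W.R) (hr : r ∈ W.R) : s * r * s⁻¹ = r⁻¹ := by
  obtain ⟨r', hr', rfl⟩ := h.out e h4 hs s1
  have e1 : g * r' * r * (g * r')⁻¹ = g * (r' * r) * r'⁻¹ * g⁻¹ := by group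
  rw [e1, h.R_comm e hr' hr, ← mul_assoc, mul_inv_cancel_right]
  obtain ⟨k, hk, t, ht, rfl⟩ := h.dec e hr
  have e2 : g * (ph g k * t) * g⁻¹ = g * ph g k * g⁻¹ * (g * t * g⁻¹) := by group
  rw [e2, h.cj_ph hk, ph_of_T (h.sq_T e h4) hk, h.cent_T e ht, mul_inv_cancel_right, one_mul,
    mul_inv_rev, inv_eq_of_mul_eq_one_right (e t ht), e.comm (inv_mem (h.ph_mem hk)) ht]

theorem Gm.sq_out (h : W.Gm g) (e : W.El) (h4 : 4 ≤ Nat.card W.T) {s : G} (hs : s ∈ W.S)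
    (s1 : s ∉ W.R) : s * s = g * g := by
  obtain ⟨r, hr, rfl⟩ := h.out e h4 hs s1
  have e1 : g * r * (g * r) = g * r * g⁻¹ * (g * g) * r := by group
  rw [e1, h.inv_R e h4 h.mem h.not hr, h.R_comm e (inv_mem hr) h.sq, inv_mul_cancel_right]

theorem Gm.cen_out (h : W.Gm g) (e : W.El) (h4 : 4 ≤ Nat.card W.T) {s r : G} (hs : s ∈ W.S)
    (s1 : s ∉ W.R) (hr : r ∈ W.R) (c : s * r = r * s) : r ∈ W.T := by
  have := h.inv_R e h4 hs s1 hr
  rw [c, mul_inv_cancel_right] at this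
  exact h.omega e hr (mul_eq_one_iff_eq_inv.2 this)

theorem Gm.idx_cen (h : W.Gm g) (e : W.El) (h4 : 4 ≤ Nat.card W.T) {s : G} (hs : s ∈ W.S)
    (s1 : s ∉ W.R) {B : Subgroup G} (hB : B ≤ W.S) (c : ∀ b ∈ B, s * b = b * s) :
    Nat.card B ≤ Nat.card (W.T ⊓ B : Subgroup G) * 2 := by
  classical
  have h1 : W.T.relIndex B ≤ Nat.card Bool := by
    refine relIndex_le_of_fib (fun v => decide ((v : G) ∈ W.R)) fun a b e1 => ?_
    have e' : (a : G) ∈ W.R ↔ (b : G) ∈ W.R := by simpa using e1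
    refine h.cen_out e h4 hs s1 ?_ (c _ (mul_mem (inv_mem a.2) b.2))
    by_cases ha : (a : G) ∈ W.R
    · exact mul_mem (inv_mem ha) (e'.1 ha)
    · exact h.out2 e h4 (hB a.2) ha (hB b.2) fun h => ha (e'.2 h)
  simp only [Nat.card_eq_fintype_card, Fintype.card_bool] at h1
  rw [← H1.card_inf_mul_relIndex W.T B]
  exact Nat.mul_le_mul_left _ h1

theorem Gm.cj_R_out (h : W.Gm g) (e : W.El) (h4 : 4 ≤ Nat.card W.T) {x r : G} (hx : x ∈ W.S)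
    (x1 : x ∉ W.R) (hr : r ∈ W.R) : r * x * r⁻¹ = x * (r⁻¹ * r⁻¹) := by
  have e1 : r * x * r⁻¹ = x * (x⁻¹ * r * x⁻¹⁻¹) * r⁻¹ := by group
  rw [e1, h.inv_R e h4 (inv_mem hx) (fun h => x1 (inv_mem_iff.1 h)) hr, mul_assoc]

theorem Gm.cj_out (h : W.Gm g) (e : W.El) (h4 : 4 ≤ Nat.card W.T) {x s : G} (hx : x ∈ W.S)
    (x1 : x ∉ W.R) (hs : s ∈ W.S) : ∃ t ∈ W.T, s * x * s⁻¹ = x * t := by
  by_cases s1 : s ∈ W.R
  · exact ⟨_, sq_mem (inv_mem s1), h.cj_R_out e h4 hx x1 s1⟩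
  · have hr := h.out2 e h4 hx x1 hs s1
    refine ⟨_, sq_mem (inv_mem hr), ?_⟩
    have e1 : s * x * s⁻¹ = x * (x⁻¹ * s * x * (x⁻¹ * s)⁻¹) * x⁻¹ := by group
    rw [e1, h.cj_R_out e h4 hx x1 hr, mul_assoc x, mul_assoc x,
      ← h.S_T e h4 (inv_mem hx) (sq_mem (inv_mem hr)), mul_inv_cancel_left]

theorem Gm.tr_out (h : W.Gm g) (e : W.El) (h4 : 4 ≤ Nat.card W.T) {x t : G} (hx : x ∈ W.S)
    (x1 : x ∉ W.R) (ht : t ∈ W.T) : ∃ r ∈ W.S, r * x * r⁻¹ = x * t := by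
  obtain ⟨r, hr, rfl⟩ := h.sq_surj e ht
  exact ⟨r⁻¹, inv_mem (W.R_le hr), by rw [h.cj_R_out e h4 hx x1 (inv_mem hr), inv_inv]⟩

theorem Gm.sq_one (h : W.Gm g) (e : W.El) (h4 : 4 ≤ Nat.card W.T) : g * g = 1 := by
  by_contra h0
  have t0 := h.sq_T e h4
  obtain ⟨n, hn, h1, h2⟩ := not_isolated (W.T_le t0) h0 (e _ t0)
  have h3 : n * (g * g) * n⁻¹ * (n * (g * g) * n⁻¹) = 1 := by
    have : n * (g * g) * n⁻¹ * (n * (g * g) * n⁻¹) = n * (g * g * (g * g)) * n⁻¹ := by group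
    rw [this, e _ t0]; group
  have h5 : n * (g * g) * n⁻¹ ∈ W.T := by
    refine h.omega e ?_ h3
    by_contra h6
    exact h0 ((h.sq_out e h4 h1 h6).symm.trans h3)
  obtain ⟨m, -, -, e1, mS⟩ := burnside (W.T_le t0) (fun s hs => h.S_T e h4 hs t0)
    (fun s hs => h.S_T e h4 hs h5) hn rfl
  by_cases h6 : m * g * m⁻¹ ∈ W.R
  · have mS' : m⁻¹ ∈ normalizer (W.S : Set G) := inv_mem (mem_normalizer_fintype mS)
    have h7 := h.idx_cen e h4 h.mem h.not (B := W.R.map (MulAut.conj m⁻¹).toMonoidHom) ?_ ?_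
    · rw [card_map_of_injective (MulAut.conj m⁻¹).injective, h.card_R] at h7
      have h8 := h7.trans (Nat.mul_le_mul_right 2 (card_le_of_le inf_le_left))
      have := Nat.le_of_mul_le_mul_left h8 (by omega)
      omega
    · rintro _ ⟨r, hr, rfl⟩
      exact (mem_normalizer_iff.1 mS' r).1 (W.R_le hr)
    · rintro _ ⟨r, hr, rfl⟩
      change g * (m⁻¹ * r * m⁻¹⁻¹) = m⁻¹ * r * m⁻¹⁻¹ * g
      calc g * (m⁻¹ * r * m⁻¹⁻¹) = m⁻¹ * (m * g * m⁻¹ * r) * m := by group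
        _ = _ := by rw [h.R_comm e h6 hr]; group
  · apply h2
    rw [← e1]
    refine Eq.trans ?_ (h.sq_out e h4 (mS g h.mem) h6)
    group

theorem Gm.false {g : G} (h : W.Gm g) (h4 : 4 ≤ Nat.card W.T) : False := by
  have e := h.el h4
  have g2 := h.sq_one e h4
  have ne1 : ∀ s, s ∉ W.R → s ≠ 1 := fun s s1 h => s1 (h ▸ one_mem _)
  obtain ⟨n, hn, h1⟩ := thompson W.R_le (h.idx e h4) (m := 1) le_rfl
    (fun s _ s1 => by
      have a1 := orderOf_pos s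
      have a2 : orderOf s ≠ 1 := fun h => ne1 s s1 (orderOf_eq_one_iff.1 h)
      rw [Nat.sub_self, pow_zero]; omega)
    h.mem (by rw [pow_one]; exact orderOf_eq_prime (by rw [pow_two, g2]) (ne1 g h.not))
  have ht : n * g * n⁻¹ ∈ W.T := h.omega e h1 (by
    have : n * g * n⁻¹ * (n * g * n⁻¹) = n * (g * g) * n⁻¹ := by group
    rw [this, g2]; group)
  obtain ⟨m, hm, e1, mS⟩ := extremal h.mem (fun s hs => h.S_T e h4 hs ht) hn rfl
  rw [← e1] at ht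
  set φ := (MulAut.conj m).toMonoidHom with hφ
  have φi : Function.Injective φ := (MulAut.conj m).injective
  set A0 : Subgroup G := W.S ⊓ centralizer {g} with hA0
  have mA : ∀ {x}, x ∈ A0 ↔ x ∈ W.S ∧ x * g = g * x := fun {x} =>
    and_congr Iff.rfl mem_centralizer_singleton_iff
  have TA0 : W.T ≤ A0 := fun t ht => mA.2 ⟨W.T_le ht, (h.cent_T e ht).symm⟩
  have A0T : ∀ x ∈ A0, x ∈ W.R → x ∈ W.T := fun x hx hr =>
    h.cen_out e h4 h.mem h.not hr (mA.1 hx).2.symm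
  have eA0 : ∀ x ∈ A0, x * x = 1 := fun x hx => by
    by_cases hr : x ∈ W.R
    · exact e x (A0T x hx hr)
    · rw [h.sq_out e h4 hx.1 hr, g2]
  have AS : A0.map φ ≤ W.S := by
    rintro _ ⟨x, hx, rfl⟩
    exact mS x hx.1 (mA.1 hx).2
  have eA : ∀ a ∈ A0.map φ, a * a = 1 := by
    rintro _ ⟨x, hx, rfl⟩
    rw [← map_mul, eA0 x hx, map_one]
  have AT : ∀ a ∈ A0.map φ, a ∈ W.R → a ∈ W.T := fun a ha hr => h.omega e hr (eA a ha)
  have gT : g ∉ W.T := fun hg => h.not (W.T_le_R hg)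
  have cA : Nat.card W.T * 2 ≤ Nat.card (A0.map φ) := by
    rw [card_map_of_injective φi, ← H1.card_mul_relIndex_of_le TA0]
    refine Nat.mul_le_mul_left _ ?_
    have h2 : W.T.relIndex A0 ≠ 1 := fun h2 => gT (relIndex_eq_one.1 h2 (mA.2 ⟨h.mem, rfl⟩))
    have h3 : W.T.relIndex A0 ≠ 0 := FiniteIndex.index_ne_zero
    omega
  obtain ⟨x, hx, x1⟩ : ∃ x ∈ A0.map φ, x ∉ W.R := by
    by_contra hc
    push Not at hc
    have := card_le_of_le (fun a ha => AT a ha (hc a ha) : A0.map φ ≤ W.T)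
    omega
  have TA : W.T ≤ A0.map φ := by
    have h2 := h.idx_cen e h4 (AS hx) x1 AS fun b hb => comm_of_sq eA hx hb
    have h3 : W.T ⊓ A0.map φ = W.T := eq_of_le_of_card_ge inf_le_left (by omega)
    exact h3.ge.trans inf_le_right
  have tT : m * g * m⁻¹ ∉ W.T.map φ := by
    rintro ⟨y, hy, e2⟩
    exact gT (φi (show φ y = φ g from e2) ▸ hy)
  have nrm : ∀ B : Subgroup G, W.T ≤ B → B ≤ W.S → (∀ a ∈ B, a ∈ W.R → a ∈ W.T) →
      ∀ s ∈ W.S, ∀ a ∈ B, s * a * s⁻¹ ∈ B := fun B h1 h2 h3 s hs a ha => by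
    by_cases hr : a ∈ W.R
    · rw [h.S_T e h4 hs (h3 a ha hr), mul_inv_cancel_right]; exact ha
    · obtain ⟨t, ht, e2⟩ := h.cj_out e h4 (h2 ha) hr hs
      rw [e2]; exact mul_mem ha (h1 ht)
  have key := orb (Γ := W.N) (P := W.S) (P' := W.S.map φ) (A := A0.map φ) (T := W.T)
    (T' := W.T.map φ) W.S_le ?_ W.oddS eA TA (map_mono TA0) ?_ (fun hle => tT (hle ht)) ?_
    (nrm _ TA AS AT) ?_ (fun s hs t ht => h.S_T e h4 hs ht) ?_ ?_ ?_
  · have h2 := h.idx_cen e h4 (AS hx) x1 ((map_mono TA0).trans AS)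
      fun b hb => comm_of_sq eA hx (map_mono TA0 hb)
    rw [key, card_bot, card_map_of_injective φi] at h2
    omega
  · rintro _ ⟨s, hs, rfl⟩
    exact mul_mem (mul_mem hm (W.S_le hs)) (inv_mem hm)
  · rintro _ ⟨y, hy, rfl⟩
    by_cases hr : y ∈ W.R
    · exact ⟨1, one_mem _, φ y, ⟨y, A0T y hy hr, rfl⟩, (one_mul _).symm⟩
    · refine ⟨φ g, ht, φ (g⁻¹ * y), ⟨_, A0T _ (mul_mem (inv_mem (mA.2 ⟨h.mem, rfl⟩)) hy)
        (h.out2 e h4 h.mem h.not hy.1 hr), rfl⟩, ?_⟩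
      rw [← map_mul, mul_inv_cancel_left]
  · intro hle
    exact tT ((eq_of_le_of_card_ge hle (card_map_of_injective φi).ge).ge ht)
  · rintro _ ⟨s, hs, rfl⟩ _ ⟨y, hy, rfl⟩
    rw [← map_inv, ← map_mul, ← map_mul]
    exact ⟨_, nrm A0 TA0 inf_le_left A0T s hs y hy, rfl⟩
  · rintro _ ⟨s, hs, rfl⟩ _ ⟨y, hy, rfl⟩
    rw [← map_mul, ← map_mul, h.S_T e h4 hs hy]
  · intro a ha a1 t ht
    exact h.tr_out e h4 (AS ha) (fun hr => a1 (AT a ha hr)) ht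
  · rintro _ ⟨y, hy, rfl⟩ a1 _ ⟨t, ht, rfl⟩
    obtain ⟨r, hr, e2⟩ := h.tr_out e h4 hy.1 (fun hr => a1 ⟨y, A0T y hy hr, rfl⟩) ht
    exact ⟨φ r, ⟨r, hr, rfl⟩, by rw [← map_inv, ← map_mul, ← map_mul, e2, map_mul]⟩

end H97.ONT.Tw
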