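import Cfsg.Agent.Lib.ONT.Defs
import Cfsg.Agent.Lib.Core.GrpBasic
import Cfsg.Agent.Lib.Core.PCore
import Cfsg.Agent.Lib.Core.MinNormal
import Cfsg.Agent.Lib.Core.Frobenius
import Cfsg.Agent.S0033
import Cfsg.Agent.S0205

set_option autoImplicit false
set_option linter.unusedSectionVars false

namespace H97.ONT.Cf

open Subgroup

variable {G X : Type*} [Group G] [Finite G] [MulAction G X] [Finite X] {C : Cf G X}

theorem exists_ne (C : Cf G X) (x : X) : ∃ y, x ≠ y := by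
  obtain ⟨a, b, h⟩ := C.nt
  by_cases e : x = a
  · exact ⟨b, e ▸ h⟩
  · exact ⟨a, e⟩

theorem tr (C : Cf G X) (x y : X) : ∃ g : G, g • x = y := by
  obtain ⟨a, ha⟩ := C.exists_ne x
  obtain ⟨b, hb⟩ := C.exists_ne y
  obtain ⟨g, h, -⟩ := C.two ha hb
  exact ⟨g, h⟩

theorem swap (C : Cf G X) {x y : X} (hxy : x ≠ y) : ∃ w : G, w • x = y ∧ w • y = x :=
  C.two hxy hxy.symm

theorem cj_iff {g n : G} {x : X} : g * n * g⁻¹ ∈ C.N (g • x) ↔ n ∈ C.N x :=
  ⟨fun h => by simpa [mul_assoc] using C.cj g⁻¹ h, C.cj g⟩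

theorem F_cj_iff {g n : G} {x : X} : g * n * g⁻¹ ∈ C.F (g • x) ↔ n ∈ C.F x :=
  ⟨fun h => by simpa [mul_assoc] using C.F_cj g⁻¹ h, C.F_cj g⟩

theorem cj_smul_iff {g n : G} {y : X} : (g * n * g⁻¹) • g • y = g • y ↔ n • y = y := by
  rw [smul_smul, inv_mul_cancel_right, mul_smul, smul_left_cancel_iff]

theorem H_cj_iff {g n : G} {x y : X} : g * n * g⁻¹ ∈ C.H (g • x) (g • y) ↔ n ∈ C.H x y := by
  rw [mem_H, mem_H, cj_iff, cj_smul_iff]

theorem cj_fix {g n : G} {x : X} (hg : g • x = x) (hn : n ∈ C.N x) : g * n * g⁻¹ ∈ C.N x := by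
  simpa only [hg] using C.cj g hn

theorem F_cj_fix {g n : G} {x : X} (hg : g • x = x) (hn : n ∈ C.F x) : g * n * g⁻¹ ∈ C.F x := by
  simpa only [hg] using C.F_cj g hn

theorem H_cj_fix {g n : G} {x y : X} (hx : g • x = x) (hy : g • y = y) (hn : n ∈ C.H x y) :
    g * n * g⁻¹ ∈ C.H x y := by
  simpa only [hx, hy] using (H_cj_iff (g := g)).2 hn

private theorem map_eq {A B : Subgroup G} {g : G} (h : ∀ n, g * n * g⁻¹ ∈ B ↔ n ∈ A) :
    A.map (MulAut.conj g).toMonoidHom = B := by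
  ext n
  rw [H1.mem_map_conj_iff, ← h]
  simp [mul_assoc]

theorem N_map (C : Cf G X) (g : G) (x : X) :
    (C.N x).map (MulAut.conj g).toMonoidHom = C.N (g • x) := map_eq fun _ => cj_iff

theorem F_map (C : Cf G X) (g : G) (x : X) :
    (C.F x).map (MulAut.conj g).toMonoidHom = C.F (g • x) := map_eq fun _ => F_cj_iff

theorem H_map (C : Cf G X) (g : G) (x y : X) :
    (C.H x y).map (MulAut.conj g).toMonoidHom = C.H (g • x) (g • y) := map_eq fun _ => H_cj_iff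

private theorem card_cj (A : Subgroup G) (g : G) :
    Nat.card (A.map (MulAut.conj g).toMonoidHom) = Nat.card A :=
  card_map_of_injective (MulAut.conj g).injective

theorem card_N (C : Cf G X) (x u : X) : Nat.card (C.N x) = Nat.card (C.N u) := by
  obtain ⟨g, rfl⟩ := C.tr x u
  rw [← N_map, card_cj]

theorem card_F (C : Cf G X) (x u : X) : Nat.card (C.F x) = Nat.card (C.F u) := by
  obtain ⟨g, rfl⟩ := C.tr x u
  rw [← F_map, card_cj]

theorem card_H {x y u v : X} (hxy : x ≠ y) (huv : u ≠ v) :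
    Nat.card (C.H x y) = Nat.card (C.H u v) := by
  obtain ⟨g, rfl, rfl⟩ := C.two hxy huv
  rw [← H_map, card_cj]

theorem mem_norm_N {g : G} {x : X} (hg : g • x = x) : g ∈ normalizer (C.N x : Set G) :=
  mem_normalizer_iff.2 fun n => by simpa only [hg] using (cj_iff (C := C) (g := g) (x := x)).symm

theorem mem_norm_F {g : G} {x : X} (hg : g • x = x) : g ∈ normalizer (C.F x : Set G) :=
  mem_normalizer_iff.2 fun n => by simpa only [hg] using (F_cj_iff (C := C) (g := g) (x := x)).symm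

/-- T.I.: an element conjugating some `1 ≠ n ∈ N x` into `N x` fixes `x`. -/
theorem fix_of_cj {g n : G} {x : X} (hn : n ∈ C.N x) (h1 : n ≠ 1) (h : g * n * g⁻¹ ∈ C.N x) :
    g • x = x := by
  by_contra e
  exact h1 (conj_eq_one_iff.1 (C.ti e (C.cj g hn) h))

theorem fix_of_comm {g n : G} {x : X} (hn : n ∈ C.N x) (h1 : n ≠ 1) (h : g * n = n * g) :
    g • x = x := fix_of_cj hn h1 (by rwa [h, mul_inv_cancel_right])

/-- `[H x y, H y x] = 1`. -/
theorem H_comm {x y : X} (hxy : x ≠ y) {h k : G} (hh : h ∈ C.H x y) (hk : k ∈ C.H y x) :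
    h * k = k * h := by
  have h1 : h * k * h⁻¹ * k⁻¹ ∈ C.N y := mul_mem (cj_fix hh.2 hk.1) (inv_mem hk.1)
  have h2 : h * k * h⁻¹ * k⁻¹ ∈ C.N x := by
    have : h * (k * h⁻¹ * k⁻¹) ∈ C.N x := mul_mem hh.1 (cj_fix hk.2 (inv_mem hh.1))
    simpa only [mul_assoc] using this
  have := C.ti hxy h2 h1
  rwa [mul_inv_eq_one, mul_inv_eq_iff_eq_mul] at this

/-- `C_N(k) = H` for `1 ≠ k ∈ K`. -/
theorem cent_H {x y : X} {k n : G} (hk : k ∈ C.H y x) (h1 : k ≠ 1) (hn : n ∈ C.N x)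
    (h : n * k = k * n) : n ∈ C.H x y := ⟨hn, fix_of_comm hk.1 h1 h⟩

theorem inf_cent {x y : X} (hxy : x ≠ y) {k : G} (hk : k ∈ C.H y x) (h1 : k ≠ 1) :
    C.N x ⊓ centralizer {k} = C.H x y := by
  ext n
  rw [mem_inf, mem_centralizer_singleton_iff]
  exact ⟨fun h => cent_H hk h1 h.1 h.2, fun h => ⟨h.1, H_comm hxy h hk⟩⟩

theorem H_ne_bot {x y : X} (hxy : x ≠ y) : C.H x y ≠ ⊥ := fun e => by
  obtain ⟨n, hn, h1, h⟩ := C.nsr hxy
  exact h1 (mem_bot.1 (e ▸ (⟨hn, h⟩ : n ∈ C.H x y)))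

theorem eq_one_of_F_H {x y : X} (hxy : x ≠ y) {f : G} (hf : f ∈ C.F x) (hh : f ∈ C.H x y) :
    f = 1 := C.F_sr hxy hf hh.2

theorem not_N_le_F (C : Cf G X) (x : X) : ¬ C.N x ≤ C.F x := fun h => by
  obtain ⟨y, hy⟩ := C.exists_ne x
  obtain ⟨n, hn, h1, h2⟩ := C.nsr hy
  exact h1 (C.F_sr hy (h hn) h2)

/-- `N x` fixes no second point. -/
theorem exists_move {x y : X} (hxy : x ≠ y) : ∃ n ∈ C.N x, n • y ≠ y := by
  by_contra hc
  push Not at hc
  obtain ⟨n, hn, h1, -⟩ := C.nsr hxy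
  refine h1 (C.faith fun z => ?_)
  by_cases e : x = z
  · exact e ▸ C.fix hn
  obtain ⟨g, hx, rfl⟩ := C.two hxy e
  have := hc _ (cj_fix (g := g⁻¹) (by rw [inv_smul_eq_iff, hx]) hn)
  rwa [inv_inv, mul_smul, mul_smul, inv_smul_eq_iff] at this

/-- `K` is faithful on `N x`. -/
theorem K_faith {x y : X} (hxy : x ≠ y) {k : G} (hk : k ∈ C.H y x)
    (h : ∀ n ∈ C.N x, n * k = k * n) : k = 1 := by
  by_contra h1
  obtain ⟨n, hn, h2⟩ := exists_move (C := C) hxy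
  exact h2 (cent_H hk h1 hn (h n hn)).2

/-- `K` is fixed point free on `F x`. -/
theorem K_fpf {x y : X} (hxy : x ≠ y) {k f : G} (hk : k ∈ C.H y x) (h1 : k ≠ 1) (hf : f ∈ C.F x)
    (h : f * k = k * f) : f = 1 :=
  eq_one_of_F_H hxy hf (cent_H hk h1 (C.F_le x hf) h)

theorem K_norm_F {x y : X} : C.H y x ≤ normalizer (C.F x : Set G) := fun _ hk => mem_norm_F hk.2

theorem K_sr {x y : X} (hxy : x ≠ y) : ∀ k ∈ C.H y x, k ≠ 1 → C.F x ⊓ centralizer {k} = ⊥ :=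
  fun _ hk h1 => eq_bot_iff.2 fun _ hf =>
    K_fpf hxy hk h1 hf.1 (mem_centralizer_singleton_iff.1 hf.2)

theorem cop {x y : X} (hxy : x ≠ y) : (Nat.card (C.H x y)).Coprime (Nat.card (C.F x)) := by
  rw [card_H hxy hxy.symm]
  have := H2.card_modEq_one_of_fpf _ (H2.conjAut_fpf_of_semiregular K_norm_F (K_sr (C := C) hxy))
  exact (Nat.coprime_of_mul_modEq_one 1 (by simpa using this)).symm

theorem F_nil (C : Cf G X) (x : X) : Group.IsNilpotent (C.F x) := by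
  by_cases hK : C.F x = ⊥
  · rw [hK]; infer_instance
  obtain ⟨y, hxy⟩ := C.exists_ne x
  obtain ⟨p, hp, hd⟩ := Nat.exists_prime_and_dvd
    (mt (Subgroup.card_eq_one).1 (H_ne_bot (C := C) hxy.symm))
  obtain ⟨k, hk, ho⟩ := H1.exists_mem_orderOf_eq_prime hp hd
  have hfpf := H2.conjAut_fpf_of_semiregular K_norm_F (K_sr (C := C) hxy)
  set a : C.H y x := ⟨k, hk⟩
  have ha : orderOf a = p := (orderOf_coe a).symm.trans ho
  have ha1 : a ≠ 1 := fun e => hp.one_lt.ne (by rw [← ha, e, orderOf_one])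
  refine Cfsg.Agent.S0033.result (H2.conjAut K_norm_F a) (fun k hk => hfpf a ha1 k hk) _ hp ?_
  have hd : orderOf (H2.conjAut K_norm_F a) ∣ p := ha ▸ orderOf_map_dvd _ a
  refine ((Nat.dvd_prime hp).1 hd).resolve_left fun e => hK ?_
  rw [orderOf_eq_one_iff] at e
  exact eq_bot_iff.2 fun f hf =>
    mem_bot.2 (congrArg Subtype.val (hfpf a ha1 ⟨f, hf⟩ (by rw [e]; rfl)))

theorem trans_of_normal (C : Cf G X) {L : Subgroup G} (hL : L.Normal) (h : L ≠ ⊥) (x y : X) :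
    ∃ g ∈ L, g • x = y := by
  by_cases e : x = y
  · exact ⟨1, one_mem _, by rw [one_smul, e]⟩
  obtain ⟨⟨l, hl⟩, h1⟩ := ne_bot_iff_exists_ne_one.1 h
  obtain ⟨a, ha⟩ : ∃ a : X, l • a ≠ a := by
    by_contra hc
    push Not at hc
    exact h1 (Subtype.ext (C.faith hc))
  obtain ⟨g, rfl, rfl⟩ := C.two ha.symm e
  exact ⟨g * l * g⁻¹, hL.conj_mem l hl g, by rw [smul_smul, inv_mul_cancel_right, mul_smul]⟩

/-- `G` is not affine. -/
theorem eq_bot_of_solvable (C : Cf G X) {L : Subgroup G} (hL : L.Normal)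
    (h : Group.IsSolvable L) : L = ⊥ := by
  by_contra hne
  obtain ⟨V, hV, -, hc, -⟩ := H3.exists_normal_elementary_le L hne h
  have hn := hV.normal
  have comm : ∀ a ∈ V, ∀ b ∈ V, a * b = b * a := fun a ha b hb =>
    congrArg Subtype.val (hc.is_comm.comm (⟨a, ha⟩ : V) ⟨b, hb⟩)
  obtain ⟨x, y, hxy⟩ := C.nt
  obtain ⟨v, hv, hvx⟩ := C.trans_of_normal hn hV.ne_bot x y
  obtain ⟨n, hnN, h1, hy⟩ := C.nsr hxy
  have h2 : v⁻¹ * (n * v * n⁻¹) = 1 := C.faith fun z => by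
    obtain ⟨u, hu, rfl⟩ := C.trans_of_normal hn hV.ne_bot x z
    rw [smul_smul, comm _ (mul_mem (inv_mem hv) (hn.conj_mem v hv n)) u hu, mul_smul, mul_smul,
      mul_smul, mul_smul, C.fix (inv_mem hnN), hvx, hy, ← hvx, inv_smul_smul]
  rw [inv_mul_eq_one, eq_mul_inv_iff_mul_eq] at h2
  exact hxy ((fix_of_comm hnN h1 h2).symm.trans hvx)

theorem eq_bot_of_odd (C : Cf G X) {L : Subgroup G} (hL : L.Normal) (h : Odd (Nat.card L)) :
    L = ⊥ := C.eq_bot_of_solvable hL (Cfsg.Agent.S0205.result h)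

theorem F_le_Y (C : Cf G X) (x : X) : C.F x ≤ C.Y := le_iSup C.F x

theorem Y_normal (C : Cf G X) : C.Y.Normal := by
  refine H1.normal_of_forall_conj_smul_le fun g => ?_
  rw [H1.conj_smul_eq_map, Y, Subgroup.map_iSup]
  exact iSup_le fun x => (C.F_map g x).trans_le (C.F_le_Y _)

theorem B_smul {g : G} {x y z : X} : g • z ∈ C.B (g • x) (g • y) ↔ z ∈ C.B x y := by
  refine ⟨fun h a ha => cj_smul_iff.1 (h _ (H_cj_iff.2 ha)), fun h a ha => ?_⟩
  have h1 : g * (g⁻¹ * a * g) * g⁻¹ = a := by group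
  rw [← h1] at ha ⊢
  exact cj_smul_iff.2 (h _ (H_cj_iff.1 ha))

theorem left_mem_B (C : Cf G X) (x y : X) : x ∈ C.B x y := fun _ h => C.fix h.1

theorem right_mem_B (C : Cf G X) (x y : X) : y ∈ C.B x y := fun _ h => h.2

theorem Ss.odd_F (h : C.Ss) (x : X) : Odd (Nat.card (C.F x)) := by
  obtain ⟨y, hxy⟩ := C.exists_ne x
  exact Nat.coprime_two_left.1 (Nat.Coprime.coprime_dvd_left (h.ev hxy).two_dvd (cop hxy))

/-- An element acting trivially on `N x / F x` centralises the perfect group `N x`. -/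
theorem Ss.cent_of_mod (h : C.Ss) {x : X} {a : G}
    (ha : ∀ n ∈ C.N x, a * n * a⁻¹ * n⁻¹ ∈ C.F x) : ∀ n ∈ C.N x, a * n = n * a := by
  have h1 : ⁅C.N x, C.N x⁆ ≤ centralizer {a} := commutator_le.2 fun b hb c hc => by
    have e : ∀ n ∈ C.N x, ∃ f ∈ C.F x, a * n * a⁻¹ = f * n := fun n hn =>
      ⟨_, ha n hn, by group⟩
    obtain ⟨f, hf, e1⟩ := e b hb
    obtain ⟨f', hf', e2⟩ := e c hc
    rw [mem_centralizer_singleton_iff, eq_comm, ← mul_inv_eq_iff_eq_mul, commutatorElement_def]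
    have e3 : a * (b * c * b⁻¹ * c⁻¹) * a⁻¹ =
        (a * b * a⁻¹) * (a * c * a⁻¹) * (a * b * a⁻¹)⁻¹ * (a * c * a⁻¹)⁻¹ := by group
    have c1 : Commute f b := h.cz x f hf b hb
    have c2 : Commute f c := h.cz x f hf c hc
    have c3 : Commute f' b := h.cz x f' hf' b hb
    have c4 : Commute f' c := h.cz x f' hf' c hc
    have c5 : Commute f f' := h.cz x f hf f' (C.F_le x hf')
    have e4 : f * b * (f' * c) * (f * b)⁻¹ = f' * (b * c * b⁻¹) := by
      rw [mul_inv_eq_iff_eq_mul]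
      calc f * b * (f' * c) = f * (b * (f' * c)) := by group
        _ = b * (f' * c) * f := (c1.mul_right (c5.mul_right c2)).eq
        _ = (b * f') * (c * f) := by group
        _ = f' * b * (c * (b⁻¹ * (b * f))) := by rw [← c3.eq]; group
        _ = f' * (b * c * b⁻¹) * (f * b) := by rw [← c1.eq]; group
    rw [e3, e1, e2, e4, ((c3.mul_right c4).mul_right c3.inv_right).eq, mul_inv_rev, c4.inv_inv.symm.eq]
    group
  intro n hn
  exact (mem_centralizer_singleton_iff.1 (h1 ((h.perf x).ge hn))).symm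

/-- `Z(N x / F x) = 1`. -/
theorem Ss.mem_F_of_comm (h : C.Ss) {x : X} {z : G} (hz : z ∈ C.N x)
    (ha : ∀ n ∈ C.N x, z * n * z⁻¹ * n⁻¹ ∈ C.F x) : z ∈ C.F x := by
  rcases C.F_max x (C.N x ⊓ centralizer (C.N x : Set G)) inf_le_left (fun g hg m hm =>
    ⟨cj_fix hg hm.1, fun n hn => by
      have := hm.2 _ (cj_fix (g := g⁻¹) (by rw [inv_smul_eq_iff, hg]) hn)
      calc n * (g * m * g⁻¹) = g * (g⁻¹ * n * g⁻¹⁻¹ * m) * g⁻¹ := by group
        _ = g * m * g⁻¹ * n := by rw [this]; group⟩) with e | e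
  · obtain ⟨a, ha, b, hb, hab⟩ := C.nab x
    exact absurd ((e.ge hb).2 a ha) hab
  · exact e ⟨hz, fun n hn => (h.cent_of_mod ha n hn).symm⟩

/-- `O(N x / F x) = 1`: an odd order normal subgroup of `N x` lies in `F x`. -/
theorem Ss.le_F_of_odd (h : C.Ss) {x : X} {M : Subgroup G} (hM : M ≤ C.N x)
    (hn : ∀ n ∈ C.N x, ∀ m ∈ M, n * m * n⁻¹ ∈ M) (ho : Odd (Nat.card M)) : M ≤ C.F x := by
  have h1 := H1.le_map_subtype_pPrimeCore (p := 2) hM (fun n hN => mem_normalizer_iff.2 fun m =>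
    ⟨hn n hN m, fun e => by simpa [mul_assoc] using hn _ (inv_mem hN) _ e⟩)
    (Nat.coprime_two_right.2 ho)
  rcases C.F_max x _ (map_subtype_le (Cfsg.pPrimeCore 2 (C.N x))) (fun g hg m hm =>
    (mem_normalizer_iff.1 (H1.normalizer_le_normalizer_map_subtype_pPrimeCore _
      (mem_norm_N hg)) m).1 hm) with e | e
  · obtain ⟨y, hxy⟩ := C.exists_ne x
    have h2 := H1.coprime_card_map_subtype_pPrimeCore (p := 2) (C.N x)
    rw [e] at h2
    exact absurd (Nat.coprime_two_right.1 h2) (Nat.not_odd_iff_even.2 (even_iff_two_dvd.2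
      ((h.ev hxy).two_dvd.trans (card_dvd_of_le inf_le_left))))
  · exact h1.trans e

/-- Fixed points of an involution of `G_x` on `N x / F x` lift. -/
theorem Ss.fix_mod (h : C.Ss) {x : X} {k n : G} (_hk : k • x = x) (h2 : k * k = 1)
    (hn : n ∈ C.N x) (hc : k * n * k⁻¹ * n⁻¹ ∈ C.F x) :
    ∃ f ∈ C.F x, k * (f * n) = f * n * k := by
  set c := k * n * k⁻¹ * n⁻¹ with hcd
  obtain ⟨m, hm⟩ := (h.odd_F x).of_dvd_nat ((orderOf_coe (⟨c, hc⟩ : C.F x)) ▸ orderOf_dvd_natCard _ hc)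
  have hki : k⁻¹ = k := inv_eq_of_mul_eq_one_right h2
  have e1 : k * c * k⁻¹ = c⁻¹ := by
    have : n * c = c * n := (h.cz x c hc n hn).symm
    rw [eq_inv_iff_mul_eq_one]
    calc k * c * k⁻¹ * c = (k * k) * n * k⁻¹ * n⁻¹ * (k⁻¹ * k) * n * k⁻¹ * n⁻¹ := by
          rw [hcd]; group
      _ = 1 := by rw [h2, inv_mul_cancel, hki]; simp [mul_assoc, h2]
  have e2 : c ^ (m + 1) * c ^ (m + 1) = c := by
    have : c ^ (2 * m + 1) = 1 := by
      rw [← hm]; exact congrArg Subtype.val (pow_orderOf_eq_one (⟨c, hc⟩ : C.F x))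
    rw [← pow_add, show m + 1 + (m + 1) = 2 * m + 1 + 1 by ring, pow_succ, this, one_mul]
  refine ⟨c ^ (m + 1), pow_mem hc _, ?_⟩
  rw [← mul_inv_eq_iff_eq_mul]
  calc k * (c ^ (m + 1) * n) * k⁻¹ = (k * c ^ (m + 1) * k⁻¹) * c * n := by rw [hcd]; group
    _ = c ^ (m + 1) * n := by
      rw [← conj_pow, e1, inv_pow]
      nth_rw 2 [← e2]
      group

end H97.ONT.Cf
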