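import Cfsg.Agent.Lib.ONT.Bas
import Cfsg.Agent.Lib.BSE14.Cor
import Cfsg.Agent.S1911
import Cfsg.Agent.S1119
import Cfsg.Agent.S1225

set_option autoImplicit false
set_option linter.style.haveILetI false

namespace H97.ONT.Cf

open Subgroup MulAction

theorem ev_mem_syl {Y : Type*} [Group Y] [Finite Y] (P : Sylow 2 Y)
    {x : Y} (hx : ∀ u ∈ P, x * u * x⁻¹ ∈ P) {k : ℕ} (hk : x ^ 2 ^ k = 1) : x ∈ P := by
  have hn : zpowers x ≤ normalizer ((P : Subgroup Y) : Set Y) :=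
    zpowers_le.2 (mem_normalizer_fintype (S := ((P : Subgroup Y) : Set Y)) hx)
  have hz : IsPGroup 2 (zpowers x) := by
    rintro ⟨_, i, rfl⟩
    refine ⟨k, Subtype.ext ?_⟩
    change (x ^ i) ^ 2 ^ k = 1
    rw [← zpow_natCast, ← zpow_mul, mul_comm, zpow_mul, zpow_natCast, hk, one_zpow]
  have h3 := P.is_maximal' (hz.to_sup_of_normal_right' P.isPGroup' hn) le_sup_right
  have h4 : x ∈ zpowers x ⊔ (P : Subgroup Y) := mem_sup_left (mem_zpowers x)
  rw [h3] at h4
  exact h4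

variable {G X : Type*} [Group G] [Finite G] [MulAction G X] [Finite X] {C : Cf G X}

theorem ev_norm (C : Cf G X) (x : X) : normalizer (C.N x : Set G) = stabilizer G x := by
  refine le_antisymm (fun g hg => ?_) fun _ hg => mem_norm_N hg
  obtain ⟨y, hy⟩ := C.exists_ne x
  obtain ⟨n, hn, h1, -⟩ := C.nsr hy
  exact fix_of_cj hn h1 ((mem_normalizer_iff.1 hg n).1 hn)

theorem ev_le (C : Cf G X) (x z : X) : C.N z ≤ normalClosure (C.N x : Set G) := fun n hn => by
  obtain ⟨g, rfl⟩ := C.tr z x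
  have := (inferInstance : (normalClosure (C.N (g • z) : Set G)).Normal).conj_mem _
    (le_normalClosure (C.cj g hn)) g⁻¹
  simpa [mul_assoc] using this

theorem ev_se (hN : ∀ x : X, Even (Nat.card (C.N x)))
    (hH : ∀ {x y : X}, x ≠ y → Odd (Nat.card (C.H x y))) (x0 x : X) :
    Cfsg.IsStronglyEmbedded (stabilizer (normalClosure (C.N x0 : Set G)) x) := by
  have e : normalClosure (C.N x0 : Set G) = normalClosure (C.N x : Set G) :=
    le_antisymm (normalClosure_le_normal (C.ev_le x x0)) (normalClosure_le_normal (C.ev_le x0 x))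
  rw [e]
  rcases Cfsg.Agent.S1911.result (C.N x) ⟨hN x, fun g hg => by
      rw [ev_norm] at hg
      rw [N_map, show C.N x ⊓ C.N (g • x) = ⊥ from
        (eq_bot_iff_forall _).2 fun n hn => C.ti (Ne.symm hg) hn.1 hn.2, card_bot]
      exact odd_one⟩
    (fun g hg => by
      rw [ev_norm] at hg ⊢
      rw [N_map]
      exact hH hg) with h | h
  · obtain ⟨y, hy⟩ := C.exists_ne x
    obtain ⟨g, hg⟩ := C.tr x y
    have : g ∈ stabilizer G x := by
      rw [← C.ev_norm, normalizer_eq_top]; exact mem_top g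
    exact absurd (hg.symm.trans this).symm hy
  · rw [ev_norm] at h
    exact h

theorem exists_ev (hN : ∀ x : X, Even (Nat.card (C.N x)))
    (hH : ∀ {x y : X}, x ≠ y → Odd (Nat.card (C.H x y))) : ∃ L Q, C.Ev L Q := by
  obtain ⟨x0, -, -⟩ := C.nt
  have se := ev_se hN @hH x0
  have hle := C.ev_le x0
  have hn : (normalClosure (C.N x0 : Set G)).Normal := inferInstance
  generalize normalClosure (C.N x0 : Set G) = L at se hle hn
  have inv : ∀ z, ∃ n : L, (n : G) ∈ C.N z ∧ orderOf n = 2 := fun z => by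
    obtain ⟨n, hn⟩ := exists_prime_orderOf_dvd_card' 2 (hN z).two_dvd
    exact ⟨⟨n, hle z n.2⟩, n.2, by rw [orderOf_mk, orderOf_coe, hn]⟩
  have out : ∀ z, ∃ t : L, orderOf t = 2 ∧ t • z ≠ z := fun z => by
    obtain ⟨y, hy⟩ := C.exists_ne z
    obtain ⟨t, ht, t2⟩ := inv y
    refine ⟨t, t2, fun e => ?_⟩
    have := (hH hy.symm).of_dvd_nat (orderOf_dvd_natCard _ (⟨ht, e⟩ : (t : G) ∈ C.H y z))
    rw [orderOf_coe, t2] at this
    exact absurd this (by decide)
  have L1 : L ≠ ⊥ := fun e => by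
    obtain ⟨n, -, n2⟩ := inv x0
    exact (H14.BSE.of_orderOf_two n2).1 (Subtype.ext (mem_bot.1 (e ▸ n.2)))
  have htr : ∀ b c : X, ∃ g : L, g • b = c := fun b c => by
    obtain ⟨g, hg, e⟩ := C.trans_of_normal hn L1 b c
    exact ⟨⟨g, hg⟩, e⟩
  haveI : FaithfulSMul L X := ⟨fun {a b} h => by
    refine inv_mul_eq_one.1 (Subtype.ext (C.faith fun x => ?_))
    change (a⁻¹ * b) • x = x
    rw [mul_smul, ← h, inv_smul_smul]⟩
  have odd : ∀ g : L, ∀ {u v : X}, u ≠ v → g • u = u → g • v = v → Odd (orderOf g) :=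
    fun g u v huv hu hv => by
      obtain ⟨a, rfl⟩ := htr u v
      refine ((se u).2.2 a fun e => huv e.symm).of_dvd_nat (orderOf_dvd_natCard _ ⟨hu, a⁻¹ * g * a, ?_, ?_⟩)
      · change (a⁻¹ * g * a) • u = u
        rw [mul_smul, mul_smul, hv, inv_smul_smul]
      · simp [mul_assoc]
  have rk : H13.Suz.Rank2 L := by
    by_contra h
    obtain ⟨n, nN, n2⟩ := inv x0
    have h1 := H14.BSE.cent_sup_of_not_rank2 h n2
    have h2 : (Cfsg.oddCore L).map L.subtype = ⊥ := C.eq_bot_of_odd inferInstance (by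
      rw [card_map_of_injective L.subtype_injective]; exact H1.odd_card_oddCore)
    rw [(Subgroup.map_eq_bot_iff_of_injective _ L.subtype_injective).1 h2, sup_bot_eq] at h1
    obtain ⟨t, -, ht⟩ := out x0
    have h3 : t * n = n * t := mem_centralizer_singleton_iff.1 (h1 ▸ mem_top t)
    exact ht (fix_of_comm (g := (t : G)) nN (fun e => (H14.BSE.of_orderOf_two n2).1 (Subtype.ext e))
      (congrArg Subtype.val h3))
  have u1 : H42.BSE.U1 L X := by
    constructor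
    · intro z z1 z2 a b ha hb
      by_contra hab
      have := odd z hab ha hb
      rw [H14.BSE.orderOf_two z1 z2] at this
      exact absurd this (by decide)
    · intro z z1 z2
      obtain ⟨n, nN, n2⟩ := inv x0
      obtain ⟨t, t2, ht⟩ := out x0
      have hx : n ∈ stabilizer L x0 := C.fix nN
      obtain ⟨g, rfl⟩ := isConj_iff.1 ((Cfsg.Agent.S1225.result _ (se x0) t t2 ht n n n2 hx n2 hx).2
        n z n2 (H14.BSE.orderOf_two z1 z2))
      exact ⟨g • x0, by rw [mul_smul, inv_smul_smul, mul_smul, mem_stabilizer_iff.1 hx]⟩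
  have key : ∀ z : X, ∃ Q : Subgroup G, Q ≠ ⊥ ∧
      (∀ c, c ∈ Q ↔ c ∈ L ∧ c • z = z ∧ ∃ k, c ^ 2 ^ k = 1) ∧
      ∀ u v, u ≠ z → v ≠ z → ∃ c ∈ Q, c • u = v := fun z => by
    obtain ⟨t, t2, ht⟩ := out z
    obtain ⟨Q, hS⟩ := H42.BSE.thmB u1 htr (H14.BSE.four_of_rank2 rk)
      (H14.BSE.of_orderOf_two t2).2 ht
    obtain ⟨S, rfl⟩ := H14.BSE.exists_sylow_eq hS rk
    refine ⟨(S : Subgroup L).map L.subtype, fun e => ?_, fun c => ⟨?_, ?_⟩, fun u v hu hv => ?_⟩
    · have := hS.even_card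
      rw [(Subgroup.map_eq_bot_iff_of_injective _ L.subtype_injective).1 e, card_bot] at this
      exact absurd this (by decide)
    · rintro ⟨c, hc, rfl⟩
      obtain ⟨k, hk⟩ := S.isPGroup' ⟨c, hc⟩
      exact ⟨c.2, hS.le hc, k, congrArg (fun x : S => ((x : L) : G)) hk⟩
    · rintro ⟨h1, h2, k, hk⟩
      exact ⟨⟨c, h1⟩, ev_mem_syl S (hS.conj_mem ⟨c, h1⟩ h2) (k := k) (Subtype.ext hk), rfl⟩
    · obtain ⟨c, hc, -⟩ := (Cfsg.Agent.S1119.result hS).1 u v hu hv
      exact ⟨_, ⟨c, c.2, rfl⟩, hc⟩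
  choose Q Q1 hQ Qt using key
  refine ⟨L, Q, hn, hle, fun z c hc => ((hQ z c).1 hc).1, fun z c => ?_, Q1,
    fun hc => ((hQ _ _).1 hc).2.1, fun g z c hc => ?_, fun hu hv => Qt _ _ _ hu hv,
    fun g hg u v huv hu hv => ?_, fun g hg g2 z hz => ?_, ?_⟩
  · obtain ⟨k, hk⟩ := ((hQ z c).1 c.2).2.2
    exact ⟨k, Subtype.ext hk⟩
  · obtain ⟨h1, h2, k, hk⟩ := (hQ z c).1 hc
    exact (hQ _ _).2 ⟨hn.conj_mem c h1 g, cj_smul_iff.2 h2, k, by
      rw [conj_pow, hk, mul_one, mul_inv_cancel]⟩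
  · rw [← orderOf_mk g hg]
    exact odd ⟨g, hg⟩ huv hu hv
  · by_cases g1 : g = 1
    · rw [g1]; exact one_mem _
    obtain ⟨n, nN, n2⟩ := inv z
    obtain ⟨t, t2, ht⟩ := out z
    obtain ⟨d, hd, e⟩ := (Cfsg.Agent.S1225.result _ (se z) t t2 ht n ⟨g, hg⟩ n2 (C.fix nN)
      (H14.BSE.orderOf_two (fun e => g1 (congrArg Subtype.val e)) (Subtype.ext g2)) hz).1
    have := cj_fix (g := (d : G)) hd.1 nN
    rwa [show (d : G) * n * (d : G)⁻¹ = g from congrArg Subtype.val e] at this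
  · obtain ⟨a, b, h1, h2, h3, h4, h5, h6⟩ := rk
    exact ⟨a, a.2, b, b.2, fun e => h1 (Subtype.ext e), fun e => h2 (Subtype.ext e),
      fun e => h3 (Subtype.ext e), congrArg Subtype.val h4, congrArg Subtype.val h5,
      congrArg Subtype.val h6⟩

end H97.ONT.Cf
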