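import Cfsg.Agent.Lib.ONT.Bas
import Cfsg.Agent.Lib.ONT.Sw
import Cfsg.Agent.Lib.LocStruct.SylowIn
import Cfsg.Agent.S1131

set_option autoImplicit false
set_option linter.unusedSectionVars false

namespace H97.ONT.Cf

open Subgroup

variable {G X : Type*} [Group G] [Finite G] [MulAction G X] [Finite X] {C : Cf G X}

namespace Ev2

theorem odd_card {Γ : Type*} [Group Γ] [Finite Γ] {A : Subgroup Γ} (h : ∀ a ∈ A, Odd (orderOf a)) :
    Odd (Nat.card A) := by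
  by_contra e
  obtain ⟨a, ha, o⟩ := H1.exists_mem_orderOf_eq_prime Nat.prime_two
    (Nat.not_odd_iff_even.1 e).two_dvd
  exact absurd (o ▸ h a ha) (by decide)

variable {L : Subgroup G} {Q : X → Subgroup G} (h : C.Ev L Q)
include h

theorem reg {z u : X} (hu : u ≠ z) {c : G} (hc : c ∈ Q z) (e : c • u = u) : c = 1 := by
  obtain ⟨k, hk⟩ := h.pQ z ⟨c, hc⟩
  exact orderOf_eq_one_iff.1 (Nat.eq_one_of_dvd_coprimes (Nat.Coprime.pow_left k
    (Nat.coprime_two_left.2 (h.odd c (h.Q_le z hc) hu e (h.Q_fix hc))))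
    (orderOf_dvd_of_pow_eq_one (congrArg Subtype.val hk)) dvd_rfl)

theorem inv_pow' {z : X} {c : G} (hc : c ∈ Q z) (c1 : c ≠ 1) :
    ∃ n : ℕ, c ^ n ≠ 1 ∧ c ^ n * c ^ n = 1 := by
  obtain ⟨k, hk⟩ := h.pQ z ⟨c, hc⟩
  replace hk : c ^ 2 ^ k = 1 := congrArg Subtype.val hk
  induction k with
  | zero => exact absurd (by simpa using hk) c1
  | succ k ih =>
    by_cases e : c ^ 2 ^ k = 1
    · exact ih e
    · exact ⟨2 ^ k, e, by rw [← pow_add, ← two_mul, ← pow_succ', hk]⟩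

theorem cjQ {z : X} {g c : G} (hg : g • z = z) (hc : c ∈ Q z) : g * c * g⁻¹ ∈ Q z := by
  simpa only [hg] using h.Q_cj g hc

theorem fk {x y : X} (hxy : x ≠ y) {k c : G} (hk : k ∈ C.H y x) (k1 : k ≠ 1) (hc : c ∈ Q x)
    (e : c * k = k * c) : c = 1 := by
  by_contra c1
  obtain ⟨n, n1, n2⟩ := inv_pow' h hc c1
  have hn := pow_mem hc n
  exact n1 (reg h hxy.symm hn (cent_H hk k1 (h.inv _ (h.Q_le x hn) n2 (h.Q_fix hn))
    (Commute.pow_left e n)).2)

theorem uniq {z u v : X} (hu : u ≠ z) {c e : G} (hc : c ∈ Q z) (h1 : c • u = v) (ez : e • z = z)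
    (eu : e • u = u) (ev : e • v = v) : c * e = e * c := by
  have := reg h hu (mul_mem (inv_mem hc) (cjQ h ez hc)) (by
    rw [mul_smul, mul_smul, mul_smul, inv_smul_eq_iff.2 eu.symm, h1, ev, inv_smul_eq_iff, h1])
  rw [inv_mul_eq_one, eq_mul_inv_iff_mul_eq] at this
  exact this

theorem fh {x y : X} (hxy : x ≠ y) {a c : G} (ha : a ∈ C.H x y) (a1 : a ≠ 1) (hc : c ∈ Q x)
    (e : c * a = a * c) : c = 1 := by
  by_contra c1
  have z1 : c • y ≠ y := fun e => c1 (reg h hxy.symm hc e)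
  obtain ⟨d, hd, dx⟩ := h.Q_tr hxy z1
  have := fk h hxy.symm ha a1 hd (uniq h hxy hd dx ha.2 (C.fix ha.1)
    (by rw [← mul_smul, ← e, mul_smul, show a • y = y from ha.2]))
  rw [this, one_smul, ← h.Q_fix hc, smul_left_cancel_iff] at dx
  exact hxy dx

theorem exists_h {x y : X} (hxy : x ≠ y) : ∃ a ∈ C.H x y, (orderOf a).Prime ∧ Odd (orderOf a) ∧
    ∀ g : G, g • x = x → g • y = y → g * a * g⁻¹ ∈ zpowers a := by
  have od : ∀ a ∈ C.H x y, Odd (orderOf a) := fun a ha =>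
    h.odd a (h.N_le x ha.1) hxy (C.fix ha.1) ha.2
  let D := MulAction.stabilizer G x ⊓ MulAction.stabilizer G y
  have hD : C.H x y ≤ D := fun a ha => ⟨C.fix ha.1, ha.2⟩
  have : ((C.H x y).subgroupOf D).Normal := ⟨fun a ha g => H_cj_fix g.2.1 g.2.2 ha⟩
  obtain ⟨P, hP, l, hc, p, hp, hd, pe, pP⟩ := H3.exists_normal_elementary_le
    ((C.H x y).subgroupOf D) (fun e => H_ne_bot hxy (by
      rwa [subgroupOf_eq_bot, disjoint_iff, inf_eq_left.2 hD] at e))
    (Cfsg.Agent.S0205.result (by rw [H1.card_subgroupOf_of_le hD]; exact odd_card od))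
  have l' : P.map D.subtype ≤ C.H x y := by
    rintro _ ⟨a, ha, rfl⟩
    exact l ha
  have cy : IsCyclic (P.map D.subtype) := by
    by_contra n
    obtain ⟨k, hk⟩ := IsPGroup.iff_card.1 (h.pQ x)
    obtain ⟨a, ha, a1, e⟩ := H2.exists_inf_centralizer_ne_bot (K := Q x) inferInstance n
      (fun a ha => Sw.norm_of fun c hc => cjQ h (C.fix (l' ha).1) hc)
      (hk ▸ Nat.Coprime.pow_right k (Nat.coprime_two_right.2 (odd_card fun a ha => od a (l' ha))))
      (h.Q_ne x)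
    exact e (eq_bot_iff.2 fun c hc =>
      fh h hxy (l' ha) a1 hc.1 (mem_centralizer_singleton_iff.1 hc.2))
  obtain ⟨⟨_, a, ha, rfl⟩, hg⟩ := cy.exists_generator
  have a1 : (a : G) ≠ 1 := fun e => hP.ne_bot (eq_bot_iff.2 fun b hb => by
    obtain ⟨i, hi⟩ := hg ⟨_, b, hb, rfl⟩
    have : (a : G) ^ i = b := congrArg Subtype.val hi
    rw [e, one_zpow] at this
    exact Subtype.ext this.symm)
  have : Fact p.Prime := ⟨hp⟩
  have o : orderOf (a : G) = p := orderOf_eq_prime (congrArg Subtype.val (pe a ha)) a1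
  refine ⟨a, l ha, o ▸ hp, od _ (l ha), fun g gx gy => ?_⟩
  obtain ⟨i, hi⟩ := hg ⟨_, _, hP.normal.conj_mem a ha ⟨g, gx, gy⟩, rfl⟩
  exact ⟨i, congrArg Subtype.val hi⟩

theorem setup {x y : X} (hxy : x ≠ y) (j : L) (j2 : j * j = 1) (jx : j • x = y) :
    Cfsg.IsRankOneSetup L X x j ((Q x).subgroupOf L) := by
  have L1 : L ≠ ⊥ := fun e => h.Q_ne x (eq_bot_iff.2 (e ▸ h.Q_le x))
  refine ⟨MulAction.is_two_pretransitive_iff.2 fun {a b c d} hab hcd => ?_, j2,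
    fun e => hxy (by rw [← jx, e, one_smul]), fun e => hxy (e.symm.trans jx),
    fun c hc => h.Q_fix hc, fun g hg c hc => cjQ h hg hc,
    eq_bot_iff.2 fun c hc => Subtype.ext (reg h hxy.symm hc.1 (jx ▸ hc.2)),
    le_antisymm (sup_le (fun c hc => h.Q_fix hc) inf_le_left) fun g hg => ?_, ?_,
    odd_card fun g hg => ?_⟩
  · obtain ⟨g, hg, rfl⟩ := C.trans_of_normal h.normal L1 a c
    obtain ⟨q, hq, e⟩ := h.Q_tr (z := g • a) (u := g • b)
      (fun e => hab (MulAction.injective g e).symm) hcd.symm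
    exact ⟨⟨q * g, mul_mem (h.Q_le _ hq) hg⟩, (mul_smul q g a).trans (h.Q_fix hq),
      (mul_smul q g b).trans e⟩
  · have gx : (g : G) • x = x := hg
    obtain ⟨q, hq, e⟩ := h.Q_tr (z := x) (u := y) (v := (g : G) • y) hxy.symm
      fun e => hxy (MulAction.injective (g : G) (gx.trans e.symm))
    rw [← mul_inv_cancel_left (⟨q, h.Q_le _ hq⟩ : L) g]
    refine mul_mem_sup hq ⟨?_, ?_⟩
    · show (q⁻¹ * g) • x = x
      rw [mul_smul, gx, h.Q_fix (inv_mem hq)]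
    · rw [jx]
      show (q⁻¹ * g) • y = y
      rw [mul_smul, ← e, inv_smul_smul]
  · rw [H1.card_subgroupOf_of_le (h.Q_le x)]
    exact even_iff_two_dvd.2 (H69.dvd_card_of_ne_bot (h.pQ x) (h.Q_ne x))
  · rw [← orderOf_coe]
    exact h.odd g g.2 hxy hg.1 (jx ▸ hg.2)

theorem comm {x y : X} (hxy : x ≠ y) {a : G} (ha : a ∈ C.H x y) (hp : (orderOf a).Prime)
    (hn : ∀ g : G, g • x = x → g • y = y → g * a * g⁻¹ ∈ zpowers a) {j j' : G} (hj : j ∈ L)
    (j2 : j * j = 1) (jx : j • x = y) (jy : j • y = x) (hj' : j' ∈ L) (j2' : j' * j' = 1)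
    (jx' : j' • x = y) (jy' : j' • y = x) : j * a * j⁻¹ = j' * a * j'⁻¹ := by
  have : FaithfulSMul L X := ⟨fun {s t} e => Subtype.ext (inv_mul_eq_one.1 (C.faith fun z => by
    rw [mul_smul, inv_smul_eq_iff]; exact (e z).symm))⟩
  obtain ⟨K, hK, cy, nK⟩ := Cfsg.Agent.S1131.result (setup h hxy ⟨j, hj⟩ (Subtype.ext j2) jx) (by
    obtain ⟨a, ha, b, hb, h1, h2, h3, h4, h5, h6⟩ := h.rk
    exact ⟨⟨a, ha⟩, ⟨b, hb⟩, fun e => h1 (congrArg Subtype.val e),
      fun e => h2 (congrArg Subtype.val e), fun e => h3 (congrArg Subtype.val e), Subtype.ext h4,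
      Subtype.ext h5, Subtype.ext h6⟩)
  have ji := inv_eq_of_mul_eq_one_right j2
  have gx : (j * j') • x = x := by rw [mul_smul, jx', jy]
  have gy : (j * j') • y = y := by rw [mul_smul, jy', jx]
  have hg : (⟨j * j', mul_mem hj hj'⟩ : L) ∈ K := by
    rw [← SetLike.mem_coe, hK]
    refine ⟨⟨gx, ?_⟩, Subtype.ext ?_⟩
    · show (j * j') • j • x = j • x
      rw [jx, gy]
    · show j * (j * j') * j⁻¹ = (j * j')⁻¹
      rw [← mul_assoc, j2, one_mul, mul_inv_rev, inv_eq_of_mul_eq_one_right j2']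
  have aL := h.N_le x ha.1
  have c : a * (j * j') = j * j' * a := by
    by_contra n
    obtain ⟨i, hi⟩ := mul_mem (mem_zpowers a) (inv_mem (hn _ gx gy))
    replace hi : a ^ i = _ := hi
    have m : (⟨a, aL⟩ : L) ^ i ∈ K := by
      convert mul_mem (nK ⟨a, aL⟩ ⟨C.fix ha.1, show a • j • x = j • x by rw [jx]; exact ha.2⟩ _ hg)
        (inv_mem hg) using 1
      refine Subtype.ext ?_
      show a ^ i = a * (j * j') * a⁻¹ * (j * j')⁻¹
      rw [hi]; group
    obtain ⟨l, hl⟩ := Sw.root hp (pow_orderOf_eq_one a) (a := i) fun e => n (by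
      rw [e, eq_comm, mul_inv_eq_one, eq_mul_inv_iff_mul_eq] at hi
      exact hi)
    have m2 : (⟨a, aL⟩ : L) ∈ K := by
      convert zpow_mem m l using 1
      exact Subtype.ext hl.symm
    exact n (congrArg (fun t : K => ((t : L) : G)) (cy.isMulCommutative.is_comm.comm ⟨_, m2⟩ ⟨_, hg⟩))
  calc j * a * j⁻¹ = j * (a * (j * j')) * j'⁻¹ := by rw [ji]; group
    _ = _ := by rw [c, ← mul_assoc, ← mul_assoc, j2, one_mul]

end Ev2

open Ev2 in
theorem Ev.false {L : Subgroup G} {Q : X → Subgroup G} (h : C.Ev L Q) : False := by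
  obtain ⟨x, y, hxy⟩ := C.nt
  obtain ⟨a, ha, hp, ho, hn⟩ := exists_h h hxy
  obtain ⟨w, wx, wy⟩ := C.swap hxy
  have hk : w * a * w⁻¹ ∈ C.H y x := by simpa only [wx, wy] using (H_cj_iff (g := w)).2 ha
  have a1 : a ≠ 1 := fun e => by rw [e, orderOf_one] at hp; exact Nat.not_prime_one hp
  have k1 : w * a * w⁻¹ ≠ 1 := mt conj_eq_one_iff.1 a1
  have fx : ∀ e ∈ zpowers a ⊔ zpowers (w * a * w⁻¹), e • x = x ∧ e • y = y := fun e he =>
    (sup_le (zpowers_le.2 ⟨C.fix ha.1, ha.2⟩) (zpowers_le.2 ⟨hk.2, C.fix hk.1⟩) :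
      _ ≤ MulAction.stabilizer G x ⊓ MulAction.stabilizer G y) he
  refine swap_false hp rfl ((MulAut.conj w).orderOf_eq a) (H_comm hxy ha hk)
    (fun e => a1 (C.ti hxy ha.1 (zpowers_le.2 hk.1 e))) (h.Q_ne x) (fun e => ?_)
    (fun c hc => cjQ h (C.fix ha.1) hc) (fun c hc => cjQ h hk.2 hc)
    (fun c hc => fh h hxy ha a1 hc) (fun c hc => fk h hxy hk k1 hc) (fun e he hc => C.faith fun z => ?_)
    {j | j ∈ L ∧ j * j = 1 ∧ j • x = y ∧ j • y = x} (fun j hj => ?_) (fun j hj => ?_)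
    (fun j hj j' hj' => comm h hxy ha hp hn hj.1 hj.2.1 hj.2.2.1 hj.2.2.2 hj'.1 hj'.2.1 hj'.2.2.1
      hj'.2.2.2) fun e he c hc c1 ce => ?_
  · obtain ⟨k, hk⟩ := IsPGroup.iff_card.1 (h.pQ x)
    rw [hk] at e
    rw [(Nat.prime_dvd_prime_iff_eq hp Nat.prime_two).1 (hp.dvd_of_dvd_pow e)] at ho
    exact absurd ho (by decide)
  · by_cases zx : z = x
    · exact zx ▸ (fx e he).1
    obtain ⟨c, hc', rfl⟩ := h.Q_tr hxy.symm zx
    rw [← mul_smul, ← hc c hc', mul_smul, (fx e he).2]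
  · obtain ⟨i, hi⟩ := hn (w⁻¹ * j) (by rw [mul_smul, hj.2.2.1, inv_smul_eq_iff, wx])
      (by rw [mul_smul, hj.2.2.2, inv_smul_eq_iff, wy])
    refine ⟨i, ?_⟩
    show (w * a * w⁻¹) ^ i = _
    rw [conj_zpow, show a ^ i = _ from hi]; group
  · convert hn (j * w) (by rw [mul_smul, wx, hj.2.2.2]) (by rw [mul_smul, wy, hj.2.2.1]) using 1
    rw [MulAut.conj_apply]; group
  · obtain ⟨n, n1, n2⟩ := inv_pow' h hc c1
    have hu := pow_mem hc n
    have ue : c ^ n * e = e * c ^ n := Commute.pow_left ce n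
    generalize c ^ n = u at n1 n2 hu ue
    have y1 : u • y ≠ y := fun e => n1 (reg h hxy.symm hu e)
    obtain ⟨d, hd, dx⟩ := h.Q_tr y1 hxy
    have de := uniq h y1 hd dx (fx e he).2 (by rw [← mul_smul, ← ue, mul_smul, (fx e he).2])
      (fx e he).1
    refine ⟨d * u * d⁻¹, ⟨h.normal.conj_mem _ (h.Q_le x hu) d, ?_, ?_, ?_⟩, ?_⟩
    · calc _ = d * (u * u) * d⁻¹ := by group
        _ = 1 := by rw [n2]; group
    · rw [← dx, mul_smul, mul_smul, inv_smul_smul, ← mul_smul u, n2, one_smul, h.Q_fix hd]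
    · rw [mul_smul, mul_smul, h.Q_fix (inv_mem hd), dx]
    · exact ((show Commute d e from de).mul_left ue).mul_left (show Commute d e from de).inv_left

end H97.ONT.Cf
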