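import Cfsg.Agent.Lib.ONT.Bas

/-! The Frobenius case: blocks and the grid of `F x`-orbits. -/

set_option autoImplicit false
set_option linter.unusedSectionVars false

namespace H97.ONT.Cf

open Subgroup

variable {G X : Type*} [Group G] [Finite G] [MulAction G X] [Finite X] {C : Cf G X}

variable {p : ℕ}

theorem Fr.F_ne (h : C.Fr p) (x : X) : C.F x ≠ ⊥ := fun e => by
  obtain ⟨y, hxy⟩ := C.exists_ne x
  obtain ⟨n, hn, hm⟩ := exists_move (C := C) hxy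
  obtain ⟨f, hf, a, ha, rfl⟩ := h.dec hxy n hn
  rw [e, mem_bot] at hf
  exact hm (by rw [hf, one_mul, ha.2])

theorem Fr.not_dvd (h : C.Fr p) (x : X) : ¬ p ∣ Nat.card (C.F x) := by
  obtain ⟨y, hxy⟩ := C.exists_ne x
  exact h.prime.coprime_iff_not_dvd.1 (h.card hxy ▸ cop hxy)

theorem Fr.zpowers_eq (h : C.Fr p) {x y : X} (hxy : x ≠ y) {a : G} (ha : a ∈ C.H x y)
    (h1 : a ≠ 1) : orderOf a = p ∧ zpowers a = C.H x y := by
  have o : orderOf a = p := ((Nat.dvd_prime h.prime).1 (h.card hxy ▸ orderOf_dvd_natCard _ ha)).resolve_left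
    (mt orderOf_eq_one_iff.1 h1)
  exact ⟨o, eq_of_le_of_card_ge (zpowers_le.2 ha) (by rw [Nat.card_zpowers, o, h.card hxy])⟩

theorem Fr.mem_B_iff (h : C.Fr p) {x y z : X} (hxy : x ≠ y) {a : G} (ha : a ∈ C.H x y)
    (h1 : a ≠ 1) : z ∈ C.B x y ↔ a • z = z :=
  ⟨fun e => e a ha, fun e _ hb => (zpowers_le.2 e : zpowers a ≤ MulAction.stabilizer G z)
    ((h.zpowers_eq hxy ha h1).2.ge hb)⟩

namespace Fr1

theorem meet (h : C.Fr p) {x y z : X} (hxy : x ≠ y) (hz : z ≠ x) : ∃ f ∈ C.F x, f • z ∈ C.B x y := by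
  have := Fact.mk h.prime
  let O : SubMulAction (C.H x y) X := ⟨MulAction.orbit (C.F x) z, by
    rintro a _ ⟨f, rfl⟩
    obtain ⟨f', hf', b, hb, e⟩ := h.dec hz.symm _ (mul_mem a.2.1 (C.F_le x f.2))
    exact ⟨⟨f', hf'⟩, show f' • z = (a : G) • (f : G) • z by rw [← mul_smul, e, mul_smul, hb.2]⟩⟩
  obtain ⟨⟨_, f, rfl⟩, hp⟩ := (IsPGroup.of_card (n := 1) (by rw [h.card hxy, pow_one]) :
      IsPGroup p (C.H x y)).nonempty_fixed_point_of_prime_not_dvd_card O (by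
    have e : MulAction.stabilizer (C.F x) z = ⊥ :=
      eq_bot_iff.2 fun f hf => Subtype.ext (C.F_sr hz.symm f.2 hf)
    have := MulAction.index_stabilizer (C.F x) z
    rw [e, index_bot, ← Nat.card_coe_set_eq] at this
    exact this ▸ h.not_dvd x)
  exact ⟨f, f.2, fun a ha => congrArg Subtype.val (hp ⟨a, ha⟩)⟩

theorem uniqK {x y u : X} (hxy : x ≠ y) {f : G} (hf : f ∈ C.F x)
    (hu : u ∈ C.B y x) (hux : u ≠ x) (hfu : f • u ∈ C.B y x) : f = 1 := by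
  obtain ⟨k, hk, k1, kx⟩ := C.nsr hxy.symm
  have e := C.F_sr hux.symm (mul_mem (inv_mem hf) (F_cj_fix kx hf)) (by
    rw [mul_smul, mul_smul, mul_smul, hu _ (inv_mem (⟨hk, kx⟩ : k ∈ C.H y x)), hfu k ⟨hk, kx⟩, inv_smul_smul])
  exact K_fpf hxy ⟨hk, kx⟩ k1 hf (by rwa [inv_mul_eq_one, eq_mul_inv_iff_mul_eq] at e)

theorem card_B {x y : X} (hxy : x ≠ y) : (C.B y x \ {x}).ncard = (C.B x y \ {x}).ncard := by
  obtain ⟨w, h1, h2⟩ := C.swap hxy
  rw [Set.ncard_sdiff_singleton_of_mem (C.right_mem_B y x), Set.ncard_sdiff_singleton_of_mem (C.left_mem_B x y),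
    ← Set.ncard_image_of_injective (C.B x y) (MulAction.injective w)]
  congr 2
  ext z
  rw [Set.image_smul, Set.mem_smul_set_iff_inv_smul_mem, ← B_smul (g := w) (z := w⁻¹ • z), smul_inv_smul, h1, h2]

theorem onto (h : C.Fr p) {x y : X} (hxy : x ≠ y) : ∃ c : X → G, (∀ u, c u ∈ C.F x) ∧
    ∀ v ∈ C.B x y, v ≠ x → ∃ u ∈ C.B y x, u ≠ x ∧ v = c u • u := by
  have : ∀ u : X, ∃ f ∈ C.F x, u ≠ x → f • u ∈ C.B x y := fun u => by
    by_cases e : u = x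
    · exact ⟨1, one_mem _, fun a => absurd e a⟩
    · obtain ⟨f, hf, a⟩ := meet h hxy e
      exact ⟨f, hf, fun _ => a⟩
  choose c hc hB using this
  refine ⟨c, hc, fun v hv vx => ?_⟩
  obtain ⟨u, hu, e⟩ := Set.surj_on_of_inj_on_of_ncard_le (s := C.B y x \ {x}) (t := C.B x y \ {x})
    (fun u _ => c u • u) (fun u hu => ⟨hB u hu.2, fun e => hu.2 (by
      rw [Set.mem_singleton_iff, ← smul_left_cancel_iff (c u), C.fix (C.F_le x (hc u))]; exact e)⟩)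
    (fun u u' hu hu' e => by
      have e' : ((c u')⁻¹ * c u) • u = u' := by rw [mul_smul, e, inv_smul_smul]
      rwa [uniqK hxy (mul_mem (inv_mem (hc u')) (hc u)) hu.1 hu.2 (by rw [e']; exact hu'.1), one_smul] at e')
    (card_B hxy).ge (Set.toFinite _) v ⟨hv, vx⟩
  exact ⟨u, hu.1, hu.2, e⟩

theorem inverts {F : Subgroup G} {a : G} (h2 : a * a = 1) (hn : ∀ f ∈ F, a * f * a⁻¹ ∈ F)
    (hf : ∀ f ∈ F, f * a = a * f → f = 1) {f : G} (hm : f ∈ F) : a * f * a⁻¹ = f⁻¹ := by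
  obtain ⟨g, e⟩ := Finite.surjective_of_injective
    (f := fun g : F => (⟨(g : G)⁻¹ * (a * g * a⁻¹), mul_mem (inv_mem g.2) (hn _ g.2)⟩ : F))
    (fun g g' e => by
      have e' : (g : G)⁻¹ * (a * g * a⁻¹) = (g' : G)⁻¹ * (a * g' * a⁻¹) := congrArg Subtype.val e
      refine Subtype.ext (mul_inv_eq_one.1 (hf _ (mul_mem g.2 (inv_mem g'.2)) ?_))
      calc (g : G) * (g' : G)⁻¹ * a = g * ((g' : G)⁻¹ * (a * g' * a⁻¹)) * (a * (g' : G)⁻¹) := by group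
        _ = _ := by rw [← e']; group) ⟨f, hm⟩
  obtain rfl : (g : G)⁻¹ * (a * g * a⁻¹) = f := congrArg Subtype.val e
  calc _ = a * (g : G)⁻¹ * a⁻¹ * (a * a) * g * (a * a)⁻¹ := by group
    _ = _ := by rw [h2]; group

end Fr1

/-- ... in exactly one point. -/
theorem Fr.grid_uniq (h : C.Fr p) {x y u : X} (hxy : x ≠ y) {f : G} (hf : f ∈ C.F x)
    (hu : u ∈ C.B x y) (hux : u ≠ x) (hfu : f • u ∈ C.B x y) : f = 1 := by
  obtain ⟨c, hc, hB⟩ := Fr1.onto h hxy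
  obtain ⟨v, hv, vx, e⟩ := hB u hu hux
  obtain ⟨v', hv', -, e'⟩ := hB _ hfu fun a => hux (by
    rw [← smul_left_cancel_iff f, a, C.fix (C.F_le x hf)])
  have e2 : ((c v')⁻¹ * f * c v) • v = v' := by rw [mul_smul, mul_smul, ← e, e', inv_smul_smul]
  rw [Fr1.uniqK hxy (mul_mem (mul_mem (inv_mem (hc v')) hf) (hc v)) hv vx (by rw [e2]; exact hv'), one_smul] at e2
  exact C.F_sr hux.symm hf (by rw [e', ← e2, ← e])

/-- `H x y` is fixed point free on `F x`. -/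
theorem Fr.fpf (h : C.Fr p) {x y : X} (hxy : x ≠ y) {a f : G} (ha : a ∈ C.H x y) (h1 : a ≠ 1)
    (hf : f ∈ C.F x) (hc : f * a = a * f) : f = 1 :=
  h.grid_uniq hxy hf (C.right_mem_B x y) hxy.symm
    ((h.mem_B_iff hxy ha h1).2 (by rw [← mul_smul, ← hc, mul_smul, ha.2]))

theorem Fr1.B_le (h : C.Fr p) {x y : X} (hxy : x ≠ y) : C.B x y ⊆ C.B y x := fun v hv k hk => by
  by_cases vx : v = x
  · rw [vx, hk.2]
  obtain ⟨c, hc, hB⟩ := Fr1.onto h hxy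
  obtain ⟨u, hu, -, e⟩ := hB v hv vx
  have e2 : k • v = (k * c u * k⁻¹ * (c u)⁻¹) • v := by
    rw [e, mul_smul, inv_smul_smul, mul_smul, hu _ (inv_mem hk), mul_smul]
  rw [e2, h.grid_uniq hxy (mul_mem (F_cj_fix hk.2 (hc u)) (inv_mem (hc u))) hv vx
    (e2 ▸ fun a ha => by rw [← mul_smul, H_comm hxy ha hk, mul_smul, hv a ha]), one_smul]

theorem Fr.B_symm (h : C.Fr p) {x y : X} (hxy : x ≠ y) : C.B x y = C.B y x :=
  (Fr1.B_le h hxy).antisymm (Fr1.B_le h hxy.symm)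

/-- Every `F x`-orbit on `X - x` meets the block `B x y` ... -/
theorem Fr.grid (h : C.Fr p) {x y z : X} (hxy : x ≠ y) (hz : z ≠ x) :
    ∃ f ∈ C.F x, ∃ u ∈ C.B x y, u ≠ x ∧ z = f • u := by
  obtain ⟨f, hf, hB⟩ := Fr1.meet h hxy hz
  exact ⟨f⁻¹, inv_mem hf, _, hB, fun a => hz (by
    rw [← smul_left_cancel_iff f, a, C.fix (C.F_le x hf)]), (inv_smul_smul f z).symm⟩

theorem Fr.H_eq (h : C.Fr p) {x y u : X} (hxy : x ≠ y) (hu : u ∈ C.B x y) (hux : u ≠ x) :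
    C.H x u = C.H x y :=
  (eq_of_le_of_card_ge (show C.H x y ≤ C.H x u from fun a ha => ⟨ha.1, hu a ha⟩) (card_H hux.symm hxy).le).symm

/-- The blocks form a linear space. -/
theorem Fr.B_eq (h : C.Fr p) {x y z u : X} (hxy : x ≠ y) (hz : z ∈ C.B x y) (hu : u ∈ C.B x y)
    (hzu : z ≠ u) : C.B z u = C.B x y := by
  have k : ∀ {x y u : X}, x ≠ y → u ∈ C.B x y → u ≠ x → C.B x u = C.B x y := fun a b c => by
    rw [B, h.H_eq a b c, B]
  by_cases e : z = x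
  · rw [e] at hzu ⊢
    exact k hxy hu hzu.symm
  have e2 : C.B z x = C.B x y := (h.B_symm e).trans (k hxy hz e)
  exact (k e (e2 ▸ hu) hzu.symm).trans e2

/-- The pointwise stabiliser of a block through `x` is faithful on `F x`. -/
theorem Fr.faith_F (h : C.Fr p) {x y : X} (hxy : x ≠ y) {a : G}
    (ha : ∀ u ∈ C.B x y, a • u = u) (hc : ∀ f ∈ C.F x, f * a = a * f) : a = 1 := C.faith fun z => by
  by_cases e : z = x
  · exact ha z (e ▸ C.left_mem_B z y)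
  obtain ⟨f, hf, u, hu, -, rfl⟩ := h.grid hxy e
  rw [← mul_smul, ← hc f hf, mul_smul, ha u hu]

theorem Fr.ne_two (h : C.Fr p) : p ≠ 2 := by
  rintro rfl
  obtain ⟨x, y, hxy⟩ := C.nt
  obtain ⟨a, ha, a1, ay⟩ := C.nsr hxy
  obtain ⟨k, hk, k1, kx⟩ := C.nsr hxy.symm
  have a2 : a * a = 1 := by rw [← pow_two, ← (h.zpowers_eq hxy ⟨ha, ay⟩ a1).1, pow_orderOf_eq_one]
  have k2 : k * k = 1 := by rw [← pow_two, ← (h.zpowers_eq hxy.symm ⟨hk, kx⟩ k1).1, pow_orderOf_eq_one]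
  have e := h.faith_F hxy (a := a * k)
    (fun u hu => by rw [mul_smul, (h.B_symm hxy ▸ hu :) k ⟨hk, kx⟩, hu a ⟨ha, ay⟩]) fun f hf => by
      have e1 := Fr1.inverts a2 (fun _ => F_cj_fix (C.fix ha)) (fun _ => h.fpf hxy ⟨ha, ay⟩ a1) (inv_mem hf)
      have e2 := Fr1.inverts k2 (fun _ => F_cj_fix kx) (fun _ => K_fpf hxy ⟨hk, kx⟩ k1) hf
      calc f * (a * k) = a * (k * f * k⁻¹) * a⁻¹ * (a * k) := by rw [e2, e1, inv_inv]
        _ = _ := by group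
  exact a1 (C.ti hxy ha (eq_inv_of_mul_eq_one_left e ▸ inv_mem hk))

end H97.ONT.Cf
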