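import Cfsg.Agent.Lib.ONT.Fr1

/-! The Frobenius case: centralisers of good sets are transitive on a block. -/

set_option autoImplicit false
set_option linter.unusedSectionVars false

namespace H97.ONT.Cf

open Subgroup

variable {G X : Type*} [Group G] [Finite G] [MulAction G X] [Finite X] {C : Cf G X}

namespace Fr2

theorem dvd_of_free {P : Subgroup G} {O : Set X} (hO : ∀ g ∈ P, ∀ t ∈ O, g • t ∈ O)
    (hf : ∀ g ∈ P, ∀ t ∈ O, g • t = t → g = 1) : Nat.card P ∣ O.ncard := by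
  let B : SubMulAction P X := ⟨O, fun g _ ht => hO g g.2 _ ht⟩
  have := Nat.card_congr (MulAction.selfEquivOrbitsQuotientProd (G := P) (X := B) fun t =>
    eq_bot_iff.2 fun g hg => Subtype.ext (hf g g.2 t t.2 (congrArg Subtype.val hg)))
  rw [Nat.card_prod] at this
  exact Dvd.intro_left _ this.symm

theorem other {x y : X} (hxy : x ≠ y) (v : X) : ∃ v' ∈ C.B x y, v ≠ v' := by
  by_cases e : v = x
  · exact ⟨y, C.right_mem_B x y, e ▸ hxy⟩
  · exact ⟨x, C.left_mem_B x y, e⟩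

variable {p : ℕ} (h : C.Fr p) {x y : X} (hxy : x ≠ y) {A : Set G}
  (hA : ∀ a ∈ A, ∀ u ∈ C.B x y, a • u = u) {v : X} (hv : v ∈ C.B x y)
include h hxy hA hv

theorem key {t : X} (ht : ∀ a ∈ A, a • t = t) (tv : t ≠ v) :
    ∃ f ∈ C.F v ⊓ centralizer A, ∃ u ∈ C.B x y, u ≠ v ∧ t = f • u := by
  obtain ⟨v', hv', ne⟩ := other (C := C) hxy v
  obtain ⟨f, hf, u, hu, uv, rfl⟩ := h.grid ne tv
  rw [h.B_eq hxy hv hv' ne] at hu
  refine ⟨f, ⟨hf, fun a ha => ?_⟩, u, hu, uv, rfl⟩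
  have := C.F_sr uv.symm (mul_mem (inv_mem hf) (F_cj_fix (hA a ha v hv) hf)) (by
    rw [mul_smul, mul_smul, mul_smul, inv_smul_eq_iff.2 (hA a ha u hu).symm, ht a ha, inv_smul_smul])
  rwa [inv_mul_eq_one, eq_mul_inv_iff_mul_eq, eq_comm] at this

theorem count : Nat.card (C.F v ⊓ centralizer A : Subgroup G) * ((C.B x y).ncard - 1) =
    {t : X | ∀ a ∈ A, a • t = t}.ncard - 1 := by
  obtain ⟨v', hv', ne⟩ := other (C := C) hxy v
  rw [← Set.ncard_sdiff_singleton_of_mem hv, ← Set.ncard_sdiff_singleton_of_mem (a := v)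
    (s := {t : X | ∀ a ∈ A, a • t = t}) fun a ha => hA a ha v hv,
    ← Nat.card_coe_set_eq, ← Nat.card_coe_set_eq, ← Nat.card_prod]
  refine Nat.card_eq_of_bijective (fun w => ⟨(w.1 : G) • (w.2 : X), fun a ha => by
    rw [← mul_smul, w.1.2.2 a ha, mul_smul, hA a ha _ w.2.2.1], fun e => w.2.2.2 (by
      rw [Set.mem_singleton_iff, ← smul_left_cancel_iff (w.1 : G), C.fix (C.F_le v w.1.2.1)]; exact e)⟩) ⟨?_, ?_⟩
  · rintro ⟨f, u⟩ ⟨f', u'⟩ e
    have e' : ((f' : G)⁻¹ * f) • (u : X) = u' := by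
      rw [mul_smul, inv_smul_eq_iff]; exact congrArg Subtype.val e
    have := h.grid_uniq ne (mul_mem (inv_mem f'.2.1) f.2.1) (by rw [h.B_eq hxy hv hv' ne]; exact u.2.1) u.2.2
      (by rw [e', h.B_eq hxy hv hv' ne]; exact u'.2.1)
    rw [this, one_smul] at e'
    exact Prod.ext (Subtype.ext (inv_mul_eq_one.1 this).symm) (Subtype.ext e')
  · rintro ⟨t, ht, tv⟩
    obtain ⟨f, hf, u, hu, uv, rfl⟩ := key h hxy hA hv ht tv
    exact ⟨(⟨f, hf⟩, ⟨u, hu, uv⟩), rfl⟩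

end Fr2

theorem Fr.good {p : ℕ} (h : C.Fr p) {x y : X} (hxy : x ≠ y) {A : Set G}
    (hA : ∀ a ∈ A, ∀ u ∈ C.B x y, a • u = u) {f : G} (hf : f ∈ C.F x) (h1 : f ≠ 1)
    (hc : ∀ a ∈ A, f * a = a * f) {z u : X} (hz : z ∈ C.B x y) (hu : u ∈ C.B x y) :
    ∃ d ∈ C.Y, (∀ a ∈ A, d * a = a * d) ∧ d • z = u ∧ ∀ v ∈ C.B x y, d • v ∈ C.B x y := by
  have pos : 0 < (C.B x y).ncard - 1 := by
    have := (Set.one_lt_ncard (Set.toFinite _)).2 ⟨x, C.left_mem_B x y, y, C.right_mem_B x y, hxy⟩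
    omega
  have same : ∀ v ∈ C.B x y, Nat.card (C.F v ⊓ centralizer A : Subgroup G) =
      Nat.card (C.F x ⊓ centralizer A : Subgroup G) := fun v hv =>
    Nat.eq_of_mul_eq_mul_right pos ((Fr2.count h hxy hA hv).trans (Fr2.count h hxy hA (C.left_mem_B x y)).symm)
  obtain ⟨g, ⟨gY, gA⟩, rfl⟩ : ∃ g ∈ C.Y ⊓ centralizer A, g • z = u := by
    by_contra hn
    set O := {t : X | ∃ g ∈ C.Y ⊓ centralizer A, g • z = t}
    have inv : ∀ v, ∀ c ∈ C.F v ⊓ centralizer A, ∀ t ∈ O, c • t ∈ O := by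
      rintro v c hc _ ⟨g, hg, rfl⟩
      exact ⟨c * g, mul_mem ⟨C.F_le_Y v hc.1, hc.2⟩ hg, mul_smul _ _ _⟩
    have zO : z ∈ O := ⟨1, one_mem _, one_smul _ _⟩
    have d1 := Fr2.dvd_of_free (inv u) fun c hc t ht => C.F_sr (fun e : u = t => hn (by rw [e]; exact ht)) hc.1
    have d2 := Fr2.dvd_of_free (P := C.F z ⊓ centralizer A) (O := O \ {z})
      (fun c hc t ht => ⟨inv z c hc t ht.1, fun e => ht.2 (by
        rw [Set.mem_singleton_iff, ← smul_left_cancel_iff c, C.fix (C.F_le z hc.1)]; exact e)⟩)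
      fun c hc t ht => C.F_sr (fun e => ht.2 e.symm) hc.1
    rw [same u hu, ← Set.ncard_sdiff_singleton_add_one zO] at d1
    rw [same z hz] at d2
    have := card_eq_one.1 (Nat.dvd_one.1 ((Nat.dvd_add_right d2).1 d1))
    exact h1 (mem_bot.1 (this.le ⟨hf, fun a ha => (hc a ha).symm⟩))
  obtain ⟨z', hz', ne⟩ := Fr2.other (C := C) hxy z
  obtain ⟨c, hc, w, hw, wu, e⟩ := Fr2.key h hxy hA hu (t := g • z')
    (fun a ha => by rw [← mul_smul, gA a ha, mul_smul, hA a ha z' hz'])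
    fun e => ne (smul_left_cancel g e).symm
  have e1 : (c⁻¹ * g) • z = g • z := by rw [mul_smul, C.fix (C.F_le _ (inv_mem hc.1))]
  have e2 : (c⁻¹ * g) • z' = w := by rw [mul_smul, e, inv_smul_smul]
  refine ⟨c⁻¹ * g, mul_mem (inv_mem (C.F_le_Y _ hc.1)) gY,
    fun a ha => ((mul_mem (inv_mem hc.2) gA : _ ∈ centralizer A) a ha).symm, e1, fun v hv => ?_⟩
  rw [← h.B_eq hxy hu hw wu.symm, ← e1, ← e2, B_smul, h.B_eq hxy hz hz' ne]
  exact hv

end H97.ONT.Cf
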