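import Cfsg.Agent.Lib.ONT.Fr2
import Cfsg.Agent.Lib.Core.CoprimeAbelian

/-! The Frobenius case: the group generated by the `H z v` on a block has rank two. -/

set_option autoImplicit false
set_option linter.unusedSectionVars false

namespace H97.ONT.Cf

open Subgroup

variable {G X : Type*} [Group G] [Finite G] [MulAction G X] [Finite X] {C : Cf G X}

namespace Fr3

theorem root {p : ℕ} (hp : p.Prime) {w : G} (h : w ^ p = 1) {t : ℤ} (ht : w ^ t ≠ 1) :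
    ∃ m : ℤ, (w ^ t) ^ m = w := by
  have := Fact.mk hp
  exact (eq_of_le_of_card_ge (zpowers_le.2 (zpow_mem (mem_zpowers w) t)) (by
    rw [Nat.card_zpowers, Nat.card_zpowers, orderOf_eq_prime h fun e => ht (by rw [e, one_zpow]),
      orderOf_eq_prime (by rw [← zpow_natCast, zpow_comm, zpow_natCast, h, one_zpow]) ht])).ge (mem_zpowers w)

theorem nat_pow (w : G) (j : ℤ) : ∃ i : ℕ, w ^ i = w ^ j :=
  mem_powers_iff_mem_zpowers.2 (zpow_mem (mem_zpowers w) j)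

theorem dec {p : ℕ} (hp : p.Prime) {E A : Subgroup G} (cm : ∀ u ∈ E, ∀ v ∈ E, Commute u v)
    (ex : ∀ u ∈ E, u ^ p = 1) (le : A ≤ E) {e : G} (he : e ∈ E) (hs : A ⊔ zpowers e = E) {e' : G} (he' : e' ∈ E)
    (hn : e' ∉ A) {g : G} (hg : g ∈ E) : ∃ i : ℤ, ∃ α ∈ A, g = e' ^ i * α := by
  have k : ∀ e ∈ E, ∀ g ∈ A ⊔ zpowers e, ∃ i : ℤ, ∃ α ∈ A, g = e ^ i * α := fun e he g hg => by
    rw [sup_comm, ← SetLike.mem_coe, coe_mul_of_left_le_normalizer_right _ _ (zpowers_le.2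
      (centralizer_le_normalizer _ fun a ha => cm a (le ha) e he))] at hg
    obtain ⟨_, ⟨i, rfl⟩, α, hα, rfl⟩ := hg
    exact ⟨i, α, hα, rfl⟩
  refine k e' he' g ((hs.ge.trans (sup_le le_sup_left (zpowers_le.2 ?_))) hg)
  obtain ⟨j, α, hα, e1⟩ := k e he e' (hs.ge he')
  obtain ⟨m, hm⟩ := root hp (ex e he) (t := j) fun a => hn (by rwa [e1, a, one_mul])
  rw [← hm, ← mul_inv_eq_iff_eq_mul.2 e1]
  exact zpow_mem (mul_mem (mem_sup_right (mem_zpowers _)) (mem_sup_left (inv_mem hα))) m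

/-- the elements of the groups `N z`, `z ∈ B`, fixing `B` pointwise -/
def S (C : Cf G X) (x y : X) : Set G := {n | ∃ z ∈ C.B x y, n ∈ C.N z ∧ ∀ u ∈ C.B x y, n • u = u}

/-- cocyclic subgroups with a nontrivial centraliser -/
def Good (C : Cf G X) (x y : X) (A : Subgroup G) : Prop :=
  A ≤ closure (S C x y) ∧ (∃ e ∈ closure (S C x y), A ⊔ zpowers e = closure (S C x y)) ∧
    ∃ f ∈ C.F x, f ≠ 1 ∧ ∀ a ∈ A, f * a = a * f

variable {p : ℕ} (h : C.Fr p) {x y : X} (hxy : x ≠ y)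
include h hxy

theorem B_iff {d : G} (hd : ∀ v ∈ C.B x y, d • v ∈ C.B x y) {u : X} : d • u ∈ C.B x y ↔ u ∈ C.B x y := by
  rw [← B_smul (g := d) (z := u), h.B_eq hxy (hd x (C.left_mem_B x y)) (hd y (C.right_mem_B x y))
    fun e => hxy (smul_left_cancel d e)]

theorem S_cj {d n : G} (hd : ∀ v ∈ C.B x y, d • v ∈ C.B x y) (hn : n ∈ S C x y) : d * n * d⁻¹ ∈ S C x y := by
  obtain ⟨z, hz, hn, hf⟩ := hn
  refine ⟨_, hd z hz, C.cj d hn, fun u hu => ?_⟩
  rw [← smul_inv_smul d u] at hu ⊢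
  exact cj_smul_iff.2 (hf _ ((B_iff h hxy hd).1 hu))

theorem cm : ∀ u ∈ closure (S C x y), ∀ v ∈ closure (S C x y), Commute u v := fun u hu v hv =>
  congrArg Subtype.val ((isMulCommutative_closure (k := S C x y) (by
    rintro n ⟨z, hz, hn, hf⟩ n' ⟨z', hz', hn', hf'⟩
    by_cases e : z = z'
    · subst e
      obtain ⟨v, hv, ne⟩ := Fr2.other (C := C) hxy z
      by_cases n1 : n = 1
      · rw [n1, one_mul, mul_one]
      obtain ⟨i, rfl⟩ := (h.zpowers_eq ne ⟨hn, hf v hv⟩ n1).2.ge ⟨hn', hf' v hv⟩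
      exact (Commute.refl n).zpow_right i
    · exact H_comm e ⟨hn, hf z' hz'⟩ ⟨hn', hf' z hz⟩)).is_comm.comm ⟨u, hu⟩ ⟨v, hv⟩)

theorem ex : ∀ u ∈ closure (S C x y), u ^ p = 1 := fun u hu => by
  induction hu using closure_induction with
  | mem n hn =>
    obtain ⟨z, hz, hn, hf⟩ := hn
    obtain ⟨v, hv, ne⟩ := Fr2.other (C := C) hxy z
    rw [← h.card ne]
    exact congrArg Subtype.val (pow_card_eq_one' (x := (⟨n, hn, hf v hv⟩ : C.H z v)))
  | one => exact one_pow _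
  | mul a b ha hb e e' => rw [(cm h hxy a ha b hb).mul_pow, e, e', one_mul]
  | inv a _ e => rw [inv_pow, e, inv_one]

omit h hxy in
theorem fixes {u : G} (hu : u ∈ closure (S C x y)) {v : X} (hv : v ∈ C.B x y) : u • v = v :=
  ((closure_le (MulAction.stabilizer G v)).2 fun _ hn => hn.choose_spec.2.2 v hv) hu

theorem Good.eq_one {A : Subgroup G} (hA : Good C x y A) {n : G} (hn : n ∈ S C x y) (nA : n ∈ A) : n = 1 := by
  obtain ⟨-, -, f, hf, f1, fc⟩ := hA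
  obtain ⟨z, hz, hn, hB⟩ := hn
  by_contra n1
  by_cases e : x = z
  · exact f1 (h.fpf hxy ⟨e ▸ hn, hB y (C.right_mem_B x y)⟩ n1 hf (fc n nA))
  · exact f1 (K_fpf e ⟨hn, hB x (C.left_mem_B x y)⟩ n1 hf (fc n nA))

theorem eq_one {w : G} (hw : w ∈ closure (S C x y)) (hg : ∀ A, Good C x y A → w ∈ A) : w = 1 := by
  have := Fact.mk h.prime
  obtain ⟨n, hn⟩ := (show IsPGroup p (closure (S C x y)) from fun e =>
    ⟨1, Subtype.ext (by rw [pow_one]; exact ex h hxy _ e.2)⟩).exists_card_eq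
  refine h.faith_F hxy (fun u => fixes hw) fun f hf => mem_centralizer_singleton_iff.1
    (H2.le_of_forall_cocyclic (A := closure (S C x y)) (K := C.F x) (M := centralizer {w})
      ⟨⟨fun a b => Subtype.ext (cm h hxy _ a.2 _ b.2)⟩⟩ (fun _ hu => mem_norm_F (fixes hu (C.left_mem_B x y)))
      (by rw [hn]; exact Nat.Coprime.pow_left n (h.prime.coprime_iff_not_dvd.2 (h.not_dvd x)))
      (fun A le co g hg' => ?_) hf)
  by_cases g1 : g = 1
  · exact g1 ▸ one_mem _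
  exact mem_centralizer_singleton_iff.2 (hg'.2 w (hg A ⟨le, co, g, hg'.1, g1, fun a ha => (hg'.2 a ha).symm⟩)).symm

theorem Good.dec {A : Subgroup G} (hA : Good C x y A) {e g : G} (he : e ∈ closure (S C x y)) (hn : e ∉ A)
    (hg : g ∈ closure (S C x y)) : ∃ i : ℤ, ∃ α ∈ A, g = e ^ i * α :=
  let ⟨_, h1, h2⟩ := hA.2.1
  Fr3.dec h.prime (cm h hxy) (ex h hxy) hA.1 h1 h2 he hn hg

/-- an element acting trivially on `A` and on `E / A` fixes the block pointwise -/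
theorem Good.fix {A : Subgroup G} (hA : Good C x y A) {a d w : G} (ha : a ∈ S C x y) (a1 : a ≠ 1)
    (hd : ∀ v ∈ C.B x y, d • v ∈ C.B x y) (dA : ∀ α ∈ A, Commute d α) (hw : w ∈ A)
    (e : d * a * d⁻¹ = a * w) {z : X} (hz : z ∈ C.B x y) : d • z = z := by
  have e1 : ∀ i : ℕ, d ^ i * a * (d ^ i)⁻¹ = a * w ^ i ∧ a * w ^ i ∈ S C x y := fun i => by
    induction i with
    | zero => simpa using ha
    | succ i ih =>
      have : d * (a * w ^ i) * d⁻¹ = a * w ^ (i + 1) := by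
        rw [← conj_mul, e, ((dA w hw).pow_right i).eq, mul_inv_cancel_right, pow_succ', mul_assoc]
      exact ⟨by rw [← this, ← ih.1, pow_succ']; group, this ▸ S_cj h hxy hd ih.2⟩
  obtain rfl : w = 1 := Fr3.eq_one h hxy (hA.1 hw) fun A' hA' => by_contra fun wn => by
    obtain ⟨j, α, hα, e2⟩ := hA'.dec h hxy (hA.1 hw) wn (subset_closure ha)
    obtain ⟨i, hi⟩ := nat_pow w (-j)
    refine a1 (conj_eq_one_iff.1 ((e1 i).1.trans (hA'.eq_one h hxy (e1 i).2 ?_)))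
    rwa [e2, hi, zpow_neg, (cm h hxy _ (zpow_mem (hA.1 hw) j) _ (hA'.1 hα)).eq, mul_inv_cancel_right]
  rw [mul_one, mul_inv_eq_iff_eq_mul] at e
  obtain ⟨v, hv, ne⟩ := Fr2.other (C := C) hxy z
  obtain ⟨n, hn, n1, nv⟩ := C.nsr ne
  obtain ⟨i, α, hα, rfl⟩ := hA.dec h hxy (subset_closure ha) (fun c => a1 (hA.eq_one h hxy ha c))
    (subset_closure (show n ∈ S C x y from ⟨z, hz, hn, fun u hu => (h.B_eq hxy hz hv ne ▸ hu :) n ⟨hn, nv⟩⟩))
  exact fix_of_comm hn n1 ((Commute.zpow_right e i).mul_right (dA α hα))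

end Fr3

theorem Fr.rank_two {p : ℕ} (h : C.Fr p) {x y : X} (hxy : x ≠ y) {a k : G} (ha : a ∈ C.H x y)
    (a1 : a ≠ 1) (hk : k ∈ C.H y x) (k1 : k ≠ 1) :
    (∀ z ∈ C.B x y, ∀ n ∈ C.N z, (∀ u ∈ C.B x y, n • u = u) → ∃ i j : ℕ, n = a ^ i * k ^ j) ∧
      ∃ d ∈ C.Y, (∀ v ∈ C.B x y, d • v ∈ C.B x y) ∧ ∀ u ∈ C.B x y, ∃ i : ℕ, d ^ i • x = u := by
  have := Fact.mk h.prime
  have aS : a ∈ Fr3.S C x y := ⟨x, C.left_mem_B x y, ha.1, fun u hu => hu a ha⟩
  have aE := subset_closure aS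
  obtain ⟨A, hA⟩ : ∃ A, Fr3.Good C x y A := by_contra fun c =>
    a1 (Fr3.eq_one h hxy aE fun A hA => absurd ⟨A, hA⟩ c)
  have aA : a ∉ A := fun c => a1 (hA.eq_one h hxy aS c)
  have cA : ∀ α ∈ A, Commute a α := fun α hα => Fr3.cm h hxy a aE α (hA.1 hα)
  let D : Subgroup G :=
    { carrier := {d | d ∈ C.Y ∧ (∀ α ∈ A, Commute d α) ∧ ∀ v ∈ C.B x y, d • v ∈ C.B x y}
      mul_mem' := fun s t => ⟨mul_mem s.1 t.1, fun α hα => (s.2.1 α hα).mul_left (t.2.1 α hα),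
        fun v hv => by rw [mul_smul]; exact s.2.2 _ (t.2.2 v hv)⟩
      one_mem' := ⟨one_mem _, fun α _ => Commute.one_left α, fun v hv => by rwa [one_smul]⟩
      inv_mem' := fun s => ⟨inv_mem s.1, fun α hα => (s.2.1 α hα).inv_left,
        fun v hv => (Fr3.B_iff h hxy s.2.2).1 (by rwa [smul_inv_smul])⟩ }
  choose l α hα e using fun d : D => hA.dec h hxy aE aA (subset_closure (Fr3.S_cj h hxy d.2.2.2 aS))
  have un : ∀ (d : D) (i : ℤ), ∀ β ∈ A, (d : G) * a * (d : G)⁻¹ = a ^ i * β → ((l d : ℤ) : ZMod p) = i :=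
    fun d i β hβ e' => by
      rw [ZMod.intCast_eq_intCast_iff_dvd_sub, ← (h.zpowers_eq hxy ha a1).1, orderOf_dvd_iff_zpow_eq_one]
      refine hA.eq_one h hxy ⟨x, C.left_mem_B x y, (zpow_mem ha _).1, fun u hu => hu _ (zpow_mem ha _)⟩ ?_
      have : a ^ (i - l d) = α d * β⁻¹ := by
        calc a ^ (i - l d) = (a ^ l d)⁻¹ * (a ^ i * β) * β⁻¹ := by group
          _ = _ := by rw [← e', e]; group
      exact this ▸ mul_mem (hα d) (inv_mem hβ)
  let φ : D →* ZMod p :=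
    { toFun := fun d => (l d : ℤ)
      map_one' := by simpa using un 1 1 1 (one_mem _) (by simp)
      map_mul' := fun s t => by
        rw [← Int.cast_mul]
        refine un _ _ (α s ^ l t * α t) (mul_mem (zpow_mem (hα s) _) (hα t)) ?_
        calc _ = (s : G) * (t * a * (t : G)⁻¹) * (s : G)⁻¹ := by simp [mul_assoc]
          _ = _ := by
            rw [e t, ← conj_mul, ← conj_zpow, e s, (s.2.2.1 _ (hα t)).eq, mul_inv_cancel_right,
              ((cA _ (hα s)).zpow_left _).mul_zpow, zpow_mul, mul_assoc] }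
  obtain ⟨⟨_, d, rfl⟩, hd⟩ := IsCyclic.exists_monoid_generator (α := φ.toHomUnits.range)
  have tr : ∀ u ∈ C.B x y, ∃ i : ℕ, (d : G) ^ i • x = u := fun u hu => by
    obtain ⟨f, hf, f1, fc⟩ := hA.2.2
    obtain ⟨s, sY, sA, rfl, sB⟩ := h.good hxy (A := A) (fun b hb v => Fr3.fixes (hA.1 hb)) hf f1 fc
      (C.left_mem_B x y) hu
    obtain ⟨i, hi⟩ := hd ⟨_, ⟨s, sY, sA, sB⟩, rfl⟩
    set t : D := (⟨s, sY, sA, sB⟩ : D)⁻¹ * d ^ i with ht
    have e1 : φ.toHomUnits t = 1 := by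
      rw [ht, map_mul, map_inv, map_pow, inv_mul_eq_one]; exact (congrArg Subtype.val hi).symm
    have e2 : a ^ l t = a := by
      rw [← mul_inv_eq_one, ← zpow_sub_one, ← orderOf_dvd_iff_zpow_eq_one, (h.zpowers_eq hxy ha a1).1,
        ← ZMod.intCast_eq_intCast_iff_dvd_sub, Int.cast_one]
      exact (congrArg Units.val e1).symm
    have := hA.fix h hxy aS a1 t.2.2.2 t.2.2.1 (hα t) (by rw [e t, e2]) (C.left_mem_B x y)
    exact ⟨i, inv_smul_eq_iff.1 ((mul_smul _ _ _).symm.trans this)⟩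
  refine ⟨?_, d, d.2.1, d.2.2.2, tr⟩
  have cw := cA _ (hα d)
  have pw : ∀ i : ℕ, ∃ s t : ℤ, (d : G) ^ i * a * ((d : G) ^ i)⁻¹ = a ^ s * α d ^ t := fun i => by
    induction i with
    | zero => exact ⟨1, 0, by simp⟩
    | succ i ih =>
      obtain ⟨s, t, ih⟩ := ih
      refine ⟨l d * s, s + t, ?_⟩
      calc _ = (d : G) * ((d : G) ^ i * a * ((d : G) ^ i)⁻¹) * (d : G)⁻¹ := by rw [pow_succ']; group
        _ = _ := by
          rw [ih, ← conj_mul, ← conj_zpow, e d, ((d.2.2.1 _ (hα d)).zpow_right t).eq, mul_inv_cancel_right,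
            (cw.zpow_left _).mul_zpow, zpow_mul, zpow_add, mul_assoc]
  have all : ∀ z ∈ C.B x y, ∀ n ∈ C.N z, (∀ u ∈ C.B x y, n • u = u) → ∃ s t : ℤ, n = a ^ s * α d ^ t :=
    fun z hz n hn hf => by
      obtain ⟨i, rfl⟩ := tr z hz
      obtain ⟨s, t, e1⟩ := pw i
      obtain ⟨m, rfl⟩ := (h.zpowers_eq (fun e => hxy (smul_left_cancel _ e))
        ((H_cj_iff (g := (d : G) ^ i)).2 ha) (mt conj_eq_one_iff.1 a1)).2.ge
          ⟨hn, hf _ ((pow_mem d.2 i).2.2 y (C.right_mem_B x y))⟩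
      exact ⟨s * m, t * m, by simp only [e1, (cw.zpow_zpow s t).mul_zpow, zpow_mul]⟩
  obtain ⟨s, t, ek⟩ := all y (C.right_mem_B x y) k hk.1 fun u hu => (h.B_symm hxy ▸ hu :) k hk
  obtain ⟨m, hm⟩ := Fr3.root h.prime (Fr3.ex h hxy _ (hA.1 (hα d))) (t := t) fun c =>
    k1 (C.ti hxy (by rw [ek, c, mul_one]; exact (zpow_mem ha s).1) hk.1)
  intro z hz n hn hf
  obtain ⟨s', t', rfl⟩ := all z hz n hn hf
  obtain ⟨i, hi⟩ := Fr3.nat_pow a (s' + -s * (m * t'))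
  obtain ⟨j, hj⟩ := Fr3.nat_pow k (m * t')
  refine ⟨i, j, ?_⟩
  rw [hi, hj, ← hm, ← inv_mul_eq_iff_eq_mul.2 ek, ← zpow_mul, ← zpow_neg,
    ((show Commute a k from H_comm hxy ha hk).zpow_left _).mul_zpow, zpow_add, zpow_mul a (-s), mul_assoc]

end H97.ONT.Cf
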