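import Cfsg.Agent.Lib.ONT.Fr1
import Cfsg.Agent.Lib.Core.CoprimeAbelian

/-! The Frobenius case: commutators in the stabiliser of a flag fix the block pointwise. -/

set_option autoImplicit false
set_option linter.unusedSectionVars false

namespace H97.ONT.Cf

open Subgroup

variable {G X : Type*} [Group G] [Finite G] [MulAction G X] [Finite X] {C : Cf G X}

namespace Fr4

theorem mem_pair {a k e : G} (c : Commute a k) (he : e ∈ closure ({a, k} : Set G)) :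
    ∃ i j : ℤ, e = a ^ i * k ^ j := by
  induction he using closure_induction with
  | mem x hx =>
    rcases hx with rfl | rfl
    exacts [⟨1, 0, by simp⟩, ⟨0, 1, by simp⟩]
  | one => exact ⟨0, 0, by simp⟩
  | mul x y _ _ hx hy =>
    obtain ⟨i, j, rfl⟩ := hx
    obtain ⟨i', j', rfl⟩ := hy
    exact ⟨i + i', j + j', by rw [(c.zpow_zpow i' j).symm.mul_mul_mul_comm, zpow_add, zpow_add]⟩
  | inv x _ hx =>
    obtain ⟨i, j, rfl⟩ := hx
    exact ⟨-i, -j, by rw [(c.zpow_zpow i j).mul_inv, zpow_neg, zpow_neg]⟩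

variable {p : ℕ} (h : C.Fr p) {x y : X} (hxy : x ≠ y)
include h hxy

theorem B_iff {g : G} (hg : g • x = x) (hy : g • y ∈ C.B x y) {u : X} : g • u ∈ C.B x y ↔ u ∈ C.B x y := by
  rw [← B_smul (g := g) (z := u), hg,
    h.B_eq hxy (C.left_mem_B x y) hy fun e => hxy (smul_left_cancel g (hg.trans e))]

theorem H_iff {g : G} (hg : g • x = x) (hy : g • y ∈ C.B x y) {b : G} :
    g * b * g⁻¹ ∈ C.H x y ↔ b ∈ C.H x y := by
  rw [← H_cj_iff (g := g) (n := b), hg, h.H_eq hxy hy fun e => hxy (smul_left_cancel g (hg.trans e.symm))]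

/-- not every `b k`, `b ∈ H`, is fixed point free on `F x` -/
theorem exists_fix {k : G} (hk : k ∈ C.H y x) (k1 : k ≠ 1) :
    ∃ b ∈ C.H x y, ∃ f ∈ C.F x, f ≠ 1 ∧ f * (b * k) = b * k * f := by
  obtain ⟨a, haN, a1, ay⟩ := C.nsr hxy
  have ha : a ∈ C.H x y := ⟨haN, ay⟩
  have c : Commute a k := H_comm hxy ha hk
  obtain ⟨oa, za⟩ := h.zpowers_eq hxy ha a1
  obtain ⟨ok, -⟩ := h.zpowers_eq hxy.symm hk k1
  have ex : ∀ e ∈ closure ({a, k} : Set G), e ^ p = 1 := fun e he => by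
    obtain ⟨i, j, rfl⟩ := mem_pair c he
    rw [(c.zpow_zpow i j).mul_pow, ← zpow_natCast, ← zpow_natCast, zpow_comm, zpow_comm k, zpow_natCast,
      zpow_natCast]
    nth_rw 1 [← oa]
    rw [← ok, pow_orderOf_eq_one, pow_orderOf_eq_one, one_zpow, one_zpow, one_mul]
  have := Fact.mk h.prime
  obtain ⟨n, hn⟩ := (show IsPGroup p (closure ({a, k} : Set G)) from fun e =>
    ⟨1, Subtype.ext (by rw [pow_one]; exact ex _ e.2)⟩).exists_card_eq
  obtain ⟨e, he, e1, hne⟩ := H2.exists_inf_centralizer_ne_bot (A := closure {a, k}) (K := C.F x)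
    (isMulCommutative_closure (by rintro _ (rfl | rfl) _ (rfl | rfl); exacts [rfl, c, c.symm, rfl]))
    (fun ⟨g, hg⟩ => by
      have : zpowers a = closure {a, k} := eq_of_le_of_card_ge (zpowers_le.2 (subset_closure (by simp))) (by
        rw [Nat.card_zpowers, oa, ← orderOf_eq_card_of_forall_mem_zpowers hg]
        exact Nat.le_of_dvd h.prime.pos (orderOf_dvd_of_pow_eq_one (Subtype.ext (ex _ g.2))))
      exact k1 (C.ti hxy (za.le (this.ge (subset_closure (by simp)))).1 hk.1))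
    ((closure_le _).2 (by rintro _ (rfl | rfl); exacts [mem_norm_F (C.fix haN), mem_norm_F hk.2]))
    (by rw [hn]; exact Nat.Coprime.pow_left n (h.prime.coprime_iff_not_dvd.2 (h.not_dvd x))) (h.F_ne x)
  obtain ⟨⟨f, hf, fc⟩, f1⟩ := ne_bot_iff_exists_ne_one.1 hne
  replace f1 : f ≠ 1 := fun a => f1 (Subtype.ext a)
  replace fc : Commute f e := mem_centralizer_singleton_iff.1 fc
  obtain ⟨i, j, rfl⟩ := mem_pair c he
  have kj : k ^ j ≠ 1 := fun e => by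
    rw [e, mul_one] at fc e1
    exact f1 (h.fpf hxy (zpow_mem ha i) e1 hf fc)
  obtain ⟨m, hm⟩ := (h.zpowers_eq hxy.symm (zpow_mem hk j) kj).2.ge hk
  refine ⟨(a ^ i) ^ m, zpow_mem (zpow_mem ha i) m, f, hf, f1, ?_⟩
  have := fc.zpow_right m
  rwa [(c.zpow_zpow i j).mul_zpow, show (k ^ j) ^ m = k from hm] at this

theorem eq_one {k w c : G} (hk : k ∈ C.H y x) (k1 : k ≠ 1) (hw : w ∈ C.H x y) (cx : c • x = x)
    (cw : c * w = w * c) (ck : c * k * c⁻¹ = w * k) : w = 1 := by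
  by_contra w1
  obtain ⟨b, hb, f, hf, f1, e⟩ := exists_fix h hxy hk k1
  obtain ⟨i, rfl⟩ := (Submonoid.mem_powers_iff _ _).1 (mem_powers_iff_mem_zpowers.2 ((h.zpowers_eq hxy hw w1).2.ge hb))
  have e1 : ∀ i : ℕ, c ^ i * k * (c ^ i)⁻¹ = w ^ i * k := fun i => by
    induction i with
    | zero => simp
    | succ i ih =>
      calc _ = c ^ i * w * (c ^ i)⁻¹ * (c ^ i * k * (c ^ i)⁻¹) := by
            rw [conj_mul, ← ck, pow_succ]; group
        _ = _ := by rw [ih, ((show Commute c w from cw).pow_left i).eq, mul_inv_cancel_right, pow_succ', mul_assoc]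
  have cx' : c ^ i • x = x := pow_mem (show c ∈ MulAction.stabilizer G x from cx) i
  have m := (H_cj_iff (g := c ^ i)).2 hk
  rw [cx'] at m
  exact f1 (K_fpf (fun e => hxy (smul_left_cancel _ (cx'.trans e))) m (mt conj_eq_one_iff.1 k1) hf
    (by rw [e1, e]))

end Fr4

theorem Fr.comm_fix {p : ℕ} (h : C.Fr p) {x y : X} (hxy : x ≠ y) {a k : G} (ha : a ∈ C.H x y)
    (a1 : a ≠ 1) (hk : k ∈ C.H y x) (k1 : k ≠ 1)
    (hE : ∀ z ∈ C.B x y, ∀ n ∈ C.N z, (∀ u ∈ C.B x y, n • u = u) → ∃ i j : ℕ, n = a ^ i * k ^ j)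
    {g g' : G} (hg : g • x = x) (hg' : g' • x = x) (hy : g • y ∈ C.B x y) (hy' : g' • y ∈ C.B x y) :
    ∀ u ∈ C.B x y, (g * g' * g⁻¹ * g'⁻¹) • u = u := by
  have c : Commute a k := H_comm hxy ha hk
  have za := (h.zpowers_eq hxy ha a1).2
  have ex : ∀ {g : G}, g • x = x → g • y ∈ C.B x y →
      ∃ α γ β : ℕ, g * a * g⁻¹ = a ^ α ∧ g * k * g⁻¹ = a ^ γ * k ^ β := fun {g} hg hy => by
    obtain ⟨α, e⟩ := (Submonoid.mem_powers_iff _ _).1 (mem_powers_iff_mem_zpowers.2 (za.ge ((Fr4.H_iff h hxy hg hy).2 ha)))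
    obtain ⟨γ, β, e'⟩ := hE _ hy _ (C.cj g hk.1) fun u hu => by
      rw [← smul_inv_smul g u] at hu ⊢
      exact cj_smul_iff.2 ((h.B_symm hxy ▸ (Fr4.B_iff h hxy hg hy).1 hu :) k hk)
    exact ⟨α, γ, β, e.symm, e'⟩
  have two : ∀ {g g' : G} {α γ β α' γ' β' : ℕ}, g * a * g⁻¹ = a ^ α → g * k * g⁻¹ = a ^ γ * k ^ β →
      g' * a * g'⁻¹ = a ^ α' → g' * k * g'⁻¹ = a ^ γ' * k ^ β' →
      g * g' * a * (g * g')⁻¹ = a ^ (α * α') ∧
        g * g' * k * (g * g')⁻¹ = a ^ (α * γ' + γ * β') * k ^ (β * β') := fun {g g' α γ β α' γ' β'} e1 e2 e3 e4 => by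
    constructor
    · calc _ = g * (g' * a * g'⁻¹) * g⁻¹ := by group
        _ = _ := by rw [e3, ← conj_pow, e1, pow_mul]
    · calc _ = g * (g' * k * g'⁻¹) * g⁻¹ := by group
        _ = _ := by
          rw [e4, ← conj_mul, ← conj_pow, ← conj_pow, e1, e2, (c.pow_pow γ β).mul_pow, pow_add, pow_mul, pow_mul,
            pow_mul, mul_assoc]
  obtain ⟨α, γ, β, e1, e2⟩ := ex hg hy
  obtain ⟨α', γ', β', e3, e4⟩ := ex hg' hy'
  obtain ⟨s1, s2⟩ := two e1 e2 e3 e4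
  obtain ⟨t1, t2⟩ := two e3 e4 e1 e2
  have tx : (g' * g) • x = x := by rw [mul_smul, hg, hg']
  have ty : (g' * g) • y ∈ C.B x y := by rw [mul_smul]; exact (Fr4.B_iff h hxy hg' hy').2 hy
  generalize hs : g * g' = s at s1 s2
  have sx : s • x = x := by rw [← hs, mul_smul, hg', hg]
  rw [mul_assoc s, ← mul_inv_rev]
  generalize g' * g = t at t1 t2 tx ty ⊢
  have ca : Commute (t⁻¹ * s) a := by
    rw [mul_comm α', ← s1] at t1
    calc t⁻¹ * s * a = t⁻¹ * (s * a * s⁻¹) * s := by group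
      _ = _ := by rw [← t1]; group
  obtain ⟨w, hw, ck⟩ : ∃ w ∈ C.H x y, t⁻¹ * s * k * (t⁻¹ * s)⁻¹ = w * k := by
    refine ⟨t⁻¹ * (a ^ (α * γ' + γ * β') * (a ^ (α' * γ + γ' * β))⁻¹) * t, (Fr4.H_iff h hxy tx ty).1 (by
      simpa [mul_assoc] using mul_mem (pow_mem ha _) (inv_mem (pow_mem ha _))), ?_⟩
    calc _ = t⁻¹ * (s * k * s⁻¹) * t := by group
      _ = _ := by rw [s2, mul_comm β, ← inv_mul_eq_iff_eq_mul.2 t2]; group
  obtain ⟨i, rfl⟩ := za.ge hw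
  rw [Fr4.eq_one h hxy hk k1 hw (by rw [mul_smul, sx, inv_smul_eq_iff, tx]) (ca.zpow_right i) ck, one_mul,
    mul_inv_eq_iff_eq_mul] at ck
  intro u hu
  rw [← smul_inv_smul t u, Fr4.B_iff h hxy tx ty] at hu
  obtain ⟨v, hv, ne⟩ : ∃ v ∈ C.B x y, t⁻¹ • u ≠ v := by
    by_cases e : t⁻¹ • u = x
    · exact ⟨y, C.right_mem_B x y, e ▸ hxy⟩
    · exact ⟨x, C.left_mem_B x y, e⟩
  obtain ⟨n, hn, n1, nv⟩ := C.nsr ne
  obtain ⟨i, j, rfl⟩ := hE _ hu n hn fun z hz => (h.B_eq hxy hu hv ne ▸ hz :) n ⟨hn, nv⟩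
  have := fix_of_comm hn n1 ((ca.pow_right i).mul_right (Commute.pow_right ck j))
  rwa [mul_smul, smul_left_cancel_iff, ← mul_smul] at this

end H97.ONT.Cf
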