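import Cfsg.Agent.Lib.ONT.Fr3
import Cfsg.Agent.Lib.ONT.Fr4
import Cfsg.Agent.Lib.ONT.Tr

/-! The Frobenius case: blocks have two points. -/

set_option autoImplicit false
set_option linter.unusedSectionVars false

namespace H97.ONT.Cf

open Subgroup

variable {G X : Type*} [Group G] [Finite G] [MulAction G X] [Finite X] {C : Cf G X}

namespace Fr5

/-- the kernel of the action of `G_x` on the `F x`-orbits -/
def M (C : Cf G X) (x : X) : Subgroup G where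
  carrier := {g | g • x = x ∧ ∀ t, t ≠ x → ∃ f ∈ C.F x, g • t = f • t}
  mul_mem' {g g'} s t := ⟨by rw [mul_smul, t.1, s.1], fun u hu => by
    obtain ⟨f, hf, e⟩ := s.2 u hu
    obtain ⟨f', hf', e'⟩ := t.2 u hu
    exact ⟨g * f' * g⁻¹ * f, mul_mem (F_cj_fix s.1 hf') hf, by
      rw [mul_smul, e', mul_smul, ← e, mul_smul, inv_smul_smul, mul_smul]⟩⟩
  one_mem' := ⟨one_smul _ _, fun _ _ => ⟨1, one_mem _, rfl⟩⟩
  inv_mem' {g} s := ⟨inv_smul_eq_iff.2 s.1.symm, fun u hu => by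
    obtain ⟨f, hf, e⟩ := s.2 (g⁻¹ • u) fun e => hu (by rw [← s.1, ← e, smul_inv_smul])
    exact ⟨f⁻¹, inv_mem hf, by rw [eq_inv_smul_iff, ← e, smul_inv_smul]⟩⟩

theorem F_le (C : Cf G X) (x : X) : C.F x ≤ M C x := fun f hf =>
  ⟨C.fix (C.F_le x hf), fun _ _ => ⟨f, hf, rfl⟩⟩

variable {p : ℕ} (h : C.Fr p) {x y : X} (hxy : x ≠ y)
include h hxy

theorem cf {g g' : G} (hg : g • x = x) (hg' : g' • x = x) (hy : g • y ∈ C.B x y) (hy' : g' • y ∈ C.B x y) :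
    ∀ u ∈ C.B x y, (g * g' * g⁻¹ * g'⁻¹) • u = u := by
  obtain ⟨a, ha, a1, ay⟩ := C.nsr hxy
  obtain ⟨k, hk, k1, kx⟩ := C.nsr hxy.symm
  exact h.comm_fix hxy ⟨ha, ay⟩ a1 ⟨hk, kx⟩ k1 (h.rank_two hxy ⟨ha, ay⟩ a1 ⟨hk, kx⟩ k1).1 hg hg' hy hy'

theorem mem_M {g : G} (hg : ∀ u ∈ C.B x y, g • u = u) : g ∈ M C x := by
  have gx := hg x (C.left_mem_B x y)
  refine ⟨gx, fun t ht => ?_⟩
  obtain ⟨f, hf, u, hu, -, rfl⟩ := h.grid hxy ht
  exact ⟨g * f * g⁻¹ * f⁻¹, mul_mem (F_cj_fix gx hf) (inv_mem hf), by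
    rw [mul_smul, inv_smul_smul, mul_smul, inv_smul_eq_iff.2 (hg u hu).symm, mul_smul]⟩

theorem two_mem {g : G} (gx : g • x = x) (gy : g • y = y) : g ∈ M C x := mem_M h hxy fun u hu => by
  by_cases e : x = u
  · exact e ▸ gx
  obtain ⟨g', hx, rfl⟩ := C.two hxy e
  have := cf h hxy gx hx (by rw [gy]; exact C.right_mem_B x y) hu _ hu
  rwa [mul_smul, inv_smul_smul, mul_smul, inv_smul_eq_iff.2 gy.symm, mul_smul] at this

theorem comm_mem {g g' : G} (hg : g • x = x) (hg' : g' • x = x) : g * g' * g⁻¹ * g'⁻¹ ∈ M C x := by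
  have dec : ∀ {g : G}, g • x = x → ∃ f ∈ C.F x, ∃ s : G, s • x = x ∧ s • y ∈ C.B x y ∧ g = f * s := fun {g} hg => by
    obtain ⟨f, hf, u, hu, -, e⟩ := h.grid hxy (z := g • y) fun e => hxy (smul_left_cancel g (hg.trans e.symm))
    exact ⟨f, hf, f⁻¹ * g, by rw [mul_smul, hg, C.fix (C.F_le x (inv_mem hf))],
      by rwa [mul_smul, e, inv_smul_smul], by group⟩
  obtain ⟨f, hf, s, sx, sy, rfl⟩ := dec hg
  obtain ⟨f', hf', t, tx, ty, rfl⟩ := dec hg'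
  have c := mem_M h hxy (cf h hxy sx tx sy ty)
  have : f * s * (f' * t) * (f * s)⁻¹ * (f' * t)⁻¹ =
      f * (s * f' * s⁻¹) * (s * t * s⁻¹ * t⁻¹) * (t * f⁻¹ * t⁻¹) * f'⁻¹ := by group
  rw [this]
  exact mul_mem (mul_mem (mul_mem (F_le C x (mul_mem hf (F_cj_fix sx hf'))) c)
    (F_le C x (F_cj_fix tx (inv_mem hf)))) (F_le C x (inv_mem hf'))

end Fr5

/-- Blocks have two points. -/
theorem Fr.B_two {p : ℕ} (h : C.Fr p) {x y z : X} (hxy : x ≠ y) (hz : z ∈ C.B x y) :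
    z = x ∨ z = y := by
  obtain ⟨K, hK, hM⟩ := transfer x (C.tr x) (Fr5.M C x) (fun _ hm => hm.1) (fun _ _ => Fr5.comm_mem h hxy)
    fun g gx v hv gv => Fr5.two_mem h hv.symm gx gv
  have FK : C.F x ≤ K := fun f hf => (hM f (C.fix (C.F_le x hf))).2 (Fr5.F_le C x hf)
  have YK : C.Y ≤ K := iSup_le fun v f hf => by
    obtain ⟨g, rfl⟩ := C.tr v x
    simpa [mul_assoc] using hK.conj_mem _ (FK (C.F_cj g hf)) g⁻¹
  obtain ⟨t, tK, ot⟩ := H1.exists_mem_orderOf_eq_prime (H := K) Nat.prime_two (even_iff_two_dvd.1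
    (Nat.not_odd_iff_even.1 fun o => h.F_ne x (eq_bot_iff.2 (FK.trans (C.eq_bot_of_odd hK o).le))))
  have t2 : t * t = 1 := by rw [← pow_two, ← ot, pow_orderOf_eq_one]
  obtain ⟨b, hb⟩ : ∃ b : X, b ≠ t • b := by
    by_contra hc
    push Not at hc
    rw [C.faith fun b => (hc b).symm, orderOf_one] at ot
    omega
  obtain ⟨a, ha, a1, ay⟩ := C.nsr hxy
  obtain ⟨k, hk, k1, kx⟩ := C.nsr hxy.symm
  obtain ⟨d, dY, dB, tr⟩ := (h.rank_two hxy ⟨ha, ay⟩ a1 ⟨hk, kx⟩ k1).2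
  have xB := C.left_mem_B x y
  have ne : x ≠ d • x := fun e => by
    obtain ⟨i, hi⟩ := tr y (C.right_mem_B x y)
    exact hxy ((pow_mem (show d ∈ MulAction.stabilizer G x from e.symm) i :).symm.trans hi)
  obtain ⟨g, rfl, e⟩ := C.two hb ne
  have sK := hK.conj_mem t tK g
  have s2 : g * t * g⁻¹ * (g * t * g⁻¹) = 1 := by rw [conj_mul, t2, mul_one, mul_inv_cancel]
  have s1 : (g * t * g⁻¹) • g • b = d • g • b := by rw [mul_smul, inv_smul_smul, mul_smul, e]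
  generalize g * t * g⁻¹ = s at sK s2 s1
  generalize g • b = x at *
  have sB : ∀ w ∈ C.B x y, s • w ∈ C.B x y := fun w hw => by
    rw [← h.B_eq hxy xB (dB x xB) ne, ← B_smul (g := s), ← s1, smul_smul, s2, one_smul, s1,
      h.B_eq hxy (dB x xB) xB ne.symm] at hw
    exact hw
  have m := (hM (d⁻¹ * s) (by rw [mul_smul, s1, inv_smul_smul])).1 (mul_mem (inv_mem (YK dY)) sK)
  have eq : ∀ w ∈ C.B x y, s • w = d • w := fun w hw => by
    rw [← inv_smul_eq_iff, ← mul_smul]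
    by_cases c : w = x
    · exact c ▸ m.1
    obtain ⟨f, hf, e⟩ := m.2 w c
    rw [e, h.grid_uniq hxy hf hw c (by
      rw [← e, ← Fr3.B_iff h hxy dB, mul_smul, smul_inv_smul]; exact sB w hw), one_smul]
  have two : ∀ i : ℕ, d ^ i • x = x ∨ d ^ i • x = d • x := fun i => by
    induction i with
    | zero => exact .inl (by rw [pow_zero, one_smul])
    | succ i ih =>
      rw [pow_succ', mul_smul]
      rcases ih with e | e
      · exact .inr (by rw [e])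
      · exact .inl (by rw [e, ← eq _ (dB x xB), ← s1, smul_smul, s2, one_smul])
  obtain ⟨i, rfl⟩ := tr z hz
  obtain ⟨j, hj⟩ := tr y (C.right_mem_B x y)
  exact (two i).imp_right fun e => e.trans (((two j).resolve_left fun c => hxy (c.symm.trans hj)).symm.trans hj)

end H97.ONT.Cf
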