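import Cfsg.Agent.Lib.ONT.Bas

set_option autoImplicit false
set_option linter.unusedSectionVars false

namespace H97.ONT.Cf

open Subgroup

variable {G X : Type*} [Group G] [Finite G] [MulAction G X] [Finite X] {C : Cf G X}

namespace Red2

theorem surj {Q : Subgroup G} {u : G} (hu : u ∈ normalizer (Q : Set G))
    (h : ∀ c ∈ Q, c * u = u * c → c = 1) {c : G} (hc : c ∈ Q) : ∃ f ∈ Q, f * u * f⁻¹ = c * u := by
  let φ : Q → Q := fun f => ⟨f * (u * f⁻¹ * u⁻¹),
    mul_mem f.2 ((mem_normalizer_iff.1 hu _).1 (inv_mem f.2))⟩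
  have hφ : Function.Injective φ := fun a b e => by
    have e1 : (a : G) * (u * (a : G)⁻¹ * u⁻¹) = b * (u * (b : G)⁻¹ * u⁻¹) := congrArg Subtype.val e
    refine Subtype.ext (inv_mul_eq_one.1 (h _ (mul_mem (inv_mem a.2) b.2) ?_))
    calc (a : G)⁻¹ * b * u = (a : G)⁻¹ * (b * (u * (b : G)⁻¹ * u⁻¹)) * u * b := by group
      _ = _ := by rw [← e1]; group
  obtain ⟨f, hf⟩ := Finite.surjective_of_injective hφ ⟨c, hc⟩
  refine ⟨f, f.2, ?_⟩
  rw [← show (f : G) * (u * (f : G)⁻¹ * u⁻¹) = c from congrArg Subtype.val hf]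
  group

theorem fp_conj {Q : Subgroup G} {u g : G} (hg : g ∈ normalizer (Q : Set G))
    (h : ∀ c ∈ Q, c * u = u * c → c = 1) :
    ∀ c ∈ Q, c * (g * u * g⁻¹) = g * u * g⁻¹ * c → c = 1 := fun c hc e => by
  have := h _ ((mem_normalizer_iff''.1 hg c).1 hc) (by
    calc g⁻¹ * c * g * u = g⁻¹ * (c * (g * u * g⁻¹)) * g := by group
      _ = _ := by rw [e]; group)
  simpa using (conj_eq_one_iff (a := g⁻¹) (b := c)).1 (by simpa using this)

theorem inverts {Q : Subgroup G} {u : G} (hu : u ∈ normalizer (Q : Set G)) (h2 : u * u = 1)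
    (h : ∀ c ∈ Q, c * u = u * c → c = 1) {c : G} (hc : c ∈ Q) : u * c * u⁻¹ = c⁻¹ := by
  obtain ⟨f, -, e⟩ := surj hu h hc
  have : c * u * (c * u) = 1 := by
    rw [← e]
    calc _ = f * (u * u) * f⁻¹ := by group
      _ = 1 := by rw [h2]; group
  rw [inv_eq_of_mul_eq_one_right h2]
  exact eq_inv_of_mul_eq_one_right (by simpa only [mul_assoc] using this)

theorem dec_of {x y : X} (hxy : x ≠ y) {k n : G} (hk : k ∈ C.H y x) (k1 : k ≠ 1) (hn : n ∈ C.N x)
    (h : n * k * n⁻¹ * k⁻¹ ∈ C.F x) : ∃ f ∈ C.F x, ∃ a ∈ C.H x y, n = f * a := by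
  obtain ⟨f, hf, e⟩ := surj (K_norm_F hk) (fun c hc => K_fpf hxy hk k1 hc) h
  refine ⟨f, hf, f⁻¹ * n, cent_H hk k1 (mul_mem (inv_mem (C.F_le x hf)) hn) ?_, by group⟩
  calc f⁻¹ * n * k = f⁻¹ * (n * k * n⁻¹ * k⁻¹ * k) * n := by group
    _ = _ := by rw [← e]; group

end Red2

open Red2 in
theorem red2 (ev : ∀ {x y : X}, x ≠ y → Even (Nat.card (C.H x y))) (x : X)
    (h : ∀ n ∈ C.N x, (∀ f ∈ C.F x, n * f = f * n) → n ∈ C.F x) :
    ⁅C.N x, C.N x⁆ ≤ C.F x := by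
  obtain ⟨y, hxy⟩ := C.exists_ne x
  obtain ⟨⟨f0, hf0⟩, f1⟩ := ne_bot_iff_exists_ne_one.1 (show C.F x ≠ ⊥ from fun e =>
    C.not_N_le_F x fun n hn => h n hn fun f hf => by
      rw [e, mem_bot] at hf; rw [hf, mul_one, one_mul])
  have inv : ∀ k ∈ C.H y x, k * k = 1 → k ≠ 1 → ∀ c ∈ C.F x, k * c * k⁻¹ = c⁻¹ :=
    fun k hk h2 k1 c hc => inverts (K_norm_F hk) h2 (fun c hc => K_fpf hxy hk k1 hc) hc
  have uK : ∀ k ∈ C.H y x, k * k = 1 → k ≠ 1 → ∀ k' ∈ C.H y x, k' * k' = 1 → k' ≠ 1 → k = k' :=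
    fun k hk h2 k1 k' hk' h2' k1' => by
    by_contra ne
    refine f1 (Subtype.ext (K_fpf hxy (mul_mem (inv_mem hk) hk')
      (fun e => ne (inv_mul_eq_one.1 e)) hf0 ?_))
    calc f0 * (k⁻¹ * k') = k⁻¹ * (k * f0 * k⁻¹) * k * k⁻¹ * k' := by group
      _ = _ := by rw [inv k hk h2 k1 _ hf0, ← inv k' hk' h2' k1' _ hf0]; group
  obtain ⟨w, wx, wy⟩ := C.swap hxy
  have sw : ∀ a ∈ C.H x y, w * a * w⁻¹ ∈ C.H y x := fun a ha => by
    simpa only [wx, wy] using (H_cj_iff (g := w)).2 ha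
  have sq : ∀ g a : G, a * a = 1 → g * a * g⁻¹ * (g * a * g⁻¹) = 1 := fun g a e => by
    calc _ = g * (a * a) * g⁻¹ := by group
      _ = 1 := by rw [e]; group
  obtain ⟨a, ha, oa⟩ := H1.exists_mem_orderOf_eq_prime Nat.prime_two (ev hxy).two_dvd
  have a2 : a * a = 1 := by rw [← pow_two, ← oa, pow_orderOf_eq_one]
  have a1 : a ≠ 1 := fun e => by simp [e] at oa
  have uH : ∀ b ∈ C.H x y, b * b = 1 → b ≠ 1 → b = a := fun b hb b2 b1 => by
    simpa using uK _ (sw b hb) (sq w b b2) (mt conj_eq_one_iff.1 b1) _ (sw a ha) (sq w a a2)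
      (mt conj_eq_one_iff.1 a1)
  have dec : ∀ n ∈ C.N x, ∃ f ∈ C.F x, ∃ b ∈ C.H x y, n = f * b := fun n hn => by
    have hk := sw a ha
    have k2 := sq w a a2
    have k1 : w * a * w⁻¹ ≠ 1 := mt conj_eq_one_iff.1 a1
    generalize w * a * w⁻¹ = k at hk k2 k1
    refine dec_of hxy hk k1 hn (h _ (by
      simpa only [mul_assoc] using mul_mem hn (cj_fix hk.2 (inv_mem hn))) fun f hf => ?_)
    have e1 := inv k hk k2 k1 _ (F_cj_fix (C.fix (inv_mem hn)) (inv_mem hf))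
    have e2 := inv _ (inv_mem hk) (by rw [← mul_inv_rev, k2, inv_one]) (inv_ne_one.2 k1) f hf
    calc n * k * n⁻¹ * k⁻¹ * f = n * k * n⁻¹ * (k⁻¹ * f * k⁻¹⁻¹) * k⁻¹ := by group
      _ = n * (k * (n⁻¹ * f⁻¹ * n⁻¹⁻¹) * k⁻¹) * k * n⁻¹ * k⁻¹ := by rw [e2]; group
      _ = _ := by rw [e1]; group
  have cF : ∀ n ∈ C.N x, ∀ f ∈ C.F x, n * f * n⁻¹ ∈ C.F x := fun n hn f hf => F_cj_fix (C.fix hn) hf
  let M : Subgroup G :=
    { carrier := {m | m ∈ C.F x ∨ m * a ∈ C.F x}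
      one_mem' := .inl (one_mem _)
      mul_mem' := by
        rintro s t (hs | hs) (ht | ht)
        · exact .inl (mul_mem hs ht)
        · exact .inr (by simpa only [mul_assoc] using mul_mem hs ht)
        · refine .inr ?_
          convert mul_mem hs (cF _ (inv_mem ha.1) t ht) using 1
          group
        · refine .inl ?_
          convert mul_mem hs (cF _ (inv_mem ha.1) _ ht) using 1
          rw [inv_inv, mul_assoc (a⁻¹), mul_assoc t, a2]; group
      inv_mem' := by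
        rintro s (hs | hs)
        · exact .inl (inv_mem hs)
        · refine .inr ?_
          convert cF _ ha.1 _ (inv_mem hs) using 1
          rw [mul_inv_rev, mul_inv_cancel_left, inv_eq_of_mul_eq_one_right a2] }
  rcases C.F_max x M (by
    rintro m (hm | hm)
    · exact C.F_le x hm
    · exact ((C.N x).mul_mem_cancel_right ha.1).1 (C.F_le x hm)) (by
    rintro g hg m (hm | hm)
    · exact .inl (F_cj_fix hg hm)
    obtain ⟨f, hf, b, hb, e⟩ := dec _ (cj_fix hg ha.1)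
    have b2 : b * b = 1 := eq_one_of_F_H hxy (by
      have := sq g a a2
      rw [e, show f * b * (f * b) = f * (b * f * b⁻¹) * (b * b) by group] at this
      rw [eq_inv_of_mul_eq_one_right this]
      exact (C.F x).inv_mem (mul_mem hf (cF b hb.1 f hf))) (mul_mem hb hb)
    have b1 : b ≠ 1 := fun b1 => a1 (eq_one_of_F_H hxy (by
      rw [b1, mul_one] at e
      have := F_cj_fix (g := g⁻¹) (by rw [inv_smul_eq_iff, hg]) hf
      simpa [← e, mul_assoc] using this) ha)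
    rw [uH b hb b2 b1] at e
    refine .inr ?_
    convert mul_mem (F_cj_fix hg hm) (cF _ ha.1 _ (inv_mem hf)) using 1
    calc g * m * g⁻¹ * a = g * (m * a) * g⁻¹ * (g * a * g⁻¹)⁻¹ * a := by group
      _ = _ := by rw [e, mul_inv_rev, inv_eq_of_mul_eq_one_right a2]; group) with e | e
  · refine commutator_le.2 fun s hs t ht => ?_
    rw [commutatorElement_def]
    rcases (e.ge hs : s ∈ M) with h1 | h1
    · simpa only [mul_assoc] using mul_mem h1 (cF t ht _ (inv_mem h1))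
    rcases (e.ge ht : t ∈ M) with h2 | h2
    · exact mul_mem (cF s hs t h2) (inv_mem h2)
    have := mul_mem h1 (inv_mem h2)
    convert mul_mem this (cF t ht _ (inv_mem this)) using 1
    group
  · exact absurd (eq_one_of_F_H hxy (e (.inr (a2 ▸ one_mem _))) ha) a1

end H97.ONT.Cf
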