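import Cfsg.Agent.Lib.ONT.Ri1
import Cfsg.Agent.Lib.LocStruct.SylowIn

set_option autoImplicit false

namespace H97.ONT.Cf

open Subgroup H69

variable {G X : Type*} [Group G] [Finite G] [MulAction G X] [Finite X] {C : Cf G X}

theorem Ss.even_idx (h : C.Ss) {x y : X} (hxy : x ≠ y) :
    Even ((C.H x y).relIndex (C.N x)) := by
  by_contra ho
  have idx : ∀ {u}, x ≠ u → ¬ 2 ∣ (C.H x u).relIndex (C.N x) := fun {u} hu => by
    have e1 := H1.card_mul_relIndex_of_le (H := C.H x u) (K := C.N x) inf_le_left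
    have e2 := H1.card_mul_relIndex_of_le (H := C.H x y) (K := C.N x) inf_le_left
    rw [card_H hu hxy, ← e2] at e1
    rw [Nat.eq_of_mul_eq_mul_left Nat.card_pos e1]
    exact mt even_iff_two_dvd.2 ho
  obtain ⟨T, hT⟩ := exists_isSylowIn 2 (C.H x y)
  have hTN := hT.trans_of_not_dvd inf_le_left (idx hxy)
  obtain ⟨w, wx, wy⟩ := C.swap hxy
  let A : Set G := {k | k ∈ C.H y x ∧ k ≠ 1 ∧ ∃ m, k ^ 2 ^ m = 1}
  have mA : ∀ s ∈ T, s ≠ 1 → w * s * w⁻¹ ∈ A := fun s hs s1 => by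
    obtain ⟨m, hm⟩ := hT.isP ⟨s, hs⟩
    exact ⟨by simpa only [wx, wy] using (H_cj_iff (g := w)).2 (hT.le hs), mt conj_eq_one_iff.1 s1,
      m, by rw [conj_pow, show s ^ 2 ^ m = 1 from congrArg Subtype.val hm]; group⟩
  obtain ⟨⟨s0, hs0⟩, s1⟩ := ne_bot_iff_exists_ne_one.1 (hT.dvd_card_iff.1 (h.ev hxy).two_dvd)
  obtain ⟨k, ⟨hk, k1, m, hm⟩, mx⟩ := Set.exists_max_image A (fun k => Set.ncard {u : X | k • u = u})
    (Set.toFinite _) ⟨_, mA s0 hs0 fun e => s1 (Subtype.ext e)⟩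
  obtain ⟨s, hs, e⟩ := h.inner hxy hT.le hT.isP
    (Nat.not_even_iff_odd.1 (mt Even.two_dvd hTN.not_dvd_relIndex)) hk hm
  have sN : s ∈ C.N x := (hT.le hs).1
  have s1 : s ≠ 1 := fun s1 => k1 (K_faith hxy hk fun n hn => by
    have := e n hn
    rw [s1, one_mul, inv_one, mul_one, mul_inv_eq_iff_eq_mul] at this
    exact this.symm)
  have ps : IsPGroup 2 (zpowers s) := hT.isP.to_le (zpowers_le.2 hs)
  have sub : {u : X | k • u = u} ⊆ {u : X | s • u = u} := fun u hu => by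
    by_cases ux : x = u
    · exact ux ▸ C.fix sN
    have nn : zpowers s ⊔ C.H x u ≤ 𝐍(C.H x u) := sup_le (zpowers_le.2 (mem_normalizer_fintype
      fun n hn => e n hn.1 ▸ H_cj_fix hk.2 hu hn)) le_normalizer
    obtain ⟨R, hR, l⟩ := exists_isSylowIn_le ps (le_sup_left : _ ≤ zpowers s ⊔ C.H x u)
    have h1 := (hR.inf_normal le_sup_right nn).trans_of_not_dvd inf_le_left (idx ux)
    have h2 : R ≤ R ⊓ C.H x u := eq_of_le_of_card_ge inf_le_left (h1.card_le hR.isP
      (hR.le.trans (sup_le (zpowers_le.2 sN) inf_le_left))) |>.ge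
    exact (h2 (l (mem_zpowers s))).2.2
  have c : Set.ncard {u : X | s • u = u} = Set.ncard {u : X | (w * s * w⁻¹) • u = u} := by
    rw [← Set.ncard_image_of_injective _ (MulAction.injective w)]
    congr 1
    ext u
    obtain ⟨u, rfl⟩ := MulAction.surjective w u
    rw [(MulAction.injective w).mem_set_image]
    exact cj_smul_iff.symm
  have eq := Set.eq_of_subset_of_ncard_le sub (c ▸ mx _ (mA s hs s1))
  have : s⁻¹ * k = 1 := C.faith fun z => by
    by_cases ux : x = z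
    · rw [← ux, mul_smul, hk.2, C.fix (inv_mem sN)]
    obtain ⟨T', hT'⟩ := exists_isSylowIn 2 (C.H x z)
    obtain ⟨g, hg, l⟩ := (hT'.trans_of_not_dvd inf_le_left (idx ux)).exists_le_cj ps
      (zpowers_le.2 sN)
    have h1 : s • g • z = g • z := by
      have : (g⁻¹ * s * g) • z = z := (hT'.le (mem_cj.1 (l (mem_zpowers s)))).2
      rwa [mul_smul, mul_smul, inv_smul_eq_iff] at this
    have h2 : k • g • z = g • z := (eq.ge h1 :)
    have h3 : s⁻¹ * k * g = g * (s⁻¹ * k) := by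
      calc _ = s⁻¹ * (k * g * k⁻¹) * k := by group
        _ = _ := by rw [e g hg]; group
    rw [← smul_left_cancel_iff g, ← mul_smul, ← h3, mul_smul, mul_smul, h2, inv_smul_eq_iff, h1]
  rw [inv_mul_eq_one] at this
  exact s1 (C.ti hxy sN (this ▸ hk.1))

end H97.ONT.Cf
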