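import Cfsg.Agent.Lib.ONT.Bas
import Cfsg.Agent.Lib.LocStruct.SylowIn

set_option autoImplicit false

namespace H97.ONT.Cf

open Subgroup H69

variable {G X : Type*} [Group G] [Finite G] [MulAction G X] [Finite X] {C : Cf G X}

theorem Ss.exists_tw (h : C.Ss) {x y : X} (hxy : x ≠ y)
    (he : Even ((C.H x y).relIndex (C.N x))) : ∃ W : Tw G, W.Of C x y := by
  obtain ⟨T, hT⟩ := exists_isSylowIn 2 (C.H x y)
  obtain ⟨w, wx, wy⟩ := C.swap hxy
  have hU : IsSylowIn 2 (T ^ᶜ w) (C.H y x) := by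
    have := hT.cj w
    rwa [show C.H x y ^ᶜ w = C.H y x by simpa only [wx, wy] using C.H_map w x y] at this
  have hT' : IsSylowIn 2 ((T ^ᶜ w) ^ᶜ w) (C.H x y) := by
    have := hU.cj w
    rwa [show C.H y x ^ᶜ w = C.H x y by simpa only [wx, wy] using C.H_map w y x] at this
  obtain ⟨b, hb, e⟩ := hT'.conj hT
  generalize hUd : T ^ᶜ w = U at hU e
  have cm : ∀ t ∈ T, ∀ k ∈ U, t * k = k * t := fun t ht k hk => H_comm hxy (hT.le ht) (hU.le hk)
  have nN : C.N x ⊔ U ≤ 𝐍(C.N x) := sup_le le_normalizer fun k hk => mem_norm_N (hU.le hk).2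
  obtain ⟨P, hP, hle⟩ := exists_isSylowIn_le (p := 2) (R := T ⊔ U) (L := C.N x ⊔ U)
    (isPGroup_sup_of_le_normalizer_right hT.isP hU.isP
      (le_normalizer_of_le_centralizer fun t ht k hk => (cm t ht k hk).symm))
    (sup_le_sup_right (hT.le.trans inf_le_left) _)
  have hS := hP.inf_normal le_sup_left nN
  have TS : T ≤ P ⊓ C.N x := le_inf (le_sup_left.trans hle) (hT.le.trans inf_le_left)
  have odd : ∀ {n : ℕ}, ¬ 2 ∣ n → Odd n := fun hn => Nat.not_even_iff_odd.1 (mt Even.two_dvd hn)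
  have zF : ∀ z ∈ C.N x, (∀ n ∈ C.N x, z * n = n * z) → z ∈ C.F x := fun z hz hc =>
    h.mem_F_of_comm hz fun n hn => by rw [hc n hn]; simp
  refine ⟨⟨C.N x, P ⊓ C.N x, T, U, b * w, inf_le_right, TS, hS.isP, hU.isP, odd hS.not_dvd_relIndex,
    fun t ht => ?_, fun k hk => ?_, fun k hk n hn => cj_fix (hU.le hk).2 hn,
    fun k hk s hs => ⟨?_, cj_fix (hU.le hk).2 hs.2⟩, cm, fun k hk hn => C.ti hxy hn (hU.le hk).1,
    fun k hk k1 k' hk' n hn hc => H_comm hxy (cent_H (hU.le hk) k1 hn hc) (hU.le hk'),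
    fun k hk k1 => ?_, fun g n hn n1 hg m hm => cj_fix (fix_of_cj hn n1 hg) hm,
    hT.dvd_card_iff.1 (h.ev hxy).two_dvd, fun e' => ?_, h.perf x, fun M hM hi => ?_,
    fun k hk k1 z hz hc => K_fpf hxy (hU.le hk) k1 (zF z hz hc), fun z hz hc h2 => ?_⟩,
    hxy, rfl, hT.le, hU.le, odd hT.not_dvd_relIndex⟩
  · have h1 : w * t * w⁻¹ ∈ U := hUd ▸ cj_mem w ht
    convert h1 using 1
    rw [← mul_inv_cancel_right (w * t * w⁻¹) b, ← H_comm hxy hb (hU.le h1)]; group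
  · convert e ▸ cj_mem b (cj_mem w hk) using 1
    group
  · have := hle (mem_sup_right hk)
    exact P.mul_mem (P.mul_mem this hs.1) (P.inv_mem this)
  · rw [inf_cent hxy (hU.le hk) k1]
    exact odd hT.not_dvd_relIndex
  · exact (e' ▸ hS).not_dvd_relIndex_of_le hT.le inf_le_left he.two_dvd
  · exact (C.F_max x M hM fun g hg => hi g fun n hn => cj_fix hg hn).imp_right
      fun l m hm n hn => h.cz x m (l hm) n hn
  · exact orderOf_eq_one_iff.1 (Nat.eq_one_of_dvd_coprimes (Nat.coprime_two_left.2 (h.odd_F x))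
      (orderOf_dvd_of_pow_eq_one ((pow_two z).trans h2)) (H1.orderOf_dvd_card_of_mem (zF z hz hc)))

end H97.ONT.Cf
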