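import Cfsg.Agent.Lib.ONT.Bas
import Cfsg.Agent.Lib.ONT.Sw
import Cfsg.Agent.Lib.ONT.Red2

set_option autoImplicit false
set_option linter.unusedSectionVars false

namespace H97.ONT.Cf

open Subgroup

variable {G X : Type*} [Group G] [Finite G] [MulAction G X] [Finite X] {C : Cf G X}

namespace Red1
open Red2

theorem fixcoset {p : ℕ} [Fact p.Prime] {Z N A : Subgroup G} (hA : IsPGroup p A)
    (hn : A ≤ normalizer (Z : Set G)) (hN : A ≤ normalizer (N : Set G)) (hZ : Z ≤ N)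
    (hd : p ∣ Z.relIndex N) : ∃ s ∈ N, s ∉ Z ∧ ∀ a ∈ A, s⁻¹ * a * s * a⁻¹ ∈ Z := by
  let B := A.map (MulAut.conj : G →* MulAut G)
  have hB : IsPGroup p B := hA.map _
  have : MulAction.QuotientAction B Z := ⟨by
    rintro ⟨_, a, ha, rfl⟩ x y h
    have := (mem_normalizer_iff.1 (hn ha) _).1 h
    show (a * x * a⁻¹)⁻¹ * (a * y * a⁻¹) ∈ Z
    convert this using 1
    group⟩
  let T : SubMulAction B (G ⧸ Z) := ⟨(QuotientGroup.mk : G → G ⧸ Z) '' N, by
    rintro ⟨_, a, ha, rfl⟩ _ ⟨s, hs, rfl⟩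
    exact ⟨_, (mem_normalizer_iff.1 (hN ha) s).1 hs, rfl⟩⟩
  have e : QuotientGroup.mk ⁻¹' ((QuotientGroup.mk : G → G ⧸ Z) '' N) = N := by
    refine Set.Subset.antisymm ?_ (Set.subset_preimage_image _ _)
    rintro x ⟨s, hs, e⟩
    simpa using mul_mem hs (hZ (QuotientGroup.eq.1 e))
  have c : Nat.card T = Z.relIndex N := by
    have := QuotientGroup.card_preimage_mk Z ((QuotientGroup.mk : G → G ⧸ Z) '' N)
    rw [e] at this
    exact Nat.eq_of_mul_eq_mul_left Nat.card_pos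
      (this.symm.trans (H1.card_mul_relIndex_of_le hZ).symm)
  obtain ⟨⟨_, s, hs, rfl⟩, hf, ne⟩ := hB.exists_fixed_point_of_prime_dvd_card_of_fixed_point T
    (c ▸ hd) (a := ⟨_, 1, one_mem _, rfl⟩) (by
      rintro ⟨_, a, ha, rfl⟩
      refine Subtype.ext (QuotientGroup.eq.2 ?_)
      show (a * 1 * a⁻¹)⁻¹ * 1 ∈ Z
      simp)
  refine ⟨s, hs, fun h => ne (Subtype.ext (QuotientGroup.eq.2 (by simpa using h))), fun a ha => ?_⟩
  have : s⁻¹ * (a * s * a⁻¹) ∈ Z :=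
    QuotientGroup.eq.1 (congrArg Subtype.val (hf ⟨_, a, ha, rfl⟩)).symm
  simpa only [mul_assoc] using this

variable (h : ∀ x : X, ⁅C.N x, C.N x⁆ ≤ C.F x)
include h

theorem cm {x : X} {a b : G} (ha : a ∈ C.N x) (hb : b ∈ C.N x) : a * b * a⁻¹ * b⁻¹ ∈ C.F x :=
  h x (commutator_mem_commutator ha hb)

theorem pow_F {x y : X} (hxy : x ≠ y) {p : ℕ} (hp : p.Prime) (hd : p ∣ Nat.card (C.H x y)) :
    ∀ n ∈ C.N x, n ^ p ∈ C.F x := by
  obtain ⟨a, ha, oa⟩ := H1.exists_mem_orderOf_eq_prime hp hd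
  have key : ∀ s ∈ C.N x, ∀ t ∈ C.N x, ∀ i : ℕ, (s * t) ^ i * (s ^ i * t ^ i)⁻¹ ∈ C.F x :=
    fun s hs t ht i => by
    induction i with
    | zero => simp
    | succ i ih =>
      convert mul_mem ih (F_cj_fix (C.fix (pow_mem hs i)) (cm h (pow_mem ht i) hs)) using 1
      rw [pow_succ, pow_succ, pow_succ]; group
  let M : Subgroup G :=
    { carrier := {n | n ∈ C.N x ∧ n ^ p ∈ C.F x}
      one_mem' := ⟨one_mem _, by simp⟩
      mul_mem' := fun {s t} hs ht => ⟨mul_mem hs.1 ht.1, by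
        simpa only [inv_mul_cancel_right] using
          mul_mem (key s hs.1 t ht.1 p) (mul_mem hs.2 ht.2)⟩
      inv_mem' := fun {s} hs => ⟨inv_mem hs.1, by rw [inv_pow]; exact inv_mem hs.2⟩ }
  rcases C.F_max x M (fun _ hm => hm.1) (fun g hg m hm =>
    ⟨cj_fix hg hm.1, by rw [conj_pow]; exact F_cj_fix hg hm.2⟩) with e | e
  · exact fun n hn => (e.ge hn : n ∈ M).2
  · have := eq_one_of_F_H hxy (e ⟨ha.1, by rw [← oa, pow_orderOf_eq_one]; exact one_mem _⟩) ha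
    rw [this, orderOf_one] at oa
    exact absurd oa hp.one_lt.ne

theorem F_ne (x : X) : C.F x ≠ ⊥ := fun e => by
  obtain ⟨a, ha, b, hb, hab⟩ := C.nab x
  have := cm h ha hb
  rw [e, mem_bot, mul_inv_eq_one, mul_inv_eq_iff_eq_mul] at this
  exact hab this

theorem card_eq {x y : X} (hxy : x ≠ y) {p : ℕ} (hp : p.Prime) (hd : p ∣ Nat.card (C.H y x)) :
    Nat.card (C.H y x) = p := by
  have hc : IsMulCommutative (C.H y x) := ⟨⟨fun a b => Subtype.ext (by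
    have := eq_one_of_F_H hxy.symm (cm h a.2.1 b.2.1)
      (mul_mem (mul_mem (mul_mem a.2 b.2) (inv_mem a.2)) (inv_mem b.2))
    rwa [mul_inv_eq_one, mul_inv_eq_iff_eq_mul] at this)⟩⟩
  have hy : IsCyclic (C.H y x) := by
    by_contra hn
    obtain ⟨a, ha, a1, e⟩ := H2.exists_inf_centralizer_ne_bot hc hn K_norm_F
      (card_H (C := C) hxy hxy.symm ▸ cop hxy) (F_ne h x)
    exact e (K_sr hxy a ha a1)
  obtain ⟨g, hg⟩ := hy.exists_generator
  refine Nat.dvd_antisymm ?_ hd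
  rw [← orderOf_eq_card_of_forall_mem_zpowers hg]
  exact orderOf_dvd_of_pow_eq_one (Subtype.ext
    (eq_one_of_F_H hxy.symm (pow_F h hxy.symm hp hd _ g.2.1) (pow_mem g.2 p)))

theorem cent_le {x y : X} (hxy : x ≠ y) {p : ℕ} (hp : p.Prime) (hd : p ∣ Nat.card (C.H x y)) :
    C.N x ⊓ centralizer (C.F x : Set G) ≤ C.F x := by
  refine (C.F_max x _ inf_le_left fun g hg m hm => ⟨cj_fix hg hm.1, fun n hn => by
    have := hm.2 _ (F_cj_fix (g := g⁻¹) (by rw [inv_smul_eq_iff, hg]) hn)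
    calc n * (g * m * g⁻¹) = g * (g⁻¹ * n * g⁻¹⁻¹ * m) * g⁻¹ := by group
      _ = g * m * g⁻¹ * n := by rw [this]; group⟩).resolve_left fun e => ?_
  obtain ⟨a, ha, b, hb, hab⟩ := C.nab x
  have hc := cm h ha hb
  have c1 := (e.ge ha).2 _ hc
  have c2 := (e.ge hb).2 _ (pow_F h hxy hp hd a ha)
  generalize e1 : a * b * a⁻¹ * b⁻¹ = c at hc c1
  have key : ∀ i : ℕ, a ^ i * b = c ^ i * b * a ^ i := fun i => by
    induction i with
    | zero => simp
    | succ i ih =>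
      calc a ^ (i + 1) * b = a * (c ^ i * b * a ^ i) := by rw [← ih, pow_succ']; group
        _ = c ^ i * (a * b * a⁻¹ * b⁻¹) * b * a ^ (i + 1) := by
          rw [← mul_assoc, ← mul_assoc, ((show Commute c a from c1).pow_left i).symm.eq, pow_succ']
          group
        _ = _ := by rw [e1, ← pow_succ]
  have c3 : c ^ p = 1 := by
    have := key p
    rwa [c2, mul_assoc, right_eq_mul] at this
  have c4 : orderOf c = 1 := Nat.eq_one_of_dvd_coprimes ((cop hxy).coprime_dvd_left hd)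
    (orderOf_dvd_of_pow_eq_one c3) (H1.orderOf_dvd_card_of_mem hc)
  rw [orderOf_eq_one_iff, ← e1, mul_inv_eq_one, mul_inv_eq_iff_eq_mul] at c4
  exact hab c4

theorem dec {x y : X} (hxy : x ≠ y) {p : ℕ} (hp : p.Prime) (hd : p ∣ Nat.card (C.H x y)) :
    C.N x ≤ C.F x ⊔ C.H x y := by
  have : Fact p.Prime := ⟨hp⟩
  by_contra hn
  have hd' := card_H (C := C) hxy hxy.symm ▸ hd
  obtain ⟨k, hk, ok⟩ := H1.exists_mem_orderOf_eq_prime hp hd'
  have pk : k ^ p = 1 := ok ▸ pow_orderOf_eq_one k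
  have k1 : k ≠ 1 := fun e => hp.one_lt.ne (by rw [← ok, e, orderOf_one])
  have hW : C.F x ⊔ C.H x y ≤ C.N x := sup_le (C.F_le x) inf_le_left
  have mW : ∀ {w}, w ∈ C.F x ⊔ C.H x y → ∃ f ∈ C.F x, ∃ a ∈ C.H x y, f * a = w := fun hw => by
    rwa [← SetLike.mem_coe, coe_mul_of_right_le_normalizer_left _ (C.H x y)
      (fun a ha => mem_norm_F (C.fix ha.1))] at hw
  have nrm : ((C.F x ⊔ C.H x y).subgroupOf (C.N x)).Normal := ⟨fun w hw n => by
    rw [mem_subgroupOf] at hw ⊢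
    simpa using mul_mem (mem_sup_left (cm h n.2 w.2)) hw⟩
  have hQ : IsPGroup p (C.N x ⧸ (C.F x ⊔ C.H x y).subgroupOf (C.N x)) := fun t => by
    obtain ⟨n, rfl⟩ := QuotientGroup.mk_surjective t
    exact ⟨1, by
      rw [pow_one, ← QuotientGroup.mk_pow, QuotientGroup.eq_one_iff, mem_subgroupOf]
      exact mem_sup_left (pow_F h hxy hp hd n n.2)⟩
  obtain ⟨s, hs, sW, hf⟩ := fixcoset (A := zpowers k) (IsPGroup.of_card (n := 1)
    (by rw [Nat.card_zpowers, ok, pow_one])) (zpowers_le.2 (Sw.norm_of fun w hw => by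
      obtain ⟨f, hf, a, ha, rfl⟩ := mW hw
      convert mul_mem (mem_sup_left (F_cj_fix hk.2 hf)) (mem_sup_right ha) using 1
      rw [← mul_assoc, mul_assoc _ a, H_comm hxy ha (inv_mem hk)]; group))
    (zpowers_le.2 (mem_norm_N hk.2)) hW
    (hQ.card_eq_or_dvd.resolve_left fun e => hn (relIndex_eq_one.1 e))
  obtain ⟨f, hf, a, ha, e⟩ := mW (hf k (mem_zpowers k))
  have a1 : a ≠ 1 := fun a1 => by
    obtain ⟨f', hf', b, hb, e'⟩ := dec_of hxy hk k1 (inv_mem hs) (by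
      rw [inv_inv, ← e, a1, mul_one]; exact hf)
    exact sW ((inv_mem_iff (x := s)).1 (e' ▸ mul_mem_sup hf' hb))
  have pa : a ^ p = 1 := eq_one_of_F_H hxy (pow_F h hxy hp hd a ha.1) (pow_mem ha p)
  have k2 : ∀ i : ℕ, ∃ c ∈ C.F x, s⁻¹ ^ i * k * (s⁻¹ ^ i)⁻¹ = c * (a ^ i * k) := fun i => by
    induction i with
    | zero => exact ⟨1, one_mem _, by simp⟩
    | succ i ih =>
      obtain ⟨c, hc, ih⟩ := ih
      refine ⟨_, mul_mem (mul_mem (F_cj_fix (C.fix (inv_mem hs)) hc)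
        (cm h (inv_mem hs) (pow_mem ha.1 i))) (F_cj_fix (C.fix (pow_mem ha.1 i)) hf), ?_⟩
      calc _ = s⁻¹ * (s⁻¹ ^ i * k * (s⁻¹ ^ i)⁻¹) * s := by rw [pow_succ']; group
        _ = s⁻¹ * c * a ^ i * s * (s⁻¹ * k * s * k⁻¹) * k := by rw [ih]; group
        _ = _ := by rw [← e, pow_succ]; group
  have k3 : ∀ i : ℕ, ∀ c ∈ C.F x, c * (a ^ i * k) = a ^ i * k * c → c = 1 := fun i => by
    obtain ⟨c, hc, e1⟩ := k2 i
    have n1 := mem_norm_F (C := C) (C.fix (pow_mem (inv_mem hs) i))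
    have f1 := fp_conj n1 fun c hc => K_fpf hxy hk k1 hc
    obtain ⟨d, hd, e2⟩ := surj (mul_mem (mul_mem n1 (K_norm_F hk)) (inv_mem n1)) f1 (inv_mem hc)
    have := fp_conj (le_normalizer hd) f1
    rwa [e2, e1, inv_mul_cancel_left] at this
  have ak := H_comm hxy ha hk
  have := H2.le_of_forall_centralizer_le (M := centralizer {a}) (Sw.isComm_E ak)
    (Sw.not_cyc hp pa pk ak k1 fun e => a1 (C.ti hxy ha.1 (zpowers_le.2 hk.1 e)))
    (sup_le (zpowers_le.2 (mem_norm_F (C.fix ha.1))) (zpowers_le.2 (K_norm_F hk)))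
    (Sw.cop hp (Sw.isP_E pa pk ak) ((Nat.Prime.coprime_iff_not_dvd hp).1
      ((cop hxy).coprime_dvd_left hd))) fun u hu u1 c hc => by
      have cu : Commute c u := mem_centralizer_singleton_iff.1 hc.2
      obtain ⟨i, j, rfl⟩ := (Sw.mem_E ak).1 hu
      by_cases e1 : k ^ j = 1
      · rw [e1, mul_one] at u1 cu
        obtain ⟨l, hl⟩ := Sw.root hp pa u1
        rw [← hl]
        exact mem_centralizer_singleton_iff.2 (cu.zpow_right l)
      · obtain ⟨l, hl⟩ := Sw.root hp pk e1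
        obtain ⟨m, hm⟩ := mem_powers_iff_mem_zpowers.2 (zpow_mem (zpow_mem_zpowers a i) l)
        have := cu.zpow_right l
        rw [((show Commute a k from ak).zpow_zpow i j).mul_zpow, show (k ^ j) ^ l = k from hl,
          ← show a ^ m = (a ^ i) ^ l from hm] at this
        rw [k3 m c hc.1 this]
        exact one_mem _
  exact a1 (eq_one_of_F_H hxy (cent_le h hxy hp hd ⟨ha.1, fun c hc =>
    mem_centralizer_singleton_iff.1 (this hc)⟩) ha)

end Red1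

theorem red1 (h : ∀ x : X, ⁅C.N x, C.N x⁆ ≤ C.F x) : ∃ p, C.Fr p := by
  obtain ⟨x0, y0, h0⟩ := C.nt
  obtain ⟨p, hp, hd⟩ := Nat.exists_prime_and_dvd (mt card_eq_one.1 (H_ne_bot (C := C) h0))
  refine ⟨p, hp, fun hxy => Red1.card_eq h hxy.symm hp (card_H (C := C) h0 hxy ▸ hd),
    fun {x y} hxy n hn => ?_⟩
  have := Red1.dec h hxy hp (card_H (C := C) h0 hxy ▸ hd) hn
  rw [← SetLike.mem_coe, coe_mul_of_right_le_normalizer_left _ (C.H x y)
    (fun a ha => mem_norm_F (C.fix ha.1))] at this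
  obtain ⟨f, hf, a, ha, e⟩ := this
  exact ⟨f, hf, a, ha, e.symm⟩

end H97.ONT.Cf
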