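import Cfsg.Agent.Lib.ONT.Bas
import Cfsg.Agent.Lib.Core.CoprimeNorm
import Cfsg.Agent.S0227
import Cfsg.Agent.S4593

set_option autoImplicit false
set_option linter.style.haveILetI false

namespace H97.ONT

open Subgroup

/-- a `p`-element that normalises a Sylow subgroup lies in it -/
theorem mem_sylow_of_norm {Y : Type*} [Group Y] [Finite Y] {p : ℕ} [Fact p.Prime] (P : Sylow p Y)
    {x : Y} (hx : ∀ u ∈ P, x * u * x⁻¹ ∈ P) {k : ℕ} (hk : x ^ p ^ k = 1) : x ∈ P := by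
  have hn : zpowers x ≤ normalizer ((P : Subgroup Y) : Set Y) :=
    zpowers_le.2 (mem_normalizer_fintype (S := ((P : Subgroup Y) : Set Y)) hx)
  have hz : IsPGroup p (zpowers x) := by
    rintro ⟨_, i, rfl⟩
    refine ⟨k, Subtype.ext ?_⟩
    change (x ^ i) ^ p ^ k = 1
    rw [← zpow_natCast, ← zpow_mul, mul_comm, zpow_mul, zpow_natCast, hk, one_zpow]
  have h3 := P.is_maximal' (hz.to_sup_of_normal_right' P.isPGroup' hn) le_sup_right
  have h4 : x ∈ zpowers x ⊔ (P : Subgroup Y) := mem_sup_left (mem_zpowers x)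
  rw [h3] at h4
  exact h4

namespace Cf

variable {G X : Type*} [Group G] [Finite G] [MulAction G X] [Finite X] {C : Cf G X}

/-- If a `2`-subgroup `T` of `H x y` is Sylow in `N x`, the `2`-elements of `H y x` induce inner
automorphisms from `T`. -/
theorem Ss.inner (h : C.Ss) {x y : X} (hxy : x ≠ y) {T : Subgroup G} (hT : T ≤ C.H x y)
    (pT : IsPGroup 2 T) (ho : Odd (T.relIndex (C.N x))) {k : G} (hk : k ∈ C.H y x) {m : ℕ}
    (hm : k ^ 2 ^ m = 1) : ∃ s ∈ T, ∀ n ∈ C.N x, k * n * k⁻¹ = s * n * s⁻¹ := by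
  have nN : MulAction.stabilizer G x ≤ normalizer (C.N x : Set G) := fun _ hg => mem_norm_N hg
  have nF : MulAction.stabilizer G x ≤ normalizer (C.F x : Set G) := fun _ hg => mem_norm_F hg
  haveI : ((C.F x).subgroupOf (C.N x)).Normal :=
    (normal_subgroupOf_iff_le_normalizer (C.F_le x)).2 fun n hn => nF (C.fix hn)
  let π := QuotientGroup.mk' ((C.F x).subgroupOf (C.N x))
  have hπ : Function.Surjective π := QuotientGroup.mk'_surjective _
  let ρ := H2.sectionAut nN nF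
  have hρ : ∀ (a : MulAction.stabilizer G x) (n n' : C.N x), (n' : G) = a * n * (a : G)⁻¹ →
      ρ a (π n) = π n' := fun a n n' e => congrArg π (Subtype.ext e.symm)
  have heq : ∀ n n' : C.N x, π n = π n' → (n : G) * (n' : G)⁻¹ ∈ C.F x := fun n n' e =>
    (QuotientGroup.eq_one_iff (n * n'⁻¹)).1 (show π (n * n'⁻¹) = 1 by
      rw [map_mul, map_inv, e, mul_inv_cancel])
  have hcore : Cfsg.pPrimeCore 2 (C.N x ⧸ (C.F x).subgroupOf (C.N x)) = ⊥ := by
    rw [← H1.map_mk'_pPrimeCore (Nat.coprime_two_right.2 (by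
      rw [Nat.card_congr (subgroupOfEquivOfLe (C.F_le x)).toEquiv]; exact h.odd_F x)),
      Subgroup.map_eq_bot_iff, QuotientGroup.ker_mk']
    refine fun z hz => h.le_F_of_odd (map_subtype_le (Cfsg.pPrimeCore 2 (C.N x))) ?_
      (Nat.coprime_two_right.1 (H1.coprime_card_map_subtype_pPrimeCore (p := 2) (C.N x)))
      ⟨z, hz, rfl⟩
    rintro n hn _ ⟨u, hu, rfl⟩
    exact ⟨_, (inferInstance : (Cfsg.pPrimeCore 2 (C.N x)).Normal).conj_mem u hu ⟨n, hn⟩, rfl⟩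
  have hZ : center (C.N x ⧸ (C.F x).subgroupOf (C.N x)) = ⊥ := eq_bot_iff.2 fun z hz => by
    obtain ⟨z, rfl⟩ := hπ z
    refine (QuotientGroup.eq_one_iff z).2 (h.mem_F_of_comm z.2 fun n hn => ?_)
    exact heq (z * ⟨n, hn⟩ * z⁻¹) ⟨n, hn⟩ (by
      rw [map_mul, map_mul, ← mem_center_iff.1 hz, map_inv, mul_inv_cancel_right])
  have TN : T ≤ C.N x := hT.trans inf_le_left
  let P : Sylow 2 (C.N x ⧸ (C.F x).subgroupOf (C.N x)) :=
    ((pT.comap_of_injective _ (C.N x).subtype_injective).map π).toSylow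
      fun e => ho.not_two_dvd_nat (e.trans (index_map_dvd _ hπ))
  have hP : ∀ z, z ∈ P ↔ ∃ t : C.N x, (t : G) ∈ T ∧ π t = z := fun z => Iff.rfl
  have fixP : ∀ (a : G) (ha : a ∈ C.H y x), ∀ z ∈ P, ρ ⟨a, ha.2⟩ z = z := fun a ha z hz => by
    obtain ⟨t, ht, rfl⟩ := (hP z).1 hz
    exact hρ _ _ _ (by rw [← H_comm hxy (hT ht) ha, mul_inv_cancel_right])
  have triv : ∀ a : MulAction.stabilizer G x, ρ a = 1 → ∀ n ∈ C.N x, (a : G) * n = n * a :=
    fun a e => h.cent_of_mod fun n hn => heq ⟨_, cj_fix a.2 hn⟩ ⟨n, hn⟩ (by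
      rw [← hρ a ⟨n, hn⟩ _ rfl, e, MulAut.one_apply])
  have Tc : ∀ a ∈ T, ∀ b ∈ T, a * b = b * a := by
    obtain ⟨w, w1, w2⟩ := C.swap hxy
    have hw : ∀ a ∈ T, w * a * w⁻¹ ∈ C.H y x := fun a ha => by
      simpa only [w1, w2] using (H_cj_iff (g := w)).2 (hT ha)
    let C0 : Subgroup (MulAut (C.N x ⧸ (C.F x).subgroupOf (C.N x))) :=
      { carrier := {φ | ∀ s, s ∈ P → φ s = s}
        one_mem' := fun _ _ => rfl
        mul_mem' := fun ha hb s hs => by rw [MulAut.mul_apply, hb s hs, ha s hs]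
        inv_mem' := fun {φ} ha s hs => by
          rw [MulAut.inv_apply, MulEquiv.symm_apply_eq, ha s hs] }
    let f : T →* C0 :=
      { toFun := fun a => ⟨ρ ⟨_, (hw a a.2).2⟩, fixP _ (hw a a.2)⟩
        map_one' := Subtype.ext ((congrArg ρ (Subtype.ext (by simp))).trans (map_one ρ))
        map_mul' := fun a b =>
          Subtype.ext ((congrArg ρ (Subtype.ext (by simp [mul_assoc]))).trans (map_mul ρ _ _)) }
    obtain ⟨R, hR⟩ := (pT.of_surjective _ f.rangeRestrict_surjective).exists_le_sylow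
    have hc := ((Cfsg.Agent.S0227.result (fun M hM ho => H1.pPrimeCore_eq_bot_iff.1 hcore M hM
      (Nat.coprime_two_right.2 ho)) P C0 fun _ => Iff.rfl).1 R).1
    intro a ha b hb
    have h1 : f (⟨a, ha⟩ * ⟨b, hb⟩ * (⟨b, hb⟩ * ⟨a, ha⟩)⁻¹) = 1 := by
      rw [map_mul, map_inv, map_mul, map_mul, mul_inv_eq_one]
      exact congrArg Subtype.val (hc ⟨_, hR ⟨_, rfl⟩⟩ ⟨_, hR ⟨_, rfl⟩⟩)
    have h2 := K_faith hxy (hw _ (⟨a, ha⟩ * ⟨b, hb⟩ * (⟨b, hb⟩ * ⟨a, ha⟩)⁻¹ : T).2)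
      fun n hn => (triv _ (congrArg Subtype.val h1) n hn).symm
    exact mul_inv_eq_one.1 (conj_eq_one_iff.1 h2)
  obtain ⟨g, hg⟩ := Cfsg.Agent.S4593.result hZ hcore P
    ⟨⟨fun a b => by
      obtain ⟨s, hs, e1⟩ := (hP _).1 a.2
      obtain ⟨t, ht, e2⟩ := (hP _).1 b.2
      refine Subtype.ext ?_
      rw [coe_mul, coe_mul, ← e1, ← e2, ← map_mul, ← map_mul]
      exact congrArg π (Subtype.ext (Tc _ hs _ ht))⟩⟩ (ρ ⟨k, hk.2⟩)
    (((Nat.dvd_prime_pow Nat.prime_two).1 (orderOf_dvd_of_pow_eq_one (n := 2 ^ m) (by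
      rw [← map_pow, ← map_one ρ]; exact congrArg ρ (Subtype.ext hm)))).imp fun _ h => h.2)
    (fixP k hk)
  have e1 : ρ ⟨k, hk.2⟩ = MulAut.conj g := MulEquiv.ext hg
  have g2 : g ^ 2 ^ m = 1 := by
    have : MulAut.conj (g ^ 2 ^ m) = 1 := by
      rw [map_pow, ← e1, ← map_pow, ← map_one ρ]; exact congrArg ρ (Subtype.ext hm)
    refine mem_bot.1 (hZ ▸ mem_center_iff.2 fun z => ?_)
    have := DFunLike.congr_fun this z
    rw [MulAut.conj_apply, MulAut.one_apply, mul_inv_eq_iff_eq_mul] at this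
    exact this.symm
  obtain ⟨s, hs, rfl⟩ := (hP g).1 (mem_sylow_of_norm P
    (fun u hu => by rw [← hg, fixP k hk u hu]; exact hu) g2)
  have e2 : ρ ⟨s, C.fix s.2⟩ = MulAut.conj (π s) := MulEquiv.ext fun z => by
    obtain ⟨z, rfl⟩ := hπ z
    rw [MulAut.conj_apply, ← map_inv, ← map_mul, ← map_mul]
    exact hρ _ _ _ rfl
  have := triv ((⟨s, C.fix s.2⟩ : MulAction.stabilizer G x)⁻¹ * ⟨k, hk.2⟩)
    (by rw [map_mul, map_inv, e1, e2, inv_mul_cancel])
  refine ⟨s, hs, fun n hn => ?_⟩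
  have h3 : (s : G)⁻¹ * k * n = n * ((s : G)⁻¹ * k) := this n hn
  calc k * n * k⁻¹ = s * ((s : G)⁻¹ * k * n) * k⁻¹ := by group
    _ = s * n * (s : G)⁻¹ := by rw [h3]; group

end Cf

end H97.ONT
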