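import Cfsg.Agent.Lib.ONT.Tw0
import Cfsg.Agent.Lib.ONT.Tw2

/-! If `S = R` then `T` is elementary abelian (helper84). -/

set_option autoImplicit false

namespace H97.ONT.Tw

open Subgroup

variable {G : Type*} [Group G] [Finite G] {W : Tw G}

/-- a `2`-group `P ≥ S` normalising `N` is Sylow in `P N` -/
theorem odd_sup {P : Subgroup G} (hS : W.S ≤ P) (hp : IsPGroup 2 P) (hn : P ≤ normalizer (W.N : Set G)) :
    P ⊓ W.N = W.S ∧ Odd (P.relIndex (P ⊔ W.N)) := by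
  have a : P ⊓ W.N = W.S := eq_S inf_le_right (hp.to_le inf_le_left) (le_inf hS W.S_le)
  have b := relIndex_mul_relIndex W.S P (P ⊔ W.N) hS le_sup_left
  rw [← relIndex_mul_relIndex W.S W.N (P ⊔ W.N) W.S_le le_sup_right, H1.relIndex_sup_of_le_normalizer hn,
    ← inf_relIndex_left P W.N, a, mul_comm (W.S.relIndex W.N)] at b
  exact ⟨a, (Nat.eq_of_mul_eq_mul_left (Nat.pos_of_ne_zero index_ne_zero_of_finite) b).symm ▸ W.oddS⟩

/-- extremal conjugation in `N ⟨a⟩` for a `2`-element `a` centralising `S` -/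
theorem extremal_sup {a z z' n : G} (an : a ∈ normalizer (W.N : Set G)) (ac : ∀ s ∈ W.S, s * a = a * s)
    {j : ℕ} (a2 : a ^ 2 ^ j = 1) (hz : z ∈ W.S) (zc : ∀ s ∈ W.S, s * z = z * s) (hz' : z' ∈ W.S)
    (hn : n ∈ W.N) (e : n * z' * n⁻¹ = z) : ∃ m, ∃ u ∈ W.S, m * z' * m⁻¹ = z ∧ m * a * m⁻¹ = a * u ∧
      ∀ s ∈ W.S, s * z' = z' * s → m * s * m⁻¹ ∈ W.S := by
  have pa : IsPGroup 2 (zpowers a) := fun ⟨_, k, rfl⟩ => ⟨j, Subtype.ext (by
    show (a ^ k) ^ 2 ^ j = 1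
    rw [← zpow_natCast, ← zpow_mul, mul_comm, zpow_mul, zpow_natCast, a2, one_zpow])⟩
  have pP : IsPGroup 2 (W.S ⊔ zpowers a : Subgroup G) := W.pS.to_sup_of_normal_left' pa
    (zpowers_le.2 (mem_normalizer_fintype fun s hs => by rwa [← ac s hs, mul_inv_cancel_right]))
  have nP : W.S ⊔ zpowers a ≤ normalizer (W.N : Set G) :=
    sup_le (W.S_le.trans le_normalizer) (zpowers_le.2 an)
  have cP : ∀ {x}, (∀ s ∈ W.S, s * x = x * s) → a * x = x * a → W.S ⊔ zpowers a ≤ centralizer {x} :=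
    fun h k => sup_le (fun s hs => mem_centralizer_singleton_iff.2 (h s hs))
      (zpowers_le.2 (mem_centralizer_singleton_iff.2 k))
  obtain ⟨h1, h2⟩ := odd_sup le_sup_left pP nP
  generalize hP : W.S ⊔ zpowers a = P at *
  have aP : a ∈ P := hP.le (mem_sup_right (mem_zpowers a))
  have SP : W.S ≤ P := le_sup_left.trans hP.le
  have l : P ≤ (P ⊔ W.N) ⊓ centralizer {z} := le_inf le_sup_left (cP zc (ac z hz).symm)
  rw [← relIndex_mul_relIndex _ _ _ l inf_le_left] at h2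
  have nM : n ∈ P ⊔ W.N := mem_sup_right hn
  obtain ⟨c, hc, h⟩ := conj_of_odd pP (Nat.Odd.of_mul_left h2)
    (V := (P ⊓ centralizer {z'}).map (MulAut.conj n).toMonoidHom) (by
      rintro _ ⟨s, hs, rfl⟩
      refine mem_inf.2
        ⟨mul_mem (mul_mem nM (mem_sup_left hs.1)) (inv_mem nM), mem_centralizer_singleton_iff.2 ?_⟩
      show n * s * n⁻¹ * _ = _ * (n * s * n⁻¹)
      rw [← e, conj_mul, conj_mul, mem_centralizer_singleton_iff.1 hs.2]) ((pP.to_le inf_le_left).map _)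
  have k : ∀ s ∈ P, s * z' = z' * s → c * n * s * (c * n)⁻¹ ∈ P := fun s hs f => by
    rw [show c * n * s * (c * n)⁻¹ = c * (n * s * n⁻¹) * c⁻¹ by group]
    exact h _ ⟨s, ⟨hs, mem_centralizer_singleton_iff.2 f⟩, rfl⟩
  have mM : c * n ∈ P ⊔ W.N := mul_mem hc.1 nM
  refine ⟨c * n, a⁻¹ * (c * n * a * (c * n)⁻¹), 
    h1.le (mem_inf.2 ⟨mul_mem (inv_mem aP) (k a aP (ac z' hz').symm), ?_⟩),
    ?_, (mul_inv_cancel_left _ _).symm, fun s hs f => h1.le ⟨k s (SP hs) f,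
      (mem_normalizer_iff.1 (sup_le nP le_normalizer mM) s).1 (W.S_le hs)⟩⟩
  · obtain ⟨p, hp, y, hy, f⟩ := (coe_mul_of_left_le_normalizer_right _ _ nP).le mM
    have g := mem_centralizer_singleton_iff.1 (cP ac rfl hp)
    rw [← show p * y = c * n from f, show a⁻¹ * (p * y * a * (p * y)⁻¹) =
      (p * a)⁻¹ * (p * p * y * a * y⁻¹ * p⁻¹) by group, g,
      show (a * p)⁻¹ * (p * p * y * a * y⁻¹ * p⁻¹) = p⁻¹ * a⁻¹ * p * p * y * a * y⁻¹ * p⁻¹ by group,
      mul_assoc p⁻¹, show a⁻¹ * p = p * a⁻¹ from (Commute.inv_right g).symm, mul_assoc (p⁻¹ * _),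
      inv_mul_cancel_left, ← mul_assoc, show a⁻¹ * p = p * a⁻¹ from (Commute.inv_right g).symm,
      show p * a⁻¹ * y * a * y⁻¹ * p⁻¹ = p * (a⁻¹ * y * a⁻¹⁻¹ * y⁻¹) * p⁻¹ by group]
    exact (mem_normalizer_iff.1 (nP hp) _).1
      (mul_mem ((mem_normalizer_iff.1 (inv_mem an) _).1 hy) (inv_mem hy))
  · rw [show c * n * z' * (c * n)⁻¹ = c * (n * z' * n⁻¹) * c⁻¹ by group, e,
      mem_centralizer_singleton_iff.1 hc.2, mul_inv_cancel_right]

theorem el_of_eq (h : W.S = W.R) : W.El := by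
  by_contra ne
  obtain ⟨s, hs, s1⟩ := W.exists_R
  obtain ⟨φ, hφ, f2, f4⟩ : ∃ φ ∈ W.T, φ * φ ≠ 1 ∧ φ * φ * (φ * φ) = 1 := by
    by_contra! k
    refine ne fun t ht => ?_
    obtain ⟨j, hj⟩ := W.pT ⟨t, ht⟩
    replace hj : t ^ 2 ^ j = 1 := congrArg Subtype.val hj
    induction j generalizing t with
    | zero => rw [pow_zero, pow_one] at hj; rw [hj, mul_one]
    | succ j ih =>
      by_contra c
      exact k t ht c (ih _ (mul_mem ht ht) (by rw [← pow_two, ← pow_mul, ← pow_succ', hj]))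
  obtain ⟨k, hk, e⟩ := ph_surj hs s1 hφ
  have kk := mul_mem hk hk
  have e2 : ph s (k * k) = φ * φ := by rw [ph_mul_right hs hk hk, e]
  have k4 : k * k * (k * k) = 1 := ph_eq_one hs s1 (mul_mem kk kk) (by rw [ph_mul_right hs kk kk, e2, f4])
  generalize k * k = κ at kk e2 k4
  have all : ∀ x, (∀ t ∈ W.T, t * x = x * t) → s * x = x * s → ∀ r ∈ W.S, r * x = x * r := fun x a b r hr => by
    by_cases c : r ∈ W.T
    · exact a r c
    have d : s⁻¹ * r ∈ W.T := mul_mem_T ne (inv_mem hs) (by rwa [inv_mem_iff]) (h.le hr) c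
    rw [← mul_inv_cancel_left s r, mul_assoc, a _ d, ← mul_assoc, b, mul_assoc]
  have om : ∀ t ∈ W.T, t * t = 1 → ∀ r ∈ W.S, r * t = t * r := fun t ht t2 =>
    all t (fun _ a => T_comm a ht) (mul_inv_eq_iff_eq_mul.1
      ((inv_T hs s1 ht).trans (inv_eq_of_mul_eq_one_right t2)))
  have c1 := W.comm φ hφ κ kk
  have ac : ∀ r ∈ W.S, r * (φ * κ) = φ * κ * r := all _ (fun t ht => by
      rw [← mul_assoc, T_comm ht hφ, mul_assoc, W.comm t ht κ kk, mul_assoc]) (mul_inv_eq_iff_eq_mul.1 (by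
    rw [← conj_mul, inv_T hs s1 hφ, show s * κ * s⁻¹ = ph s κ * κ by rw [ph]; group, e2]
    group))
  have a2 : φ * κ * (φ * κ) = φ * φ := by
    rw [mul_assoc, ← mul_assoc κ, ← c1, mul_assoc, k4, mul_one]
  have an : φ * κ ∈ normalizer (W.N : Set G) :=
    mul_mem (le_normalizer (W.T_le_N hφ)) (U_le_norm W.U_N kk)
  generalize φ * κ = a at ac a2 an
  have zT := mul_mem hφ hφ
  generalize φ * φ = z at zT f2 f4 a2
  obtain ⟨n, hn, z1, z2⟩ := not_isolated (W.T_le zT) f2 f4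
  have z4 : n * z * n⁻¹ * (n * z * n⁻¹) = 1 := by rw [conj_mul, f4, mul_one, mul_inv_cancel]
  obtain ⟨m, u, hu, m1, m2, m3⟩ := extremal_sup an ac (j := 2) (by
    rw [show 2 ^ 2 = 2 * 2 from rfl, pow_mul, pow_two, pow_two, a2, f4]) (W.T_le zT) (om z zT f4) z1
    (inv_mem hn) (by group)
  generalize n * z * n⁻¹ = z' at z1 z2 z4 m1 m3
  have u2 : u * u ≠ 1 := fun f => z2 (by
    have : m * z * m⁻¹ = z := by
      rw [← a2, ← conj_mul, m2, mul_assoc, ← mul_assoc u, ac u hu, mul_assoc, f, mul_one]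
    simpa using m1.trans this.symm)
  have uc : ∀ r ∈ W.S, r * z' = z' * r → m * r * m⁻¹ * u = u * (m * r * m⁻¹) := fun r hr f => by
    have g : m * r * m⁻¹ * (a * u) = a * u * (m * r * m⁻¹) := by rw [← m2, conj_mul, conj_mul, ac r hr]
    rwa [← mul_assoc, ac _ (m3 r hr f), mul_assoc, mul_assoc a, mul_right_inj] at g
  have inv : ∀ r ∈ W.S, r ∉ W.T → r * u = u * r → u ∉ W.T := fun r hr r1 f g =>
    u2 (mul_eq_one_iff_eq_inv.2 ((mul_inv_eq_iff_eq_mul.2 f).symm.trans (inv_T (h.le hr) r1 g)))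
  by_cases c : ∀ t ∈ W.T, t * t = 1 → m * t * m⁻¹ ∈ W.T
  · obtain ⟨⟨t, ht, t2⟩, f⟩ := Finite.surjective_of_injective
      (f := fun t : {t // t ∈ W.T ∧ t * t = 1} => (⟨_, c t t.2.1 t.2.2, by
        rw [conj_mul, t.2.2, mul_one, mul_inv_cancel]⟩ : {t // t ∈ W.T ∧ t * t = 1}))
      (fun a b e => Subtype.ext (by simpa using e)) ⟨z, zT, f4⟩
    obtain rfl : t = z' := by simpa using (congrArg Subtype.val f).trans m1.symm
    have mn : m ∈ normalizer (W.S : Set G) := mem_normalizer_fintype fun r hr => m3 r hr (om t ht t2 r hr)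
    have uz : ∀ r ∈ W.S, r * u = u * r := fun r hr => by
      have b := (mem_normalizer_iff.1 (inv_mem mn) r).1 hr
      simpa [mul_assoc] using uc _ b (om t ht t2 _ b)
    refine ne fun v hv => mul_eq_one_iff_eq_inv.2 ?_
    rw [← inv_T (h.le hu) (inv s (h.ge hs) s1 (uz s (h.ge hs))) hv, ← uz v (W.T_le hv), mul_inv_cancel_right]
  · push Not at c
    obtain ⟨t, ht, t2, t1⟩ := c
    have b := (om t ht t2 z' z1).symm
    have rS := m3 t (W.T_le ht) b
    have r2 : m * t * m⁻¹ * (m * t * m⁻¹) = 1 := by rw [conj_mul, t2, mul_one, mul_inv_cancel]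
    have rc := uc t (W.T_le ht) b
    generalize m * t * m⁻¹ = r at t1 rS r2 rc
    have d := inv_T (h.le rS) t1 (mul_mem_T ne (h.le rS) t1 (h.le hu) (inv r rS t1 rc))
    rw [← mul_assoc, r2, one_mul, mul_inv_rev, inv_eq_of_mul_eq_one_right r2, ← rc,
      eq_comm, inv_mul_eq_iff_eq_mul, ← mul_assoc, ← rc, mul_assoc] at d
    exact u2 (by simpa using d.symm)

end H97.ONT.Tw
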