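import Cfsg.Agent.Lib.ONT.TwG1
import Cfsg.Agent.Lib.ONT.Tw2

/-! The element `g` centralises `T` (blueprint/ONT, package TwG2). -/

set_option autoImplicit false
set_option linter.unusedSectionVars false

namespace H97.ONT.Tw

open Subgroup

variable {G : Type*} [Group G] [Finite G] {W : Tw G}

namespace G2

theorem conj_U (e : W.El) (hc : Nat.card W.R = Nat.card W.T * Nat.card W.T) {k t : G}
    (hk : k ∈ W.U) (k1 : k ≠ 1) (ht : t ∈ W.T) : IsConj k (t * k) := by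
  obtain ⟨r, -, h⟩ := ph_surj_left e hc hk k1 ht
  exact isConj_iff.2 ⟨r, by rw [← h]; unfold ph; group⟩

theorem conj_T (e : W.El) (hc : Nat.card W.R = Nat.card W.T * Nat.card W.T) {k t : G}
    (hk : k ∈ W.U) (ht : t ∈ W.T) (t1 : t ≠ 1) : IsConj t (t * k) := by
  have h1 := conj_U e hc (wT' ht) (fun h => t1 (by
    rw [show t = W.w * (W.w⁻¹ * t * W.w) * W.w⁻¹ by group, h]; group)) (wU' hk)
  obtain ⟨c, hc⟩ := isConj_iff.1 h1
  refine isConj_iff.2 ⟨W.w * c * W.w⁻¹, ?_⟩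
  rw [W.comm t ht k hk]
  calc W.w * c * W.w⁻¹ * t * (W.w * c * W.w⁻¹)⁻¹ = W.w * (c * (W.w⁻¹ * t * W.w) * c⁻¹) * W.w⁻¹ := by group
    _ = _ := by rw [hc]; group

theorem conj_TT (e : W.El) (hc : Nat.card W.R = Nat.card W.T * Nat.card W.T) {t t' : G}
    (ht : t ∈ W.T) (t1 : t ≠ 1) (ht' : t' ∈ W.T) (t1' : t' ≠ 1) : IsConj t t' := by
  obtain ⟨k, hk, k1⟩ := W.exists_U
  exact ((conj_T e hc hk ht t1).trans (conj_U e hc hk k1 ht).symm).trans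
    ((conj_U e hc hk k1 ht').trans (conj_T e hc hk ht' t1').symm)

theorem exists_z (W : Tw G) : ∃ z ∈ W.T, z ≠ 1 ∧ ∀ s ∈ W.S, s * z = z * s := by
  obtain ⟨k, hk, k1⟩ := W.exists_U
  have hne : W.S ≠ ⊥ := fun h => W.T_ne (eq_bot_iff.2 (h ▸ W.T_le))
  obtain ⟨z, hz, z1, -, hc⟩ := exists_cent_inv W.pS (p_sup_U W.U_S W.pS) hne (fun x hx a ha => by
    obtain ⟨s, hs, k, hk, rfl⟩ := (mem_sup_U W.U_S).1 hx
    rw [show s * k * a * (s * k)⁻¹ = s * (k * a * k⁻¹) * s⁻¹ by group]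
    exact mul_mem (mul_mem hs (W.U_S k hk a ha)) (inv_mem hs))
  exact ⟨z, cenS hk k1 hz (hc k (mem_sup_right hk)).symm, z1, fun s hs => hc s (mem_sup_left hs)⟩

theorem exists_syl {A C : Subgroup G} (hA : IsPGroup 2 A) (hle : A ≤ C) :
    ∃ P : Subgroup G, A ≤ P ∧ P ≤ C ∧ IsPGroup 2 P ∧ Odd (P.relIndex C) := by
  have : Fact (Nat.Prime 2) := ⟨Nat.prime_two⟩
  obtain ⟨P, hP⟩ := (hA.comap_subtype (K := C)).exists_le_sylow
  refine ⟨(P : Subgroup C).map C.subtype, fun a ha => ⟨⟨a, hle ha⟩, hP ha, rfl⟩, map_subtype_le _,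
    P.isPGroup'.map _, ?_⟩
  rw [relIndex, subgroupOf, comap_map_eq_self_of_injective C.subtype_injective,
    ← Nat.not_even_iff_odd, even_iff_two_dvd]
  exact P.not_dvd_index

/-- another choice of the Sylow subgroup -/
def chg (W : Tw G) (S : Subgroup G) (hN : S ≤ W.N) (hR : W.R ≤ S) (hp : IsPGroup 2 S)
    (hc : Nat.card S = Nat.card W.S) (hU : ∀ k ∈ W.U, ∀ s ∈ S, k * s * k⁻¹ ∈ S) : Tw G :=
  { W with
    S := S
    S_le := hN
    T_le := W.T_le_R.trans hR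
    pS := hp
    oddS := odd_of_card hN hc
    U_S := hU
    T_lt := fun h => by
      obtain ⟨r, hr, r1⟩ := W.exists_R
      exact r1 (h ▸ hR hr) }

theorem exists_S (e : W.El) (hc : Nat.card W.R = Nat.card W.T * Nat.card W.T) {t : G}
    (ht : t ∈ W.T) (t1 : t ≠ 1) : ∃ S : Subgroup G, S ≤ W.N ∧ W.R ≤ S ∧ IsPGroup 2 S ∧
      Nat.card S = Nat.card W.S ∧ (∀ k ∈ W.U, ∀ s ∈ S, k * s * k⁻¹ ∈ S) ∧ ∀ s ∈ S, s * t = t * s := by
  obtain ⟨z, hz, z1, cz⟩ := exists_z W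
  obtain ⟨m, hm⟩ := isConj_iff.1 (conj_TT e hc hz z1 ht t1)
  have mN := W.ti m z (W.T_le_N hz) z1 (hm ▸ W.T_le_N ht)
  obtain ⟨P, h1, h2, h3, h4⟩ := exists_syl (C := (W.N ⊔ W.U) ⊓ centralizer {t}) (p_sup_U U_R' W.pR)
    (sup_le (fun r hr => ⟨mem_sup_left (W.R_le_N hr), mem_centralizer_singleton_iff.2 (e.comm hr ht)⟩)
      fun k hk => ⟨mem_sup_right hk, mem_centralizer_singleton_iff.2 (W.comm t ht k hk).symm⟩)
  obtain ⟨c, hc, h5⟩ := conj_of_odd h3 h4 (V := W.S.map (MulAut.conj m).toMonoidHom) (by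
    rintro _ ⟨s, hs, rfl⟩
    refine ⟨mem_sup_left (mN s (W.S_le hs)), mem_centralizer_singleton_iff.2 ?_⟩
    show m * s * m⁻¹ * t = t * (m * s * m⁻¹)
    rw [← hm]
    calc m * s * m⁻¹ * (m * z * m⁻¹) = m * (s * z) * m⁻¹ := by group
      _ = _ := by rw [cz s hs]; group) (W.pS.map _)
  have cN : ∀ n ∈ W.N, c * n * c⁻¹ ∈ W.N := fun n hn => by
    obtain ⟨s, hs, k, hk, rfl⟩ := (mem_sup_U W.U_N).1 hc.1
    rw [show s * k * n * (s * k)⁻¹ = s * (k * n * k⁻¹) * s⁻¹ by group]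
    exact mul_mem (mul_mem hs (W.U_N k hk n hn)) (inv_mem hs)
  have hp : IsPGroup 2 (P ⊓ W.N : Subgroup G) := h3.to_inf_left
  refine ⟨P ⊓ W.N, inf_le_right, le_inf (le_sup_left.trans h1) W.R_le_N, hp,
    le_antisymm (card_le_S inf_le_right hp) ?_, fun k hk s hs => ⟨?_, W.U_N k hk s hs.2⟩,
    fun s hs => mem_centralizer_singleton_iff.1 (h2 hs.1).2⟩
  · rw [← card_map_of_injective (f := (MulAut.conj (c * m)).toMonoidHom) (MulAut.conj _).injective]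
    refine card_le_of_le ?_
    rintro _ ⟨s, hs, rfl⟩
    show c * m * s * (c * m)⁻¹ ∈ _
    rw [show c * m * s * (c * m)⁻¹ = c * (m * s * m⁻¹) * c⁻¹ by group]
    exact ⟨h5 _ ⟨s, hs, rfl⟩, cN _ (mN s (W.S_le hs))⟩
  · have := h1 (mem_sup_right hk)
    exact P.mul_mem (P.mul_mem this hs.1) (P.inv_mem this)

end G2

open G2 in
theorem Gm.cent_T {g : G} (h : W.Gm g) (e : W.El) {t : G} (ht : t ∈ W.T) : g * t = t * g := by
  by_cases t1 : t = 1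
  · rw [t1, mul_one, one_mul]
  obtain ⟨S, hN, hR, hp, hc, hU, ct⟩ := exists_S e h.card_R ht t1
  set W' := chg W S hN hR hp hc hU with hW
  have eR : W'.R = W.R := by
    refine (eq_of_le_of_card_ge (fun r hr => ?_) ?_).symm
    · exact ⟨hR hr, hr.2⟩
    · rw [h.card_R]; exact W'.card_R_le
  have hne : W'.S ≠ W'.R := fun h1 => by
    have h2 : W.R = W.S := eq_of_le_of_card_ge W.R_le (by rw [← hc, ← eR, ← h1]; rfl)
    exact h.not (h2 ▸ h.mem)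
  obtain ⟨g', h'⟩ := exists_gm hne
  obtain ⟨r, hr, r1⟩ := W.exists_R
  obtain ⟨k, hk, e1⟩ := ph_surj hr r1 (sq_mem hr)
  obtain ⟨k', hk', e2⟩ := ph_surj hr r1 ht
  have k1 : k' ≠ 1 := by rintro rfl; exact t1 (by rw [← e2]; unfold ph; group)
  have a1 := (h.act e hr (h.ph_mem hk') hk hk' r1 (h.ph_not e hk' k1) ((e.sq_iff hr hk).2 e1)
    (h.ph_sq e hk')).1
  have a2 := (h'.act (W := W') e (eR ▸ hr) (eR ▸ h.ph_mem hk') hk hk' r1 (h.ph_not e hk' k1)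
    ((e.sq_iff hr hk).2 e1) (h.ph_sq e hk')).1
  rw [e2] at a1 a2
  rw [← a2, ct g' h'.mem, mul_inv_cancel_right, mul_inv_eq_iff_eq_mul] at a1
  exact a1

end H97.ONT.Tw
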